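import Cfsg.Agent.Lib.Known.OneComposite.Trace
import Cfsg.Agent.Lib.PGroups.FixedPointRank
import Cfsg.Agent.Lib.CIT.EPPO
import Cfsg.Agent.S0183

/-!
Owner: helper26. Groups of odd order all of whose elements have prime order, transitive on the non-identity
elements of an elementary abelian 2-group: cyclic regular, or extended by a group of order `q`.
-/

set_option autoImplicit false
set_option linter.all false

namespace CfsgLib.Known.OneComposite

open Subgroup
open scoped commutatorElement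

section

variable {A S : Type*} [Group A] [Finite A] [CommGroup S] [Finite S]

/-- Hypotheses on an automizer. -/
structure Aut (q : ℕ) (φ : A →* MulAut S) : Prop where
  inj : Function.Injective φ
  sq : ∀ x : S, x * x = 1
  four : 4 ≤ Nat.card S
  odd : Odd (Nat.card A)
  qprime : q.Prime
  trans : ∀ a b : S, a ≠ 1 → b ≠ 1 → ∃ g : A, φ g a = b
  ord : ∀ g : A, g ≠ 1 → (orderOf g).Prime
  fix : ∀ g : A, g ≠ 1 → ∀ a : S, a ≠ 1 → φ g a = a → orderOf g = q

namespace Aut

variable {q : ℕ} {φ : A →* MulAut S} (h : Aut q φ)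
include h

theorem apply_mul (g k : A) (a : S) : φ (g * k) a = φ g (φ k a) := by rw [map_mul]; rfl

theorem exists_ne : ∃ a : S, a ≠ 1 := by
  haveI : Nontrivial S := Finite.one_lt_card_iff_nontrivial.1 (lt_of_lt_of_le (by norm_num) h.four)
  exact _root_.exists_ne 1

theorem coprime_card {p : ℕ} [Fact p.Prime] (hp : p ∣ Nat.card A) : (Nat.card S).Coprime p := by
  haveI : Fact (Nat.Prime 2) := ⟨Nat.prime_two⟩
  have hS : IsPGroup 2 S := fun x => ⟨1, by rw [pow_one, pow_two, h.sq]⟩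
  obtain ⟨k, hk⟩ := hS.exists_card_eq
  rw [hk]
  exact Nat.Coprime.pow_left _ ((Nat.coprime_primes Nat.prime_two (Fact.out)).2 fun e =>
    h.odd.not_two_dvd_nat (e ▸ hp))

theorem solvable : Group.IsSolvable A :=
  Cfsg.Agent.S0183.result h.odd (CfsgLib.CIT.eppo_cn fun g hg => (h.ord g hg).isPrimePow)

/-- Stabilisers in a normal subgroup of two non-identity points are conjugate. -/
theorem card_stab (N : Subgroup A) (hN : N.Normal) {a b : S} (ha : a ≠ 1) (hb : b ≠ 1) :
    Nat.card {g : N // φ (g : A) a = a} = Nat.card {g : N // φ (g : A) b = b} := by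
  obtain ⟨k, hk⟩ := h.trans a b ha hb
  refine Nat.card_congr (Equiv.subtypeEquiv
    { toFun := fun g => ⟨k * g * k⁻¹, hN.conj_mem _ g.2 k⟩
      invFun := fun g => ⟨k⁻¹ * g * k, hN.conj_mem' _ g.2 k⟩
      left_inv := fun g => Subtype.ext (by simp [mul_assoc])
      right_inv := fun g => Subtype.ext (by simp [mul_assoc]) } fun g => ?_)
  show φ (g : A) a = a ↔ φ (k * g * k⁻¹) b = b
  rw [← hk, ← h.apply_mul, inv_mul_cancel_right, h.apply_mul]
  exact (EmbeddingLike.apply_eq_iff_eq (φ k)).symm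

omit [Finite A] [Finite S] in
theorem ker_eq_one {g : A} (hg : ∀ a : S, φ g a = a) : g = 1 :=
  h.inj (by rw [map_one]; exact MulEquiv.ext hg)

/-- A normal abelian subgroup acts without fixed points. -/
theorem fpf_of_abelian (R : Subgroup A) (hR : R.Normal) (hc : ∀ x ∈ R, ∀ y ∈ R, x * y = y * x)
    {g : A} (hg : g ∈ R) {a : S} (ha : a ≠ 1) (hga : φ g a = a) : g = 1 := by
  classical
  refine h.ker_eq_one fun b => ?_
  by_cases hb : b = 1
  · rw [hb, map_one]
  -- all point stabilisers coincide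
  by_cases hab : a * b = 1
  · rw [mul_left_cancel (hab.trans (h.sq a).symm)]
    exact hga
  let st : S → Subgroup A := fun v =>
    { carrier := {g | g ∈ R ∧ φ g v = v}
      one_mem' := ⟨one_mem R, by rw [map_one]; rfl⟩
      mul_mem' := fun {x y} hx hy => ⟨mul_mem hx.1 hy.1, by rw [h.apply_mul, hy.2, hx.2]⟩
      inv_mem' := fun {x} hx => ⟨inv_mem hx.1, by
        conv_lhs => rw [← hx.2]
        rw [← h.apply_mul, inv_mul_cancel, map_one]
        rfl⟩ }
  have hcard : ∀ v w : S, v ≠ 1 → w ≠ 1 → Nat.card (st v) = Nat.card (st w) := fun v w hv hw => by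
    have e : ∀ u : S, Nat.card (st u) = Nat.card {g : R // φ (g : A) u = u} := fun u =>
      Nat.card_congr ((Equiv.subtypeSubtypeEquivSubtypeInter (fun g => g ∈ R) (fun g => φ g u = u)).symm.trans
        (Equiv.refl _))
    rw [e, e]
    exact h.card_stab R hR hv hw
  by_cases heq : st a = st b
  · exact (heq.le ⟨hg, hga⟩).2
  exfalso
  have hle : st (a * b) ≤ st a ⊓ st b := by
    rintro x ⟨hxR, hx⟩
    rw [map_mul] at hx
    set w := φ x a * a with hw
    have hwb : w = φ x b * b := by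
      have := congrArg (fun z => z * (a * φ x b)) hx
      calc w = φ x a * φ x b * (a * φ x b) * 1 := by
            rw [hw, mul_one, mul_mul_mul_comm, h.sq, mul_one]
        _ = a * b * (a * φ x b) * 1 := by rw [hx]
        _ = φ x b * b * (a * a) := by rw [mul_one]; simp only [mul_assoc, mul_comm, mul_left_comm]
        _ = _ := by rw [h.sq, mul_one]
    have hfix : ∀ v, ∀ y ∈ st v, φ y (φ x v * v) = φ x v * v := fun v y hy => by
      rw [map_mul, hy.2, ← h.apply_mul, hc y hy.1 x hxR, h.apply_mul, hy.2]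
    by_contra hno
    by_cases hw1 : w = 1
    · have hinv : ∀ v : S, v⁻¹ = v := fun v => inv_eq_of_mul_eq_one_right (h.sq v)
      refine hno ⟨⟨hxR, ?_⟩, ⟨hxR, ?_⟩⟩
      · exact ((mul_eq_one_iff_eq_inv.1 (hw.symm.trans hw1)).trans (hinv a))
      · exact ((mul_eq_one_iff_eq_inv.1 (hwb.symm.trans hw1)).trans (hinv b))
    · have h1 : st a ≤ st w := fun y hy => ⟨hy.1, hw ▸ hfix a y hy⟩
      have h2 : st b ≤ st w := fun y hy => ⟨hy.1, hwb ▸ hfix b y hy⟩
      refine heq ?_
      rw [eq_of_le_of_card_ge h1 (hcard w a hw1 ha).le, eq_of_le_of_card_ge h2 (hcard w b hw1 hb).le]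
  have h1 := eq_of_le_of_card_ge (hle.trans inf_le_left) (hcard a (a * b) ha hab).le
  have h2 := eq_of_le_of_card_ge (hle.trans inf_le_right) (hcard b (a * b) hb hab).le
  exact heq (h1.symm.trans h2)

/-- A maximal normal abelian subgroup has prime order. -/
theorem exists_regular : ∃ (R : Subgroup A) (r : ℕ), R.Normal ∧ r.Prime ∧ Nat.card R = r ∧
    (∀ g ∈ R, g ≠ 1 → ∀ a : S, a ≠ 1 → φ g a ≠ a) ∧ centralizer (R : Set A) = R := by
  classical
  have hnt : Nontrivial A := by
    by_contra hn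
    rw [not_nontrivial_iff_subsingleton] at hn
    obtain ⟨a, ha⟩ := h.exists_ne
    have hall : ∀ b : S, b ≠ 1 → b = a := fun b hb => by
      obtain ⟨g, hg⟩ := h.trans a b ha hb
      rw [Subsingleton.elim g 1, map_one] at hg
      exact hg.symm
    have : Fintype S := Fintype.ofFinite S
    have hle : (Finset.univ : Finset S) ⊆ {1, a} := fun b _ => by
      by_cases hb : b = 1
      · simp [hb]
      · simp [hall b hb]
    have := (Finset.card_le_card hle).trans Finset.card_le_two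
    rw [Finset.card_univ, ← Nat.card_eq_fintype_card] at this
    have := h.four
    omega
  let P : Subgroup A → Prop := fun R => R.Normal ∧ ∀ x ∈ R, ∀ y ∈ R, x * y = y * x
  have hsol := h.solvable
  obtain ⟨R₀, hR₀, hR₀ne⟩ : ∃ R₀, P R₀ ∧ R₀ ≠ ⊥ := by
    obtain ⟨n, hn⟩ := (Group.isSolvable_def A).1 hsol
    have hex : ∃ n, derivedSeries A n = ⊥ := ⟨n, hn⟩
    obtain ⟨m, hm⟩ : ∃ m, Nat.find hex = m + 1 := by
      refine ⟨Nat.find hex - 1, (Nat.succ_pred_eq_of_ne_zero fun e => ?_).symm⟩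
      have := Nat.find_spec hex
      rw [e, derivedSeries_zero] at this
      exact top_ne_bot this
    refine ⟨derivedSeries A m, ⟨derivedSeries_normal A m, fun x hx y hy => ?_⟩,
      Nat.find_min hex (by omega)⟩
    have hb := Nat.find_spec hex
    rw [hm, derivedSeries_succ] at hb
    exact commutatorElement_eq_one_iff_mul_comm.1 (mem_bot.1 (hb.le (commutator_mem_commutator hx hy)))
  obtain ⟨R, hR₀R, hR⟩ := Finite.exists_le_maximal (p := P) (a := R₀) hR₀
  obtain ⟨hRn, hRc⟩ := hR.prop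
  obtain ⟨g₀, hg₀, hg₀1⟩ := R.bot_or_exists_ne_one.resolve_left fun e => hR₀ne (le_bot_iff.1 (e ▸ hR₀R))
  set r := orderOf g₀ with hr
  have hrp : r.Prime := h.ord g₀ hg₀1
  haveI : Fact r.Prime := ⟨hrp⟩
  have hfpf : ∀ g ∈ R, g ≠ 1 → ∀ a : S, a ≠ 1 → φ g a ≠ a := fun g hg hg1 a ha e =>
    hg1 (h.fpf_of_abelian R hRn hRc hg ha e)
  have hexp : ∀ g : A, g ≠ 1 → g * g₀ = g₀ * g → orderOf g = r := by
    intro g hg1 hc
    by_contra hne
    have hp := h.ord g hg1
    have ho : orderOf (g * g₀) = orderOf g * r := (show Commute g g₀ from hc).orderOf_mul_eq_mul_orderOf_of_coprime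
      ((Nat.coprime_primes hp hrp).2 hne)
    have hne1 : g * g₀ ≠ 1 := fun e => by
      rw [e, orderOf_one] at ho
      have := hp.two_le
      have := hrp.two_le
      nlinarith
    have := h.ord _ hne1
    rw [ho] at this
    exact Nat.not_prime_mul hp.one_lt.ne' hrp.one_lt.ne' this
  have hcyc : R = zpowers g₀ := by
    refine le_antisymm ?_ (zpowers_le.2 hg₀)
    intro g hg
    by_contra hgz
    have hg1 : g ≠ 1 := fun e => hgz (e ▸ one_mem _)
    haveI : Nontrivial S := Finite.one_lt_card_iff_nontrivial.1 (lt_of_lt_of_le (by norm_num) h.four)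
    obtain ⟨x, hx, hxo, m, hm1, hm⟩ := CfsgLib.PGroups.FixRank.exists_fixed (M := S) φ
      (h.coprime_card (hr ▸ orderOf_dvd_natCard g₀)) hr.symm (hexp g hg1 (hRc g hg g₀ hg₀)) (hRc g₀ hg₀ g hg)
      hgz
    have hxR : x ∈ R := (closure_le R).2 (by rintro y (rfl | rfl); exacts [hg₀, hg]) hx
    exact hfpf x hxR (fun e => by rw [e, orderOf_one] at hxo; exact hrp.one_lt.ne hxo) m hm1 hm
  have hRcard : Nat.card R = r := by rw [hcyc, Nat.card_zpowers]
  refine ⟨R, r, hRn, hrp, hRcard, hfpf, ?_⟩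
  -- `R` is its own centraliser
  set C := centralizer (R : Set A) with hC
  have hRC : R ≤ C := fun x hx => mem_centralizer_iff.2 fun y hy => hRc y hy x hx
  have hCn : C.Normal := by
    haveI := hRn
    exact inferInstance
  by_contra hne
  have hCp : IsPGroup r C := fun x => ⟨1, by
    rw [pow_one]
    by_cases hx : (x : A) = 1
    · rw [show x = 1 from Subtype.ext hx, one_pow]
    · refine Subtype.ext ?_
      rw [coe_pow, ← hexp x hx (mem_centralizer_iff.1 x.2 g₀ hg₀).symm, pow_orderOf_eq_one, coe_one]⟩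
  have hZ : center C = R.subgroupOf C := by
    refine le_antisymm ?_ (fun (x : C) hx => mem_center_iff.2 fun y => Subtype.ext
      (mem_centralizer_iff.1 y.2 (x : A) (mem_subgroupOf.1 hx)).symm)
    have hZn : ((center C).map C.subtype).Normal := ⟨fun x hx g => by
      obtain ⟨z, hz, rfl⟩ := hx
      refine ⟨⟨g * z * g⁻¹, hCn.conj_mem _ z.2 g⟩, mem_center_iff.2 fun y => Subtype.ext ?_, rfl⟩
      have hy : g⁻¹ * (y : A) * g ∈ C := hCn.conj_mem' _ y.2 g
      have hcm : g⁻¹ * (y : A) * g * z = z * (g⁻¹ * y * g) := congrArg Subtype.val (mem_center_iff.1 hz ⟨_, hy⟩)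
      calc (y : A) * (g * z * g⁻¹) = g * (g⁻¹ * y * g * z) * g⁻¹ := by group
        _ = g * (z * (g⁻¹ * y * g)) * g⁻¹ := by rw [hcm]
        _ = g * z * g⁻¹ * y := by group⟩
    have hle : R ≤ (center C).map C.subtype := fun x hx => ⟨⟨x, hRC hx⟩, mem_center_iff.2 fun y => Subtype.ext
      (mem_centralizer_iff.1 y.2 x hx).symm, rfl⟩
    have := hR.le_of_ge (y := (center C).map C.subtype) ⟨hZn, fun x hx y hy => by
      obtain ⟨x', hx', rfl⟩ := hx
      obtain ⟨y', -, rfl⟩ := hy
      exact (congrArg Subtype.val (mem_center_iff.1 hx' y')).symm⟩ hle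
    intro x hx
    exact this ⟨x, hx, rfl⟩
  haveI hRCn : (R.subgroupOf C).Normal := hZ ▸ inferInstance
  have hq1 : Nontrivial (C ⧸ R.subgroupOf C) := QuotientGroup.nontrivial_iff.2 fun e =>
    hne (le_antisymm (subgroupOf_eq_top.1 e) hRC)
  haveI := (hCp.to_quotient (R.subgroupOf C)).center_nontrivial
  obtain ⟨⟨hbar, hbarc⟩, hbar1⟩ := _root_.exists_ne (1 : center (C ⧸ R.subgroupOf C))
  obtain ⟨h', rfl⟩ := QuotientGroup.mk_surjective hbar
  have hh'R : (h' : A) ∉ R := fun e => hbar1 (Subtype.ext ((QuotientGroup.eq_one_iff _).2 e))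
  have hh'c : ∀ c ∈ C, ⁅(h' : A), c⁆ ∈ R := fun c hc => by
    have := mem_center_iff.1 hbarc (QuotientGroup.mk ⟨c, hc⟩)
    have h2 : QuotientGroup.mk' (R.subgroupOf C) ⁅h', ⟨c, hc⟩⁆ = 1 := by
      rw [map_commutatorElement]
      exact commutatorElement_eq_one_iff_mul_comm.2 this.symm
    exact mem_subgroupOf.1 ((QuotientGroup.eq_one_iff _).1 h2)
  have hh'1 : (h' : A) ≠ 1 := fun e => hh'R (e ▸ one_mem R)
  have hcomm' : Commute g₀ (h' : A) := mem_centralizer_iff.1 h'.2 g₀ hg₀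
  haveI : Nontrivial S := Finite.one_lt_card_iff_nontrivial.1 (lt_of_lt_of_le (by norm_num) h.four)
  obtain ⟨x, hx, hxo, v₁, hv₁, hxv⟩ := CfsgLib.PGroups.FixRank.exists_fixed (M := S) φ
    (h.coprime_card (hr ▸ orderOf_dvd_natCard g₀)) hr.symm (hexp h' hh'1 hcomm'.eq.symm) hcomm'
    (fun e => hh'R (hcyc ▸ e))
  have hx1 : x ≠ 1 := fun e => by rw [e, orderOf_one] at hxo; exact hrp.one_lt.ne hxo
  have hxC : x ∈ C := (closure_le C).2 (by rintro y (rfl | rfl); exacts [hRC hg₀, h'.2]) hx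
  have hxc : ∀ c ∈ C, ⁅x, c⁆ ∈ R := by
    intro c hc
    suffices hall : ∀ w ∈ closure ({g₀, (h' : A)} : Set A), ⁅w, c⁆ ∈ R from hall x hx
    intro w hw
    induction hw using Subgroup.closure_induction with
    | mem y hy =>
      rcases hy with e | e
      · rw [e, commutatorElement_eq_one_iff_mul_comm.2 (mem_centralizer_iff.1 hc g₀ hg₀)]
        exact one_mem R
      · rw [show y = (h' : A) from e]
        exact hh'c c hc
    | one => simp
    | mul y z _ _ hy hz =>
      rw [commutatorElement_mul_left_eq_conj_mul]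
      exact mul_mem (hRn.conj_mem _ hz y) hy
    | inv y _ hy =>
      rw [show ⁅y⁻¹, c⁆ = y⁻¹ * ⁅y, c⁆⁻¹ * y⁻¹⁻¹ by simp only [commutatorElement_def]; group]
      exact hRn.conj_mem _ (inv_mem hy) _
  have hxR : x ∉ R := fun e => hfpf x e hx1 v₁ hv₁ hxv
  obtain ⟨c, hcC, hc1⟩ : ∃ c ∈ C, ⁅x, c⁆ ≠ 1 := by
    by_contra hall
    push Not at hall
    refine hxR ?_
    have : (⟨x, hxC⟩ : C) ∈ center C := mem_center_iff.2 fun y => Subtype.ext
      (commutatorElement_eq_one_iff_mul_comm.1 (hall y y.2)).symm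
    rwa [hZ, mem_subgroupOf] at this
  set x₂ := c * x * c⁻¹ with hx₂
  set z := x⁻¹ * x₂ with hz
  have hzR : z ∈ R := by
    have := hRn.conj_mem' _ (inv_mem (hxc c hcC)) x
    convert this using 1
    rw [hz, hx₂, commutatorElement_def]
    group
  have hz1 : z ≠ 1 := fun e => hc1 (by
    have h3 : x₂ = x := (inv_mul_eq_one.1 e).symm
    rw [hx₂] at h3
    rw [commutatorElement_def, show x * c * x⁻¹ * c⁻¹ = x * (c * x * c⁻¹)⁻¹ by group, h3, mul_inv_cancel])
  have hxR' : ∀ y ∈ R, x * y = y * x := fun y hy => (mem_centralizer_iff.1 hxC y hy).symm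
  set v₂ := φ c v₁ with hv₂
  have hx₂v : φ x₂ v₂ = v₂ := by
    rw [hx₂, hv₂, ← h.apply_mul, inv_mul_cancel_right, h.apply_mul, hxv]
  have hv₂1 : v₂ ≠ 1 := fun e => hv₁ ((map_eq_one_iff (φ c) (φ c).injective).1 e)
  -- common fixed points of two conjugates of `x` are trivial
  have hcommon : ∀ y₁ y₂ : A, y₁⁻¹ * y₂ ∈ R → y₁ ≠ y₂ → ∀ w : S, φ y₁ w = w → φ y₂ w = w → w = 1 := by
    intro y₁ y₂ hy hne' w h1 h2
    by_contra hw
    refine hfpf _ hy (fun e => hne' (inv_mul_eq_one.1 e)) w hw ?_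
    rw [h.apply_mul, h2]
    conv_lhs => rw [← h1]
    rw [← h.apply_mul, inv_mul_cancel, map_one]
    rfl
  -- the projection onto the fixed points of `y`
  let N : A → S → S := fun y w => ∏ j ∈ Finset.range r, φ (y ^ j) w
  have hrodd : Odd r := h.odd.of_dvd_nat (hr ▸ orderOf_dvd_natCard g₀)
  have hNfix : ∀ y w, y ^ r = 1 → φ y (N y w) = N y w := by
    intro y w hy
    rw [map_prod]
    have e : ∀ j, φ y (φ (y ^ j) w) = φ (y ^ (j + 1)) w := fun j => by rw [pow_succ', h.apply_mul]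
    simp only [e]
    have h2 := Finset.prod_range_succ' (fun j => φ (y ^ j) w) r
    have h3 := Finset.prod_range_succ (fun j => φ (y ^ j) w) r
    rw [h3, hy, pow_zero] at h2
    exact (mul_right_cancel h2).symm
  have hNid : ∀ y w, φ y w = w → N y w = w := by
    intro y w hw
    have e : ∀ j, φ (y ^ j) w = w := fun j => by
      induction j with
      | zero => rw [pow_zero, map_one]; rfl
      | succ j ih => rw [pow_succ, h.apply_mul, hw, ih]
    simp only [N, e, Finset.prod_const, Finset.card_range]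
    obtain ⟨m, hm⟩ := hrodd
    rw [hm, pow_succ, pow_mul, pow_two, h.sq, one_pow, one_mul]
  have hNmul : ∀ y v w, N y (v * w) = N y v * N y w := fun y v w => by
    simp only [N, map_mul, Finset.prod_mul_distrib]
  have hpowr : ∀ y ∈ C, y ^ r = 1 := fun y hy => by
    obtain hy1 | hy1 := eq_or_ne y 1
    · rw [hy1, one_pow]
    · rw [← hexp y hy1 (mem_centralizer_iff.1 hy g₀ hg₀).symm, pow_orderOf_eq_one]
  have hCc : ∀ y ∈ C, ∀ z' ∈ R, y * z' = z' * y := fun y hy z' hz' => (mem_centralizer_iff.1 hy z' hz').symm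
  have hNzero : ∀ y₁ y₂, y₁ ∈ C → y₂ ∈ C → y₁⁻¹ * y₂ ∈ R → y₁ ≠ y₂ → ∀ w, φ y₂ w = w → N y₁ w = 1 := by
    intro y₁ y₂ hy₁ hy₂ hy hne' w hw
    refine hcommon y₁ y₂ hy hne' _ (hNfix y₁ w (hpowr y₁ hy₁)) ?_
    rw [map_prod]
    refine Finset.prod_congr rfl fun j _ => ?_
    have hcy : Commute y₁ y₂ := by
      have h5 : Commute y₁ (y₁⁻¹ * y₂) := hCc y₁ hy₁ _ hy
      have := (Commute.refl y₁).mul_right h5
      rwa [mul_inv_cancel_left] at this
    rw [← h.apply_mul, ((hcy.pow_left j).symm).eq, h.apply_mul, hw]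
  have hxx₂ : x ≠ x₂ := fun e => hz1 (by rw [hz, ← e, inv_mul_cancel])
  have hx₂C : x₂ ∈ C := mul_mem (mul_mem hcC hxC) (inv_mem hcC)
  have hz' : x₂⁻¹ * x ∈ R := by
    have := inv_mem hzR
    rwa [hz, mul_inv_rev, inv_inv] at this
  have hv12 : v₁ * v₂ ≠ 1 := fun e => by
    have e' : v₂ = v₁ := (mul_left_cancel (e.trans (h.sq v₁).symm))
    exact hv₁ (hcommon x x₂ hzR hxx₂ v₁ hxv (e' ▸ hx₂v))
  -- the stabiliser of `v₁ v₂` fixes both
  have hstab : ∀ g ∈ C, φ g (v₁ * v₂) = v₁ * v₂ → φ g v₁ = v₁ := by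
    intro g hg hgv
    have hgg : ∀ y ∈ C, (∀ c ∈ C, ⁅y, c⁆ ∈ R) → x⁻¹ * y ∈ R → x⁻¹ * (g * y * g⁻¹) ∈ R := by
      intro y hy hyc hxy
      have h4 := mul_mem hxy (hRn.conj_mem' _ (inv_mem (hyc g hg)) y)
      convert h4 using 1
      rw [commutatorElement_def]
      group
    have hfg : ∀ y v, φ y v = v → φ (g * y * g⁻¹) (φ g v) = φ g v := fun y v e => by
      rw [← h.apply_mul, inv_mul_cancel_right, h.apply_mul, e]
    set a₁ := g * x * g⁻¹ with ha₁
    set a₂ := g * x₂ * g⁻¹ with ha₂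
    have hx₂c : ∀ c ∈ C, ⁅x₂, c⁆ ∈ R := fun c' hc' => by
      have e : ⁅x₂, c'⁆ = c * ⁅x, c⁻¹ * c' * c⁆ * c⁻¹ := by
        rw [hx₂]; simp only [commutatorElement_def]; group
      rw [e]
      exact hRn.conj_mem _ (hxc _ (mul_mem (mul_mem (inv_mem hcC) hc') hcC)) _
    have h1 : x⁻¹ * a₁ ∈ R := hgg x hxC hxc (by simp)
    have h2 : x⁻¹ * a₂ ∈ R := hgg x₂ hx₂C hx₂c hzR
    have haC : a₁ ∈ C ∧ a₂ ∈ C := ⟨mul_mem (mul_mem hg hxC) (inv_mem hg), mul_mem (mul_mem hg hx₂C) (inv_mem hg)⟩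
    have hrel : ∀ {p s : A}, x⁻¹ * p ∈ R → x⁻¹ * s ∈ R → p⁻¹ * s ∈ R := fun {p s} hp hs => by
      have := mul_mem (inv_mem hp) hs
      simpa [mul_assoc] using this
    have ha12 : a₁ ≠ a₂ := fun e => hxx₂ (mul_left_cancel (mul_right_cancel e))
    have hxx : x⁻¹ * x ∈ R := by simp
    rw [map_mul] at hgv
    have hmem : ∀ a b u w, a ∈ C → b ∈ C → x⁻¹ * a ∈ R → x⁻¹ * b ∈ R → a ≠ b → φ a u = u → φ b w = w →
        u ≠ 1 → u * w = v₁ * v₂ → a = x ∨ a = x₂ := by
      intro a b u w haC hbC ha hb hab hau hbw hu he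
      by_contra hc'
      push Not at hc'
      have := congrArg (N a) he
      rw [hNmul, hNmul, hNid a u hau, hNzero a b haC hbC (hrel ha hb) hab w hbw,
        hNzero a x haC hxC (hrel ha hxx) hc'.1 v₁ hxv, hNzero a x₂ haC hx₂C (hrel ha hzR) hc'.2 v₂ hx₂v,
        mul_one, mul_one] at this
      exact hu this
    have hu1 : φ g v₁ ≠ 1 := fun e => hv₁ ((map_eq_one_iff (φ g) (φ g).injective).1 e)
    have hu2 : φ g v₂ ≠ 1 := fun e => hv₂1 ((map_eq_one_iff (φ g) (φ g).injective).1 e)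
    have hm1 := hmem a₁ a₂ _ _ haC.1 haC.2 h1 h2 ha12 (hfg x v₁ hxv) (hfg x₂ v₂ hx₂v) hu1 hgv
    have hm2 := hmem a₂ a₁ _ _ haC.2 haC.1 h2 h1 ha12.symm (hfg x₂ v₂ hx₂v) (hfg x v₁ hxv) hu2
      ((mul_comm _ _).trans hgv)
    have hgx : a₁ = x := by
      refine hm1.resolve_right fun e => ?_
      have e2 : a₂ = x := hm2.resolve_right fun e' => ha12 (e.trans e'.symm)
      -- then `g²` fixes `x`, so `g` does
      obtain ⟨n, hn⟩ := exists_pow_eq_self_of_coprime (x := g) (n := 2)
        (Nat.coprime_two_left.2 (h.odd.of_dvd_nat (orderOf_dvd_natCard g)))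
      have hsq : g ^ 2 * x * (g ^ 2)⁻¹ = x := by
        calc g ^ 2 * x * (g ^ 2)⁻¹ = g * (g * x * g⁻¹) * g⁻¹ := by rw [pow_two]; group
          _ = g * x₂ * g⁻¹ := by rw [← ha₁, e]
          _ = x := e2
      have hall : ∀ m : ℕ, (g ^ 2) ^ m * x * ((g ^ 2) ^ m)⁻¹ = x := fun m => by
        induction m with
        | zero => simp
        | succ m ih =>
          calc _ = g ^ 2 * ((g ^ 2) ^ m * x * ((g ^ 2) ^ m)⁻¹) * (g ^ 2)⁻¹ := by rw [pow_succ']; group
            _ = x := by rw [ih, hsq]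
      exact hxx₂ ((hn ▸ hall n).symm.trans e)
    have := congrArg (N x) hgv
    rw [hNmul, hNmul, hNid x v₁ hxv, hNid x _ (by
        have := hfg x v₁ hxv
        rwa [← ha₁, hgx] at this),
      hNzero x x₂ hxC hx₂C hzR hxx₂ v₂ hx₂v,
      hNzero x a₂ hxC haC.2 h2 (fun e => ha12 (hgx.trans e)) _ (hfg x₂ v₂ hx₂v),
      mul_one, mul_one] at this
    exact this
  -- hence all three stabilisers coincide
  have hle : ∀ g : C, φ (g : A) (v₁ * v₂) = v₁ * v₂ → φ (g : A) v₁ = v₁ := fun g hg => hstab g g.2 hg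
  have hsub : ∀ g : C, φ (g : A) v₁ = v₁ → φ (g : A) (v₁ * v₂) = v₁ * v₂ := by
    intro g hg
    have hinj : Function.Injective (fun u : {g : C // φ (g : A) (v₁ * v₂) = v₁ * v₂} =>
        (⟨u.1, hle u.1 u.2⟩ : {g : C // φ (g : A) v₁ = v₁})) := fun a b e =>
      Subtype.ext (congrArg (fun u : {g : C // φ (g : A) v₁ = v₁} => u.1) e)
    have hbij := hinj.bijective_of_nat_card_le (h.card_stab C hCn hv₁ hv12).le
    obtain ⟨u, hu⟩ := hbij.2 ⟨g, hg⟩
    rw [← show u.1 = g from congrArg Subtype.val hu]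
    exact u.2
  have hxv2 : φ x v₂ = v₂ := by
    have h1 := hsub ⟨x, hxC⟩ hxv
    rw [map_mul, hxv] at h1
    exact mul_left_cancel h1
  exact hv₂1 (hcommon x x₂ hzR hxx₂ v₂ hxv2 hx₂v)

/-- The classification. -/
theorem structure_thm : ∃ (R : Subgroup A) (r : ℕ), r.Prime ∧ Nat.card R = r ∧ R.Normal ∧
    r + 1 = Nat.card S ∧ (∀ a b : S, a ≠ 1 → b ≠ 1 → ∃! g : A, g ∈ R ∧ φ g a = b) ∧
    ((∀ g : A, g ∈ R) ∨ (∃ (b : A) (a : S), orderOf b = q ∧ q ≠ r ∧ b ∉ R ∧ R ⊔ zpowers b = ⊤ ∧
      Nat.card A = r * q ∧ a ≠ 1 ∧ φ b a = a ∧ (∀ x : S, φ b x = x → x = 1 ∨ x = a) ∧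
      ∀ i, 0 < i → i < q → ∀ z ∈ R, b ^ i * z = z * b ^ i → z = 1)) := by
  classical
  obtain ⟨R, r, hRn, hrp, hRcard, hfpf, hCR⟩ := h.exists_regular
  haveI := hRn
  haveI : Fact r.Prime := ⟨hrp⟩
  haveI hRcyc : IsCyclic R := isCyclic_of_prime_card hRcard
  haveI : Fintype S := Fintype.ofFinite S
  haveI : Fintype A := Fintype.ofFinite A
  have hRcop : (Nat.card R).Coprime (Nat.card S) := by
    rw [hRcard]; exact (h.coprime_card (hRcard ▸ card_subgroup_dvd_card R)).symm
  -- orbits of `R` have length `r`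
  have hinj : ∀ a : S, a ≠ 1 → Function.Injective (fun g : R => φ (g : A) a) := by
    intro a ha g k e
    refine Subtype.ext (inv_mul_eq_one.1 ?_).symm
    by_contra hne
    refine hfpf _ (mul_mem (inv_mem k.2) g.2) hne a ha ?_
    rw [h.apply_mul, show φ (g : A) a = φ (k : A) a from e, ← h.apply_mul, inv_mul_cancel, map_one]
    rfl
  have hregular : r + 1 = Nat.card S → ∀ a b : S, a ≠ 1 → b ≠ 1 → ∃! g : A, g ∈ R ∧ φ g a = b := by
    intro hrS a b ha hb
    let f : R → {x : S // x ≠ 1} := fun g => ⟨φ (g : A) a, fun e =>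
      ha ((map_eq_one_iff (φ (g : A)) (φ (g : A)).injective).1 e)⟩
    have hf : Function.Injective f := fun g k e => hinj a ha (congrArg Subtype.val e)
    have hcard : Nat.card {x : S // x ≠ 1} ≤ Nat.card R := by
      rw [Nat.card_eq_fintype_card, Fintype.card_subtype_compl, Fintype.card_subtype_eq,
        ← Nat.card_eq_fintype_card, hRcard]
      omega
    obtain ⟨g, hg⟩ := (hf.bijective_of_nat_card_le hcard).2 ⟨b, hb⟩
    refine ⟨g, ⟨g.2, congrArg Subtype.val hg⟩, fun k hk => ?_⟩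
    exact congrArg Subtype.val (hinj a ha (a₁ := ⟨k, hk.1⟩) (a₂ := g)
      (hk.2.trans (congrArg Subtype.val hg).symm))
  obtain ⟨a₀, ha₀⟩ := h.exists_ne
  have hrle : r + 1 ≤ Nat.card S := by
    let f : R → {x : S // x ≠ 1} := fun g => ⟨φ (g : A) a₀, fun e =>
      ha₀ ((map_eq_one_iff (φ (g : A)) (φ (g : A)).injective).1 e)⟩
    have := Nat.card_le_card_of_injective f (fun g k e => hinj a₀ ha₀ (congrArg Subtype.val e))
    rw [hRcard, Nat.card_eq_fintype_card (α := {x : S // x ≠ 1}), Fintype.card_subtype_compl,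
      Fintype.card_subtype_eq, ← Nat.card_eq_fintype_card] at this
    have := h.four
    omega
  -- conjugation on `R`
  let c : A →* MulAut R := MulAut.conjNormal
  have hker : c.ker = R := by
    ext x
    constructor
    · intro hx
      refine hCR.le (mem_centralizer_iff.2 fun y hy => ?_)
      have h1 := congrArg Subtype.val (DFunLike.congr_fun (MonoidHom.mem_ker.1 hx) ⟨y, hy⟩)
      rw [MulAut.conjNormal_apply] at h1
      exact (mul_inv_eq_iff_eq_mul.1 h1).symm
    · intro hx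
      refine MonoidHom.mem_ker.2 (MulEquiv.ext fun y => Subtype.ext ?_)
      rw [MulAut.conjNormal_apply]
      exact mul_inv_eq_iff_eq_mul.2 (mem_centralizer_iff.1 (hCR.ge hx) y y.2).symm
  haveI : IsCyclic (MulAut R) := by
    haveI : IsCyclic (ZMod (Nat.card R))ˣ := by rw [hRcard]; infer_instance
    exact isCyclic_of_surjective (IsCyclic.mulAutMulEquiv R).symm.toMonoidHom (MulEquiv.surjective _)
  obtain ⟨⟨_, b, rfl⟩, hgen⟩ := IsCyclic.exists_generator (α := c.range)
  have hsup : R ⊔ zpowers b = ⊤ := by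
    refine eq_top_iff.2 fun x _ => ?_
    obtain ⟨i, hi⟩ := hgen ⟨c x, x, rfl⟩
    have hxi : x * (b ^ i)⁻¹ ∈ R := hker.le (MonoidHom.mem_ker.2 (by
      rw [map_mul, map_inv, map_zpow, ← show (c b) ^ i = c x from by
        simpa using congrArg Subtype.val hi, mul_inv_cancel]))
    rw [← inv_mul_cancel_right x (b ^ i)]
    exact mul_mem (mem_sup_left hxi) (mem_sup_right (zpow_mem (mem_zpowers b) i))
  by_cases hbR : b ∈ R
  · -- `A = R`
    have hall : ∀ g : A, g ∈ R := fun g => by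
      have := hsup.ge (mem_top g)
      rwa [sup_eq_left.2 (zpowers_le.2 hbR)] at this
    have hrS : r + 1 = Nat.card S := by
      refine le_antisymm hrle ?_
      choose g hg using fun x : {x : S // x ≠ 1} => h.trans a₀ x.1 ha₀ x.2
      have := Nat.card_le_card_of_injective (fun x => (⟨g x, hall _⟩ : R)) (fun x y e => Subtype.ext (by
        rw [← hg x, ← hg y, show g x = g y from congrArg Subtype.val e]))
      rw [hRcard, Nat.card_eq_fintype_card, Fintype.card_subtype_compl, Fintype.card_subtype_eq,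
        ← Nat.card_eq_fintype_card] at this
      omega
    exact ⟨R, r, hrp, hRcard, hRn, hrS, hregular hrS, Or.inl hall⟩
  have hb1 : b ≠ 1 := fun e => hbR (e ▸ one_mem R)
  have hcb : c b ≠ 1 := fun e => hbR (hker.le (MonoidHom.mem_ker.2 e))
  have hbp := h.ord b hb1
  set s := orderOf b with hs
  haveI : Fact s.Prime := ⟨hbp⟩
  have hcs : orderOf (c b) = s :=
    ((Nat.dvd_prime hbp).1 (orderOf_map_dvd c b)).resolve_left fun e => hcb (orderOf_eq_one_iff.1 e)
  have hsr : s ≠ r := by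
    intro e
    have h1 := hcs ▸ orderOf_dvd_natCard (c b)
    rw [IsCyclic.card_mulAut, hRcard, Nat.totient_prime hrp, e] at h1
    have := Nat.le_of_dvd (by have := hrp.two_le; omega) h1
    have := hrp.two_le
    omega
  have hdisj : R ⊓ zpowers b = ⊥ := by
    refine (eq_bot_iff_forall _).2 ?_
    rintro x ⟨hx1, hx2⟩
    by_contra hne
    have : zpowers b ≤ R := by
      have hxo : orderOf x = s := ((Nat.dvd_prime hbp).1 (orderOf_dvd_of_mem_zpowers hx2)).resolve_left
        fun e => hne (orderOf_eq_one_iff.1 e)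
      have heq : zpowers x = zpowers b := eq_of_le_of_card_ge (zpowers_le.2 hx2)
        (by rw [Nat.card_zpowers, Nat.card_zpowers, hxo])
      exact heq ▸ zpowers_le.2 hx1
    exact hbR (this (mem_zpowers b))
  have hcardA : Nat.card A = r * s := by
    have hcomp : IsComplement' R (zpowers b) := isComplement'_of_disjoint_and_mul_eq_univ
      (disjoint_iff.2 hdisj) (by rw [← normal_mul, hsup]; rfl)
    rw [← hcomp.card_mul, hRcard, Nat.card_zpowers]
  have hbpow : ∀ i, 0 < i → i < s → ∀ z ∈ R, b ^ i * z = z * b ^ i → z = 1 := by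
    intro i h0 hi z hz hc
    by_contra hz1
    have hgenR : zpowers z = R := eq_of_le_of_card_ge (zpowers_le.2 hz) (by
      rw [hRcard, Nat.card_zpowers]
      exact ((Nat.dvd_prime hrp).1 (hRcard ▸ Subgroup.orderOf_dvd_natCard R hz)).resolve_left
        (fun e => hz1 (orderOf_eq_one_iff.1 e)) |>.ge)
    have hbi : b ^ i ∈ R ⊓ zpowers b := ⟨hCR.le (mem_centralizer_iff.2 fun y hy => by
      rw [← hgenR] at hy
      obtain ⟨j, rfl⟩ := hy
      exact ((show Commute (b ^ i) z from hc).zpow_right j).eq.symm), pow_mem (mem_zpowers b) i⟩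
    rw [hdisj, mem_bot] at hbi
    exact pow_ne_one_of_lt_orderOf h0.ne' (hs ▸ hi) hbi
  obtain ⟨a, ha, hba⟩ : ∃ a : S, a ≠ 1 ∧ φ b a = a := by
    by_contra hno
    push Not at hno
    refine ha₀ (eq_one_of_trace φ R b s hbp.pos ⟨⟨fun x y => hRcyc.commGroup.mul_comm x y⟩⟩
      (fun z hz => hRn.conj_mem z hz b) hbpow (fun v hv => ?_) hRcop (fun v => ?_) a₀)
    · by_contra hv1
      obtain ⟨z, hz, hz1⟩ := R.bot_or_exists_ne_one.resolve_left fun e => by
        rw [e, card_bot] at hRcard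
        exact hrp.one_lt.ne hRcard
      exact hfpf z hz hz1 v hv1 (hv z hz)
    · by_contra hne
      refine hno _ hne ?_
      rw [map_prod]
      have e : ∀ j, φ b (φ (b ^ j) v) = φ (b ^ (j + 1)) v := fun j => by rw [pow_succ', h.apply_mul]
      simp only [e]
      have h2 := Finset.prod_range_succ' (fun j => φ (b ^ j) v) s
      have h3 := Finset.prod_range_succ (fun j => φ (b ^ j) v) s
      rw [h3, show b ^ s = 1 from pow_orderOf_eq_one b, pow_zero] at h2
      exact (mul_right_cancel h2).symm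
  have hsq : s = q := hs ▸ h.fix b hb1 a ha hba
  have hrS : r + 1 = Nat.card S := by
    -- the orbit of `a` has at most `r` points
    refine le_antisymm hrle ?_
    have hall : ∀ x : {x : S // x ≠ 1}, ∃ g : R, φ (g : A) a = x.1 := by
      intro x
      obtain ⟨g, hg⟩ := h.trans a x.1 ha x.2
      have hg' := hsup.ge (mem_top g)
      rw [← SetLike.mem_coe, normal_mul] at hg'
      obtain ⟨z, hz, w, ⟨i, rfl⟩, rfl⟩ := hg'
      refine ⟨⟨z, hz⟩, ?_⟩
      have hfix : φ (b ^ i) a = a := by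
        let F : Subgroup A :=
          { carrier := {g | φ g a = a}
            one_mem' := by show φ 1 a = a; rw [map_one]; rfl
            mul_mem' := fun {x y} hx hy => by
              show φ (x * y) a = a
              rw [h.apply_mul, show φ y a = a from hy, show φ x a = a from hx]
            inv_mem' := fun {x} hx => by
              show φ x⁻¹ a = a
              conv_lhs => rw [← show φ x a = a from hx]
              rw [← h.apply_mul, inv_mul_cancel, map_one]
              rfl }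
        exact (zpowers_le.2 (show b ∈ F from hba)) (zpow_mem (mem_zpowers b) i)
      rw [h.apply_mul, hfix] at hg
      exact hg
    have := Nat.card_le_card_of_injective (fun x => (hall x).choose) (fun x y e => Subtype.ext (by
      rw [← (hall x).choose_spec, ← (hall y).choose_spec, show (hall x).choose = (hall y).choose from e]))
    rw [hRcard, Nat.card_eq_fintype_card, Fintype.card_subtype_compl, Fintype.card_subtype_eq,
      ← Nat.card_eq_fintype_card] at this
    omega
  refine ⟨R, r, hrp, hRcard, hRn, hrS, hregular hrS, Or.inr ⟨b, a, hsq, hsq ▸ hsr, hbR, hsup,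
    hsq ▸ hcardA, ha, hba, fun x hx => ?_, hsq ▸ hbpow⟩⟩
  by_contra hcon
  push Not at hcon
  obtain ⟨g, ⟨hgR, hga⟩, huniq⟩ := hregular hrS a x ha hcon.1
  have hbg : b * g * b⁻¹ = g := huniq _ ⟨hRn.conj_mem g hgR b, by
    have hbi : φ b⁻¹ a = a := by
      conv_lhs => rw [← hba]
      rw [← h.apply_mul, inv_mul_cancel, map_one]
      rfl
    rw [h.apply_mul, h.apply_mul, hbi, hga, hx]⟩
  have hg1 := hbpow 1 Nat.one_pos hbp.one_lt g hgR (by rw [pow_one]; exact mul_inv_eq_iff_eq_mul.1 hbg)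
  rw [hg1, map_one] at hga
  exact hcon.2 hga.symm

end Aut

end

end CfsgLib.Known.OneComposite
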