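import Cfsg.Prelude.Def_Involutions
import Cfsg.Agent.Lib.Techniques.PPrimeAbelian.Even
import Cfsg.Agent.Lib.Char.Burnside
import Cfsg.Agent.Lib.Transfer.Abelian

/-!
Owner: helper26. Simple groups whose only composite element order is `2 q` (`q` an odd prime):
basic consequences.
-/

set_option autoImplicit false
set_option linter.all false

namespace CfsgLib.Known.OneComposite

open Subgroup

variable {G : Type*} [Group G]

/-- All element orders are `1`, primes, or `2 q`, and `2 q` occurs. -/
structure Hyp (q : ℕ) (G : Type*) [Group G] : Prop where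
  prime : q.Prime
  two_ne : q ≠ 2
  simple : IsSimpleGroup G
  hna : ¬ IsMulCommutative G
  ord : ∀ g : G, g ≠ 1 → (orderOf g).Prime ∨ orderOf g = 2 * q
  exists_el : ∃ g : G, orderOf g = 2 * q

/-- The odd core of a subgroup, as a subgroup of `G`. -/
def core (X : Subgroup G) : Subgroup G := (Cfsg.oddCore ↥X).map X.subtype

theorem core_le (X : Subgroup G) : core X ≤ X := map_subtype_le _

theorem card_core (X : Subgroup G) [Finite G] : Odd (Nat.card (core X)) := by
  haveI : Fact (Nat.Prime 2) := ⟨Nat.prime_two⟩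
  rw [core, card_map_of_injective X.subtype_injective]
  exact Nat.coprime_two_right.1 (CfsgLib.Core.coprime_card_pPrimeCore 2 X)

theorem normalizer_le_normalizer_core (X : Subgroup G) :
    normalizer (X : Set G) ≤ normalizer (core X : Set G) := by
  haveI : (Cfsg.oddCore ↥X).Characteristic := inferInstance
  intro g hg
  rw [mem_normalizer_iff]
  intro x
  have key : ∀ g ∈ normalizer (X : Set G), ∀ x ∈ core X, g * x * g⁻¹ ∈ core X := by
    intro g hg x hx
    obtain ⟨x', hx', rfl⟩ := hx
    have h := characteristic_iff_map_eq.1 (inferInstance : (Cfsg.oddCore ↥X).Characteristic)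
      (normalizerMonoidHom X ⟨g, hg⟩)
    have hm : normalizerMonoidHom X ⟨g, hg⟩ x' ∈ Cfsg.oddCore ↥X := by
      rw [← h]; exact mem_map_of_mem _ hx'
    exact ⟨_, hm, rfl⟩
  refine ⟨key g hg x, fun h => ?_⟩
  have := key g⁻¹ (inv_mem hg) _ h
  simpa [mul_assoc] using this

theorem le_normalizer_core (X : Subgroup G) : X ≤ normalizer (core X : Set G) :=
  le_normalizer.trans (normalizer_le_normalizer_core X)

namespace Hyp

variable {q : ℕ} (h : Hyp q G)

include h

theorem odd_q : Odd q := h.prime.odd_of_ne_two h.two_ne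

theorem q_pos : 0 < q := h.prime.pos

theorem three_le : 3 ≤ q := by
  have := h.prime.two_le
  have := h.two_ne
  omega

theorem odd_prime {g : G} (ho : Odd (orderOf g)) (hg : g ≠ 1) : (orderOf g).Prime := by
  rcases h.ord g hg with h' | h'
  · exact h'
  · rw [h'] at ho
    exact absurd ho (Nat.not_odd_iff_even.2 (even_two_mul q))

theorem two_part {g : G} {m : ℕ} (hg : orderOf g = 2 ^ m) : g * g = 1 := by
  by_cases h1 : g = 1
  · simp [h1]
  rcases h.ord g h1 with h' | h'
  · rw [hg] at h'
    have hm : m = 1 := Nat.Prime.eq_one_of_pow h'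
    rw [hm, pow_one] at hg
    rw [← pow_two, ← hg, pow_orderOf_eq_one]
  · rw [hg] at h'
    have hq : q ∣ 2 ^ m := ⟨2, by rw [h', mul_comm]⟩
    exact absurd ((Nat.prime_dvd_prime_iff_eq h.prime Nat.prime_two).1 (h.prime.dvd_of_dvd_pow hq)) h.two_ne

theorem two_group {P : Subgroup G} (hP : IsPGroup 2 P) : Cfsg.IsElementaryAbelian 2 P := by
  have hsq : ∀ x ∈ P, x * x = 1 := fun x hx => by
    obtain ⟨m, hm⟩ := (IsPGroup.iff_orderOf.1 hP) ⟨x, hx⟩
    exact h.two_part (m := m) (by rwa [orderOf_mk] at hm)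
  refine ⟨⟨⟨fun a b => Subtype.ext ?_⟩⟩, fun x hx => by rw [pow_two]; exact hsq x hx⟩
  show (a : G) * b = b * a
  have hi : ∀ x ∈ P, x⁻¹ = x := fun x hx => inv_eq_of_mul_eq_one_right (hsq x hx)
  calc (a : G) * b = ((a : G) * b)⁻¹ := (hi _ (mul_mem a.2 b.2)).symm
    _ = (b : G)⁻¹ * (a : G)⁻¹ := mul_inv_rev _ _
    _ = b * a := by rw [hi _ a.2, hi _ b.2]

/-- Commuting elements of distinct prime orders have orders `2` and `q`. -/
theorem orders_of_commute {x y : G} {l m : ℕ} (hl : l.Prime) (hm : m.Prime) (hx : orderOf x = l)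
    (hy : orderOf y = m) (hc : Commute x y) (hne : l ≠ m) : l * m = 2 * q := by
  have ho : orderOf (x * y) = l * m := by
    rw [hc.orderOf_mul_eq_mul_orderOf_of_coprime (by rw [hx, hy]; exact (Nat.coprime_primes hl hm).2 hne),
      hx, hy]
  have h1 : x * y ≠ 1 := fun e => by
    rw [e, orderOf_one] at ho
    have := hl.two_le
    have := hm.two_le
    nlinarith
  rcases h.ord _ h1 with h' | h'
  · rw [ho] at h'
    exact absurd h' (Nat.not_prime_mul hl.one_lt.ne' hm.one_lt.ne')
  · omega

theorem eq_q_of_commute_invol {t x : G} (ht : orderOf t = 2) {l : ℕ} (hl : l.Prime) (hl2 : l ≠ 2)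
    (hx : orderOf x = l) (hc : Commute t x) : l = q := by
  have := h.orders_of_commute Nat.prime_two hl ht hx hc (Ne.symm hl2)
  omega

theorem eq_q_of_commute_q {z x : G} (hz : orderOf z = q) {l : ℕ} (hl : l.Prime)
    (hx : orderOf x = l) (hc : Commute z x) : l = 2 ∨ l = q := by
  by_cases hlq : l = q
  · exact Or.inr hlq
  have := h.orders_of_commute h.prime hl hz hx hc (Ne.symm hlq)
  left
  nlinarith [h.q_pos]

/-- Centralisers of involutions and of `q`-elements involve only the primes `2` and `q`. -/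
theorem eq_two_or_q [Finite G] {z x : G} (hz : orderOf z = 2 ∨ orderOf z = q) {l : ℕ} (hl : l.Prime)
    (hx : orderOf x = l) (hc : Commute z x) : l = 2 ∨ l = q := by
  rcases hz with hz | hz
  · by_cases hl2 : l = 2
    exacts [Or.inl hl2, Or.inr (h.eq_q_of_commute_invol hz hl hl2 hx hc)]
  · exact h.eq_q_of_commute_q hz hl hx hc

theorem solvable_centralizer [Finite G] {z : G} (hz : orderOf z = 2 ∨ orderOf z = q) {X : Subgroup G}
    (hX : X ≤ centralizer ({z} : Set G)) : Group.IsSolvable X := by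
  have hn : Nat.card X ≠ 0 := Nat.card_pos.ne'
  have hpf : ∀ l, l.Prime → l ∣ Nat.card X → l = 2 ∨ l = q := fun l hl hd => by
    haveI : Fact l.Prime := ⟨hl⟩
    obtain ⟨x, hx⟩ := exists_prime_orderOf_dvd_card' l hd
    exact h.eq_two_or_q hz hl (by rw [orderOf_coe]; exact hx) (mem_centralizer_singleton_iff.1 (hX x.2)).symm
  have hcard : Nat.card X = 2 ^ (Nat.card X).factorization 2 * q ^ (Nat.card X).factorization q := by
    conv_lhs => rw [← Nat.prod_factorization_pow_eq_self hn]
    rw [Finsupp.prod_of_support_subset _ (s := {2, q}) ?_ _ (fun i _ => pow_zero i),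
      Finset.prod_pair (Ne.symm h.two_ne)]
    intro l hl
    rw [Nat.support_factorization] at hl
    have := hpf l (Nat.prime_of_mem_primeFactors hl) (Nat.dvd_of_mem_primeFactors hl)
    simpa using this
  exact CfsgLib.Burnside.isSolvable_of_card_eq Nat.prime_two h.prime hcard

theorem pow_q_eq_one [Finite G] {z x : G} (hz : orderOf z = 2 ∨ orderOf z = q) (hc : Commute z x)
    (ho : Odd (orderOf x)) : x ^ q = 1 := by
  by_cases h1 : x = 1
  · simp [h1]
  have hp := h.odd_prime ho h1
  rcases h.eq_two_or_q hz hp rfl hc with e | e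
  · rw [e] at ho
    exact absurd ho (by decide)
  · rw [← e, pow_orderOf_eq_one]

theorem isPGroup_of_odd [Finite G] {z : G} (hz : orderOf z = 2 ∨ orderOf z = q) {X : Subgroup G}
    (hX : X ≤ centralizer ({z} : Set G)) (ho : Odd (Nat.card X)) : IsPGroup q X := fun x => ⟨1, by
  rw [pow_one]
  refine Subtype.ext ?_
  rw [coe_pow, coe_one]
  exact h.pow_q_eq_one hz (mem_centralizer_singleton_iff.1 (hX x.2)).symm
    (ho.of_dvd_nat (by rw [orderOf_coe]; exact orderOf_dvd_natCard x))⟩

theorem two_dvd_card [Finite G] : 2 ∣ Nat.card G := by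
  obtain ⟨g, hg⟩ := h.exists_el
  exact Dvd.dvd.trans (dvd_mul_right 2 q) (hg ▸ orderOf_dvd_natCard g)

/-- An involution and a `q`-element that commute. -/
theorem exists_pair [Finite G] : ∃ t x : G, orderOf t = 2 ∧ orderOf x = q ∧ Commute t x := by
  obtain ⟨g, hg⟩ := h.exists_el
  refine ⟨g ^ q, g ^ 2, ?_, ?_, (Commute.refl g).pow_pow q 2⟩
  · rw [orderOf_pow, hg, Nat.gcd_mul_left_left, Nat.mul_div_cancel _ h.q_pos]
  · rw [orderOf_pow, hg, Nat.gcd_mul_right_left, Nat.mul_div_cancel_left _ two_pos]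

end Hyp

end CfsgLib.Known.OneComposite
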