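import Cfsg.Agent.Lib.Known.OneComposite.Reduction
import Cfsg.Agent.Lib.Known.OneComposite.Automizer
import Cfsg.Agent.S1225

/-!
Owner: helper26. All involution centralisers of `S` inside `N(S)`: strongly embedded normaliser, fusion,
automizer, and the count of swapped cosets.
-/

set_option autoImplicit false
set_option linter.all false

namespace CfsgLib.Known.OneComposite

open Subgroup

variable {G : Type*} [Group G] [Finite G]

/-- The centralisers of the involutions of `S` normalise `S`. -/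
def Loc (S : Sylow 2 G) : Prop :=
  ∀ a ∈ (S : Subgroup G), a ≠ 1 → centralizer ({a} : Set G) ≤ normalizer ((S : Subgroup G) : Set G)

/-- The action of `N(S)` on `S`. -/
def act (S : Sylow 2 G) : normalizer ((S : Subgroup G) : Set G) →* MulAut (S : Subgroup G) :=
  normalizerMonoidHom (S : Subgroup G)

theorem act_apply (S : Sylow 2 G) (g : normalizer ((S : Subgroup G) : Set G)) (s : (S : Subgroup G)) :
    ((act S g s : (S : Subgroup G)) : G) = (g : G) * s * (g : G)⁻¹ := rfl

namespace Hyp

variable {q : ℕ} (h : Hyp q G) (S : Sylow 2 G) (hl : Loc S)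
include h

theorem conj_ne_one {g a : G} (ha1 : a ≠ 1) : g * a * g⁻¹ ≠ 1 := fun e => ha1 (by
  have := congrArg (fun z => g⁻¹ * z * g) e
  simpa [mul_assoc] using this)

include hl

theorem mem_of_conj_mem {g a : G} (ha : a ∈ (S : Subgroup G)) (ha1 : a ≠ 1)
    (hga : g * a * g⁻¹ ∈ (S : Subgroup G)) : g ∈ normalizer ((S : Subgroup G) : Set G) := by
  have key : ∀ s ∈ (S : Subgroup G), g * s * g⁻¹ ∈ (S : Subgroup G) := by
    intro s hs
    refine h.mem_of_involution S (hl _ hga (h.conj_ne_one ha1) (mem_centralizer_singleton_iff.2 ?_)) ?_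
    · calc g * s * g⁻¹ * (g * a * g⁻¹) = g * (s * a) * g⁻¹ := by group
        _ = g * (a * s) * g⁻¹ := by rw [h.comm_of_mem S hs ha]
        _ = g * a * g⁻¹ * (g * s * g⁻¹) := by group
    · rw [show g * s * g⁻¹ * (g * s * g⁻¹) = g * (s * s) * g⁻¹ by group, h.mul_self_of_mem S hs]
      group
  have hmap : (S : Subgroup G).map (MulAut.conj g).toMonoidHom = (S : Subgroup G) := by
    refine eq_of_le_of_card_ge ?_ ?_
    · rintro _ ⟨s, hs, rfl⟩
      simpa using key s hs
    · rw [card_map_of_injective (MulAut.conj g).injective]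
  rw [CfsgLib.Core.mem_normalizer_iff_conj_smul_eq, CfsgLib.Core.conj_smul_eq_map]
  exact hmap

theorem ne_top : normalizer ((S : Subgroup G) : Set G) ≠ ⊤ := by
  intro e
  rw [normalizer_eq_top_iff] at e
  rcases h.simple.eq_bot_or_eq_top_of_normal _ e with e' | e'
  · exact h.ne_bot S e'
  · exact h.hna ⟨⟨fun x y => h.comm_of_mem S (e' ▸ mem_top x) (e' ▸ mem_top y)⟩⟩

theorem mem_of_invol {x : G} (hxN : x ∈ normalizer ((S : Subgroup G) : Set G)) (hx : orderOf x = 2) :
    x ∈ (S : Subgroup G) :=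
  h.mem_of_involution S hxN (by rw [← pow_two, ← hx, pow_orderOf_eq_one])

theorem exists_outside : ∃ u : G, orderOf u = 2 ∧ u ∉ normalizer ((S : Subgroup G) : Set G) := by
  by_contra hno
  push Not at hno
  obtain ⟨a, ha, ha1⟩ := (Subgroup.bot_or_exists_ne_one (S : Subgroup G)).resolve_left (h.ne_bot S)
  refine h.ne_top S hl (eq_top_iff.2 fun g _ => h.mem_of_conj_mem S hl ha ha1 ?_)
  have hg : orderOf (g * a * g⁻¹) = 2 := by rw [CfsgLib.Signalizer.orderOf_conj, h.orderOf_of_mem S ha ha1]
  exact h.mem_of_invol S hl (hno _ hg) hg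

theorem strongly_embedded : Cfsg.IsStronglyEmbedded (normalizer ((S : Subgroup G) : Set G)) := by
  haveI : Fact (Nat.Prime 2) := ⟨Nat.prime_two⟩
  refine ⟨h.ne_top S hl, even_iff_two_dvd.2 ((S.dvd_card_of_dvd_card h.two_dvd_card).trans
    (card_dvd_of_le le_normalizer)), fun g hg => Nat.not_even_iff_odd.1 fun he => ?_⟩
  obtain ⟨⟨x, hxM, hxg⟩, hx'⟩ := exists_prime_orderOf_dvd_card' 2 (even_iff_two_dvd.1 he)
  rw [← Subgroup.orderOf_coe] at hx'
  have hx : orderOf x = 2 := hx'
  have hxM : x ∈ normalizer ((S : Subgroup G) : Set G) := hxM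
  obtain ⟨y, hy, rfl⟩ := hxg
  rw [MulEquiv.coe_toMonoidHom, MulAut.conj_apply] at hxM hx
  rw [CfsgLib.Signalizer.orderOf_conj] at hx
  exact hg (h.mem_of_conj_mem S hl (h.mem_of_invol S hl hy hx) (fun e => by
    rw [e, orderOf_one] at hx; norm_num at hx) (h.mem_of_invol S hl hxM (by
      rw [CfsgLib.Signalizer.orderOf_conj, hx])))

/-- Odd-order subgroups normalised by `S` centralise it. -/
theorem odd_le {Y : Subgroup G} (hY : Odd (Nat.card Y)) (hSY : (S : Subgroup G) ≤ normalizer (Y : Set G)) :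
    Y ≤ centralizer ((S : Subgroup G) : Set G) := by
  haveI : Fact (Nat.Prime 2) := ⟨Nat.prime_two⟩
  haveI := (h.elem S).1
  exact CfsgLib.LocalEven.le_of_centralizers_le (p := 2) (A := (S : Subgroup G)) (h.elem S).2 (h.four_le S)
    hSY hY.not_two_dvd_nat fun a ha ha1 x hx =>
      h.mem_centralizer_of_normalizer S hY hSY hx.1 (hl a ha ha1 hx.2)

theorem centralizer_le_of_core {x : G} (hx : x ∈ core (centralizer ((S : Subgroup G) : Set G)))
    (hx1 : x ≠ 1) : centralizer ({x} : Set G) ≤ normalizer ((S : Subgroup G) : Set G) := by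
  obtain ⟨a, ha, ha1⟩ := (Subgroup.bot_or_exists_ne_one (S : Subgroup G)).resolve_left (h.ne_bot S)
  haveI : Fact q.Prime := ⟨h.prime⟩
  have hxq : orderOf x = q := orderOf_eq_prime (h.pow_q_eq_one (Or.inl (h.orderOf_of_mem S ha ha1))
    (mem_centralizer_iff.1 (core_le _ hx) a ha) ((card_core _).of_dvd_nat (orderOf_dvd_of_mem hx))) hx1
  have hSX : (S : Subgroup G) ≤ centralizer ({x} : Set G) := fun s hs =>
    mem_centralizer_singleton_iff.2 (mem_centralizer_iff.1 (core_le _ hx) s hs)
  exact (h.le_core_sup S (Or.inr hxq) le_rfl hSX).trans (sup_le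
    ((h.odd_le S hl (card_core _) (hSX.trans (le_normalizer_core _))).trans (centralizer_le_normalizer _))
    inf_le_right)

/-- `O(C(S))` meets its conjugates trivially. -/
theorem core_ti {g x : G} (hx : x ∈ core (centralizer ((S : Subgroup G) : Set G))) (hx1 : x ≠ 1)
    (hgx : g * x * g⁻¹ ∈ core (centralizer ((S : Subgroup G) : Set G))) :
    g ∈ normalizer ((S : Subgroup G) : Set G) := by
  obtain ⟨a, ha, ha1⟩ := (Subgroup.bot_or_exists_ne_one (S : Subgroup G)).resolve_left (h.ne_bot S)
  have hax : a * x = x * a := mem_centralizer_iff.1 (core_le _ hx) a ha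
  refine h.mem_of_conj_mem S hl ha ha1 (h.mem_of_involution S
    (h.centralizer_le_of_core S hl hgx (h.conj_ne_one hx1) (mem_centralizer_singleton_iff.2 ?_)) ?_)
  · calc g * a * g⁻¹ * (g * x * g⁻¹) = g * (a * x) * g⁻¹ := by group
      _ = g * (x * a) * g⁻¹ := by rw [hax]
      _ = g * x * g⁻¹ * (g * a * g⁻¹) := by group
  · rw [show g * a * g⁻¹ * (g * a * g⁻¹) = g * (a * a) * g⁻¹ by group, h.mul_self_of_mem S ha]
    group

/-- The intersection with a swapped conjugate is transitive on the involutions of `S`. -/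
theorem transitive_inter {u : G} (hu : orderOf u = 2) (hun : u ∉ normalizer ((S : Subgroup G) : Set G))
    {a b : G} (ha : a ∈ (S : Subgroup G)) (ha1 : a ≠ 1) (hb : b ∈ (S : Subgroup G)) (hb1 : b ≠ 1) :
    ∃ d, d ∈ normalizer ((S : Subgroup G) : Set G) ∧ u * d * u ∈ normalizer ((S : Subgroup G) : Set G) ∧
      d * a * d⁻¹ = b := by
  obtain ⟨⟨d, ⟨hdM, hdu⟩, hd⟩, -⟩ := Cfsg.Agent.S1225.result _ (h.strongly_embedded S hl) u hu hun a b
    (h.orderOf_of_mem S ha ha1) (le_normalizer ha) (h.orderOf_of_mem S hb hb1) (le_normalizer hb)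
  refine ⟨d, hdM, ?_, hd⟩
  obtain ⟨m, hm, rfl⟩ := hdu
  rw [MulEquiv.coe_toMonoidHom, MulAut.conj_apply]
  have huu : u * u = 1 := CfsgLib.Signalizer.involution_sq hu
  rw [CfsgLib.Signalizer.involution_inv hu, show u * (u * m * u) * u = (u * u) * m * (u * u) by group, huu]
  simpa using hm

omit hl in
/-- The automizer, as a group of automorphisms of prime-order elements. -/
theorem exists_preimage (g : normalizer ((S : Subgroup G) : Set G)) (hg : act S g ≠ 1) :
    ∃ g' : normalizer ((S : Subgroup G) : Set G), act S g' = act S g ∧ Odd (orderOf (g' : G)) ∧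
      (orderOf (g' : G)).Prime ∧ orderOf (act S g) = orderOf (g' : G) := by
  obtain ⟨g', hg', ho, he⟩ := h.exists_odd_same S g.2
  have e : act S ⟨g', hg'⟩ = act S g := MulEquiv.ext fun s => Subtype.ext (he s s.2).symm
  have hg1 : g' ≠ 1 := fun e1 => hg (by
    rw [← e, show (⟨g', hg'⟩ : normalizer ((S : Subgroup G) : Set G)) = 1 from Subtype.ext e1, map_one])
  have hp := h.odd_prime ho hg1
  refine ⟨⟨g', hg'⟩, e, ho, hp, ((Nat.dvd_prime hp).1 ?_).resolve_left fun e1 => hg (orderOf_eq_one_iff.1 e1)⟩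
  rw [← e, ← Subgroup.orderOf_mk g' hg']
  exact orderOf_map_dvd (act S) _

omit hl in
theorem fix_order (g : normalizer ((S : Subgroup G) : Set G)) (hg : act S g ≠ 1) {a : (S : Subgroup G)}
    (ha : a ≠ 1) (hfix : act S g a = a) : orderOf (act S g) = q := by
  obtain ⟨g', he, ho, hp, hord⟩ := h.exists_preimage S g hg
  rw [hord]
  have hc : (g' : G) * a * (g' : G)⁻¹ = a := by
    rw [← act_apply, he, hfix]
  refine h.eq_q_of_commute_invol (h.orderOf_of_mem S a.2 fun e => ha (Subtype.ext e)) hp ?_ rfl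
    (mul_inv_eq_iff_eq_mul.1 hc).symm
  intro e
  rw [e] at ho
  exact absurd ho (by decide)

/-- The count: every coset outside `N(S)` contains a swapping involution. -/
theorem exists_swap {r : ℕ} (hr : r + 1 = Nat.card (S : Subgroup G))
    (hbound : ∀ u : G, orderOf u = 2 → u ∉ normalizer ((S : Subgroup G) : Set G) →
      Nat.card {d : G // d ∈ normalizer ((S : Subgroup G) : Set G) ∧
        u * d * u ∈ normalizer ((S : Subgroup G) : Set G) ∧ u * d * u = d⁻¹} ≤ r)
    {g : G} (hg : g ∉ normalizer ((S : Subgroup G) : Set G)) :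
    ∃ u : G, orderOf u = 2 ∧ u ∉ normalizer ((S : Subgroup G) : Set G) ∧
      g⁻¹ * u ∈ normalizer ((S : Subgroup G) : Set G) := by
  classical
  set M := normalizer ((S : Subgroup G) : Set G) with hM
  haveI : Fintype G := Fintype.ofFinite G
  haveI : Fintype (G ⧸ M) := Fintype.ofFinite _
  haveI : Fintype (S : Subgroup G) := Fintype.ofFinite _
  set Sn : Finset G := Finset.univ.filter (fun s => s ∈ (S : Subgroup G) ∧ s ≠ 1) with hSn
  have hSncard : Sn.card = r := by
    have e : insert 1 Sn = Finset.univ.filter (fun s => s ∈ (S : Subgroup G)) := by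
      ext x
      by_cases hx : x = 1 <;> simp [hSn, hx]
    have h2 : (insert 1 Sn).card = Sn.card + 1 := Finset.card_insert_of_notMem (by simp [hSn])
    rw [e] at h2
    have h3 : (Finset.univ.filter (fun s => s ∈ (S : Subgroup G))).card = Nat.card (S : Subgroup G) := by
      rw [Nat.card_eq_fintype_card, Fintype.card_subtype]
    omega
  set X : Finset G := Finset.univ.filter (fun x => orderOf x = 2 ∧ x ∉ M) with hX
  set C : Finset (G ⧸ M) := Finset.univ.erase (QuotientGroup.mk 1) with hC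
  have hlarge : (Fintype.card (G ⧸ M) - 1) * r ≤ X.card := by
    let f : (G ⧸ M) × G → G := fun p => p.1.out * p.2 * p.1.out⁻¹
    have hsub : (C ×ˢ Sn).image f ⊆ X := by
      intro x hx
      obtain ⟨⟨c, s⟩, hcs, rfl⟩ := Finset.mem_image.1 hx
      obtain ⟨hc, hs⟩ := Finset.mem_product.1 hcs
      obtain ⟨-, hsS, hs1⟩ := Finset.mem_filter.1 hs
      have ho : orderOf (f (c, s)) = 2 := by
        show orderOf (c.out * s * c.out⁻¹) = 2
        rw [CfsgLib.Signalizer.orderOf_conj, h.orderOf_of_mem S hsS hs1]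
      refine Finset.mem_filter.2 ⟨Finset.mem_univ _, ho, fun hin => (Finset.ne_of_mem_erase hc) ?_⟩
      rw [← QuotientGroup.out_eq' c, QuotientGroup.eq]
      have h7 := inv_mem (h.mem_of_conj_mem S hl hsS hs1 (h.mem_of_invol S hl hin ho))
      rw [← hM] at h7
      simpa using h7
    have hinj : Set.InjOn f ↑(C ×ˢ Sn) := by
      rintro ⟨c, s⟩ hcs ⟨c', s'⟩ hcs' (e : c.out * s * c.out⁻¹ = c'.out * s' * c'.out⁻¹)
      obtain ⟨-, hs⟩ := Finset.mem_product.1 (Finset.mem_coe.1 hcs)
      obtain ⟨-, hs'⟩ := Finset.mem_product.1 (Finset.mem_coe.1 hcs')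
      obtain ⟨-, hsS, hs1⟩ := Finset.mem_filter.1 hs
      obtain ⟨-, hsS', -⟩ := Finset.mem_filter.1 hs'
      have hm : c'.out⁻¹ * c.out ∈ M := h.mem_of_conj_mem S hl hsS hs1 (by
        have h5 : c'.out⁻¹ * c.out * s * (c'.out⁻¹ * c.out)⁻¹ = s' := by
          calc _ = c'.out⁻¹ * (c.out * s * c.out⁻¹) * c'.out := by group
            _ = _ := by rw [e]; group
        rw [h5]; exact hsS')
      have hcc : c' = c := by
        rw [← QuotientGroup.out_eq' c', ← QuotientGroup.out_eq' c, QuotientGroup.eq]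
        exact hm
      subst hcc
      exact Prod.ext rfl (mul_left_cancel (mul_right_cancel e))
    have h1 := Finset.card_le_card hsub
    rw [Finset.card_image_of_injOn hinj, Finset.card_product, hSncard, hC,
      Finset.card_erase_of_mem (Finset.mem_univ _), Finset.card_univ] at h1
    exact h1
  let π : G → G ⧸ M := fun x => QuotientGroup.mk x
  have hfib : ∀ c ∈ X.image π, (X.filter (fun x => π x = c)).card ≤ r := by
    intro c hc
    obtain ⟨u, hu, rfl⟩ := Finset.mem_image.1 hc
    obtain ⟨-, hu2, huM⟩ := Finset.mem_filter.1 hu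
    have huu : u * u = 1 := CfsgLib.Signalizer.involution_sq hu2
    refine le_trans ?_ (hbound u hu2 huM)
    rw [Nat.card_eq_fintype_card, Fintype.card_subtype]
    refine Finset.card_le_card_of_injOn (fun v => u * v) ?_ (fun a _ b _ e => mul_left_cancel e)
    intro v hv
    obtain ⟨hvX, hvu⟩ := Finset.mem_filter.1 (Finset.mem_coe.1 hv)
    obtain ⟨-, hv2, -⟩ := Finset.mem_filter.1 hvX
    have hvv : v * v = 1 := CfsgLib.Signalizer.involution_sq hv2
    have hi := QuotientGroup.eq.1 hvu
    have hvi : v⁻¹ = v := CfsgLib.Signalizer.involution_inv hv2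
    have hui : u⁻¹ = u := CfsgLib.Signalizer.involution_inv hu2
    rw [hvi] at hi
    have hi' : u * v ∈ M := by
      have := inv_mem hi
      rwa [mul_inv_rev, hui, hvi] at this
    have e : u * (u * v) * u = (u * v)⁻¹ := by
      rw [← mul_assoc u u v, huu, one_mul, mul_inv_rev, hvi, hui]
    refine Finset.mem_coe.2 (Finset.mem_filter.2 ⟨Finset.mem_univ _, hi', ?_, e⟩)
    rw [e]
    exact inv_mem hi'
  have h2 := Finset.card_le_mul_card_image X r hfib
  have hsubC : X.image π ⊆ C := by
    intro c hc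
    obtain ⟨u, hu, rfl⟩ := Finset.mem_image.1 hc
    obtain ⟨-, -, huM⟩ := Finset.mem_filter.1 hu
    refine Finset.mem_erase.2 ⟨fun e => huM ?_, Finset.mem_univ _⟩
    have := QuotientGroup.eq.1 e
    simpa using inv_mem this
  have hr0 : 0 < r := by have := h.four_le S; omega
  have hCcard : C.card = Fintype.card (G ⧸ M) - 1 := by
    rw [hC, Finset.card_erase_of_mem (Finset.mem_univ _), Finset.card_univ]
  have heq : X.image π = C := Finset.eq_of_subset_of_card_le hsubC (by
    have := hlarge.trans h2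
    rw [hCcard]
    exact Nat.le_of_mul_le_mul_right (by rw [mul_comm r] at this; exact this) hr0)
  have hgC : π g ∈ C := by
    refine Finset.mem_erase.2 ⟨fun e => hg ?_, Finset.mem_univ _⟩
    have := QuotientGroup.eq.1 e
    simpa using inv_mem this
  obtain ⟨u, hu, hug⟩ := Finset.mem_image.1 (heq.symm ▸ hgC)
  obtain ⟨-, hu2, huM⟩ := Finset.mem_filter.1 hu
  exact ⟨u, hu2, huM, QuotientGroup.eq.1 hug.symm⟩

end Hyp

end CfsgLib.Known.OneComposite
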