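import Cfsg.Agent.Lib.Known.OneComposite.Main
import Cfsg.Agent.Lib.CIT.SuzukiRecog.SmallOrder
import Cfsg.Agent.Lib.CIT.Simple
import Cfsg.Agent.Lib.CIT.CoreFree
import Cfsg.Agent.Lib.CIT.SzPrimeGraph
import Cfsg.Agent.Lib.Lie.Suzuki.Partition
import Cfsg.Agent.Lib.Classical.SmallIsoSix
import Cfsg.Agent.Lib.Classical.Dickson.ClassifyPlatonic
import Cfsg.Agent.Lib.Recog.SimpleSixty

/-!
Owner: helper26. Simple groups of even order with at most one composite element order.
-/

set_option autoImplicit false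
set_option linter.all false

namespace CfsgLib.Known.OneComposite

open Matrix

/-- The nonabelian groups in the conclusion. -/
def Listed (G : Type*) [Group G] : Prop :=
    (∃ (F : Type) (_ : Field F) (_ : Fintype F), (Fintype.card F = 5 ∨ Fintype.card F = 7 ∨ Fintype.card F = 8 ∨ Fintype.card F = 9 ∨
        Fintype.card F = 11 ∨ Fintype.card F = 13 ∨ Fintype.card F = 16) ∧ Nonempty (G ≃* Matrix.ProjectiveSpecialLinearGroup (Fin 2) F)) ∨
    (∃ (F : Type) (_ : Field F) (_ : Fintype F), Fintype.card F = 4 ∧ Nonempty (G ≃* Matrix.ProjectiveSpecialLinearGroup (Fin 3) F)) ∨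
    (∃ (F : Type) (_ : Field F) (_ : Fintype F), Fintype.card F = 8 ∧ Nonempty (G ≃* ↥(Cfsg.Lie.Sz F 4))) ∨
    (∃ (F : Type) (_ : Field F) (_ : Fintype F), ∃ n r s : ℕ, r.Prime ∧ s.Prime ∧ 3 ^ n - 1 = 2 * r ∧ 3 ^ n + 1 = 4 * s ∧
        Fintype.card F = 3 ^ n ∧ Nonempty (G ≃* Matrix.ProjectiveSpecialLinearGroup (Fin 2) F)) ∨
    (∃ (F : Type) (_ : Field F) (_ : Fintype F), ∃ n r : ℕ, (2 ^ n - 1).Prime ∧ r.Prime ∧ 2 ^ n + 1 = 3 * r ∧
        Fintype.card F = 2 ^ n ∧ Nonempty (G ≃* Matrix.ProjectiveSpecialLinearGroup (Fin 2) F))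

variable {G : Type*} [Group G] [Finite G]

theorem listed_of_psl {F : Type} [Field F] [Fintype F]
    (h : Fintype.card F = 5 ∨ Fintype.card F = 7 ∨ Fintype.card F = 8 ∨ Fintype.card F = 9 ∨
        Fintype.card F = 11 ∨ Fintype.card F = 13 ∨ Fintype.card F = 16)
    (e : G ≃* ProjectiveSpecialLinearGroup (Fin 2) F) : Listed G :=
  Or.inl ⟨F, inferInstance, inferInstance, h, ⟨e⟩⟩

theorem four_le_card [IsSimpleGroup G] (hna : ¬ IsMulCommutative G) {F : Type} [Field F] [Fintype F]
    (e : G ≃* ProjectiveSpecialLinearGroup (Fin 2) F) : 4 ≤ Fintype.card F := by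
  classical
  have hcard := CfsgLib.Classical.Dickson.gcd_mul_card_psl (F := F) (q := Fintype.card F) rfl
  rw [← Nat.card_congr e.toEquiv] at hcard
  have h1 : 1 < Fintype.card F := Fintype.one_lt_card
  by_contra hlt
  generalize Fintype.card F = q at hcard h1 hlt
  have hc : Nat.card G = 6 ∨ Nat.card G = 12 := by
    rcases (show q = 2 ∨ q = 3 by omega) with rfl | rfl
    · rw [show Nat.gcd 2 (2 - 1) = 1 from rfl, one_mul] at hcard
      exact Or.inl (by omega)
    · rw [show Nat.gcd 2 (3 - 1) = 2 from rfl] at hcard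
      exact Or.inr (by omega)
  refine hna ⟨⟨IsSimpleGroup.comm_iff_isSolvable.2
    (CfsgLib.Recog.Sixty.isSolvable_of_dvd_sixty ?_ (by omega))⟩⟩
  rcases hc with e2 | e2 <;> rw [e2] <;> norm_num

/-- The element orders of `PSL(2, F)`, transported. -/
theorem exists_order_of_dvd [IsSimpleGroup G] (hna : ¬ IsMulCommutative G) {F : Type} [Field F] [Fintype F]
    (e : G ≃* ProjectiveSpecialLinearGroup (Fin 2) F) {d : ℕ}
    (hd : d ∣ (Fintype.card F - 1) / Nat.gcd 2 (Fintype.card F - 1) ∨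
      d ∣ (Fintype.card F + 1) / Nat.gcd 2 (Fintype.card F - 1)) :
    ∃ x : G, orderOf x = d := by
  classical
  obtain ⟨p, hp⟩ := CharP.exists F
  haveI : Fact p.Prime := ⟨CharP.char_is_prime F p⟩
  obtain ⟨g, hg⟩ : d ∈ Set.range (orderOf : ProjectiveSpecialLinearGroup (Fin 2) F → ℕ) :=
    (CfsgLib.Recog.PSLTwoOrders.range_orderOf (F := F) p (four_le_card hna e)).ge (Or.inr hd)
  exact ⟨e.symm g, by rw [MulEquiv.orderOf_eq, hg]⟩

/-- `PSL(2, F)`, `F` of odd order, whose composite element order is `2 q`. -/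
theorem listed_odd_two [IsSimpleGroup G] (hna : ¬ IsMulCommutative G) {F : Type} [Field F] [Fintype F]
    (hodd : Odd (Fintype.card F)) (e : G ≃* ProjectiveSpecialLinearGroup (Fin 2) F) {q : ℕ} (hq : q.Prime)
    (hq2 : q ≠ 2) (hord : ∀ x : G, x ≠ 1 → (orderOf x).Prime ∨ orderOf x = 2 * q) : Listed G := by
  classical
  have h4 := four_le_card hna e
  obtain ⟨p, hp⟩ := CharP.exists F
  haveI : Fact p.Prime := ⟨CharP.char_is_prime F p⟩
  obtain ⟨f, hf, hqf⟩ := CfsgLib.Classical.Dickson.exists_char_pow (F := F) p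
  set Q := Fintype.card F with hQ
  obtain ⟨t, ht⟩ := hodd
  have hgcd : Nat.gcd 2 (Q - 1) = 2 := Nat.gcd_eq_left ⟨t, by omega⟩
  have hval : ∀ d, (d = t ∨ d = t + 1) → d.Prime ∨ d = 2 * q := by
    intro d hd
    obtain ⟨x, hx⟩ := exists_order_of_dvd hna e (d := d) (by
      rw [hgcd]
      rcases hd with rfl | rfl
      · exact Or.inl (dvd_of_eq (by omega))
      · exact Or.inr (dvd_of_eq (by omega)))
    have hx1 : x ≠ 1 := fun e1 => by
      rw [e1, orderOf_one] at hx
      omega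
    exact hx ▸ hord x hx1
  have hqodd : q % 2 = 1 := Nat.odd_iff.1 (hq.odd_of_ne_two hq2)
  have hq3 := hq.two_le
  by_cases h5 : Q = 5
  · exact listed_of_psl (Or.inl h5) e
  have he : t = 2 * q ∨ t + 1 = 2 * q := by
    rcases Nat.even_or_odd t with h | h
    · rcases hval t (Or.inl rfl) with hp' | hp'
      · have := hp'.even_iff.1 h
        omega
      · exact Or.inl hp'
    · rcases hval (t + 1) (Or.inr rfl) with hp' | hp'
      · have := hp'.even_iff.1 h.add_one
        omega
      · exact Or.inr hp'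
  by_cases hp3 : p = 3
  · subst hp3
    rcases he with he | he
    · exfalso
      have hmod : 3 ^ f % 8 = 5 := by omega
      rcases Nat.even_or_odd' f with ⟨k, rfl | rfl⟩
      · rw [pow_mul, Nat.pow_mod] at hmod
        norm_num at hmod
      · rw [pow_succ, pow_mul, Nat.mul_mod, Nat.pow_mod] at hmod
        norm_num at hmod
    · rcases hval t (Or.inl rfl) with ho | ho
      · exact Or.inr (Or.inr (Or.inr (Or.inl ⟨F, inferInstance, inferInstance, f, t, q, ho, hq, by omega, by omega,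
          hqf, ⟨e⟩⟩)))
      · omega
  · have h3 : ¬ 3 ∣ Q := fun h => hp3 ((Nat.prime_dvd_prime_iff_eq Nat.prime_three Fact.out).1
      (Nat.prime_three.dvd_of_dvd_pow (hqf ▸ h))).symm
    have hq3eq : 3 ∣ 2 * q → q = 3 := fun h =>
      ((Nat.prime_dvd_prime_iff_eq Nat.prime_three hq).1 ((Nat.Coprime.dvd_of_dvd_mul_left (by norm_num) h))).symm
    have h3t : 3 ∣ t ∨ 3 ∣ t + 1 := by
      have : t % 3 ≠ 1 := fun h => h3 (Nat.dvd_of_mod_eq_zero (by rw [ht, Nat.add_mod, Nat.mul_mod, h]; rfl))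
      omega
    rcases he with he | he
    · rcases h3t with h | h
      · have := hq3eq (he ▸ h)
        exact listed_of_psl (by omega) e
      · rcases hval (t + 1) (Or.inr rfl) with ho | ho
        · have := (Nat.prime_dvd_prime_iff_eq Nat.prime_three ho).1 h
          omega
        · omega
    · rcases h3t with h | h
      · rcases hval t (Or.inl rfl) with ho | ho
        · have := (Nat.prime_dvd_prime_iff_eq Nat.prime_three ho).1 h
          omega
        · omega
      · have := hq3eq (he ▸ h)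
        exact listed_of_psl (by omega) e

/-- `PSL(2, F)` whose composite element order `n` is odd. -/
theorem listed_odd [IsSimpleGroup G] (hna : ¬ IsMulCommutative G) {F : Type} [Field F] [Fintype F]
    (e : G ≃* ProjectiveSpecialLinearGroup (Fin 2) F) {n : ℕ} (hn : Odd n) (hn1 : 1 < n) (hnp : ¬ n.Prime)
    (hn2 : ∀ d, d ∣ n → 1 < d → d ≠ n → d.Prime)
    (hex : ∃ x : G, orderOf x = n) (hord : ∀ x : G, x ≠ 1 → (orderOf x).Prime ∨ orderOf x = n) : Listed G := by
  classical
  have h4 := four_le_card hna e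
  obtain ⟨p, hp⟩ := CharP.exists F
  haveI : Fact p.Prime := ⟨CharP.char_is_prime F p⟩
  have hpp : p.Prime := Fact.out
  obtain ⟨f, hf, hqf⟩ := CfsgLib.Classical.Dickson.exists_char_pow (F := F) p
  set Q := Fintype.card F with hQ
  have hval : ∀ d, 1 < d → (d ∣ (Q - 1) / Nat.gcd 2 (Q - 1) ∨ d ∣ (Q + 1) / Nat.gcd 2 (Q - 1)) →
      d.Prime ∨ d = n := by
    intro d hd1 hd
    obtain ⟨x, hx⟩ := exists_order_of_dvd hna e (d := d) hd
    have hx1 : x ≠ 1 := fun e1 => by
      rw [e1, orderOf_one] at hx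
      omega
    exact hx ▸ hord x hx1
  have hn2' : n % 2 = 1 := Nat.odd_iff.1 hn
  by_cases hp2 : p = 2
  · subst hp2
    have hgcd : Nat.gcd 2 (Q - 1) = 1 := by
      have : 2 ∣ Q := hqf ▸ dvd_pow_self 2 (by omega)
      exact Nat.coprime_two_left.2 (Nat.odd_iff.2 (by omega))
    rw [hgcd, Nat.div_one, Nat.div_one] at hval
    have ha := hval (Q - 1) (by omega) (Or.inl dvd_rfl)
    have hb := hval (Q + 1) (by omega) (Or.inr dvd_rfl)
    have hdiv : n ∣ Q - 1 ∨ n ∣ Q + 1 := by
      obtain ⟨x, hx⟩ := hex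
      have hm : n ∈ Set.range (orderOf : ProjectiveSpecialLinearGroup (Fin 2) F → ℕ) :=
        ⟨e x, by rw [MulEquiv.orderOf_eq, hx]⟩
      rw [CfsgLib.Recog.PSLTwoOrders.range_orderOf (F := F) 2 h4] at hm
      rw [Set.mem_setOf_eq, ← hQ, hgcd, Nat.div_one, Nat.div_one] at hm
      exact hm.resolve_left (by omega)
    rcases Nat.lt_or_ge f 3 with hf3 | hf3
    · interval_cases f <;> norm_num at hqf
      · omega
      · rcases hdiv with h | h <;> rw [hqf] at h <;> norm_num at h
        · exact absurd ((Nat.dvd_prime Nat.prime_three).1 h) (by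
            rintro (h' | h') <;> [omega; exact hnp (h' ▸ Nat.prime_three)])
        · exact absurd ((Nat.dvd_prime (show Nat.Prime 5 by norm_num)).1 h) (by
            rintro (h' | h') <;> [omega; exact hnp (h' ▸ (by norm_num))])
    rcases hdiv with h | h
    · have han : Q - 1 = n := ha.resolve_left fun hpr => by
        rcases (Nat.dvd_prime hpr).1 h with h' | h'
        · omega
        · exact hnp (h' ▸ hpr)
      have hbp : (Q + 1).Prime := hb.resolve_right (by omega)
      rcases Nat.even_or_odd' f with ⟨k, rfl | rfl⟩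
      · have hk : 2 ≤ k := by omega
        have hK : 2 ^ 2 ≤ 2 ^ k := Nat.pow_le_pow_right two_pos hk
        have hfac : n = (2 ^ k + 1) * (2 ^ k - 1) := by
          rw [← han, hqf, pow_mul', ← Nat.sq_sub_sq, one_pow]
        have hA := hn2 (2 ^ k + 1) (hfac ▸ dvd_mul_right _ _) (by omega) (fun hh => by
          have := Nat.eq_of_mul_eq_mul_left (show 0 < 2 ^ k + 1 by omega)
            ((mul_one (2 ^ k + 1)).trans (hh.trans hfac))
          omega)
        have hB := hn2 (2 ^ k - 1) (hfac ▸ dvd_mul_left _ _) (by omega) (fun hh => by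
          have := Nat.eq_of_mul_eq_mul_right (show 0 < 2 ^ k - 1 by omega)
            ((one_mul (2 ^ k - 1)).trans (hh.trans hfac))
          omega)
        have h3 : 3 ∣ 2 ^ k + 1 ∨ 3 ∣ 2 ^ k - 1 := by
          rcases Nat.even_or_odd k with hk' | hk'
          · exact Or.inr ((CfsgLib.CIT.three_dvd_two_pow k).1 hk')
          · exact Or.inl ((CfsgLib.CIT.three_dvd_two_pow k).2 hk')
        rcases h3 with h3 | h3
        · have := (Nat.prime_dvd_prime_iff_eq Nat.prime_three hA).1 h3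
          omega
        · have := (Nat.prime_dvd_prime_iff_eq Nat.prime_three hB).1 h3
          have h16 : Q = 16 := by rw [hqf, pow_mul', show 2 ^ k = 4 by omega]; norm_num
          exact listed_of_psl (by omega) e
      · have := (Nat.prime_dvd_prime_iff_eq Nat.prime_three hbp).1
          (hqf ▸ (CfsgLib.CIT.three_dvd_two_pow _).2 ⟨k, rfl⟩)
        omega
    · have hbn : Q + 1 = n := hb.resolve_left fun hpr => by
        rcases (Nat.dvd_prime hpr).1 h with h' | h'
        · omega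
        · exact hnp (h' ▸ hpr)
      have hap : (Q - 1).Prime := ha.resolve_right (by omega)
      have hQ8 : 8 ≤ Q := by
        rw [hqf]
        exact le_trans (le_of_eq (by norm_num)) (Nat.pow_le_pow_right two_pos hf3)
      rcases Nat.even_or_odd f with hfe | hfo
      · have := (Nat.prime_dvd_prime_iff_eq Nat.prime_three hap).1
          (hqf ▸ (CfsgLib.CIT.three_dvd_two_pow f).1 hfe)
        omega
      · obtain ⟨r, hr⟩ : 3 ∣ Q + 1 := hqf ▸ (CfsgLib.CIT.three_dvd_two_pow f).2 hfo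
        have hrp := hn2 r (by rw [← hbn, hr]; exact dvd_mul_left _ _) (by omega) (by omega)
        exact Or.inr (Or.inr (Or.inr (Or.inr ⟨F, inferInstance, inferInstance, f, r, hqf ▸ hap, hrp,
          by rw [← hqf]; exact hr, hqf, ⟨e⟩⟩)))
  · obtain ⟨t, ht⟩ : Odd Q := hqf ▸ (hpp.odd_of_ne_two hp2).pow
    have hgcd : Nat.gcd 2 (Q - 1) = 2 := Nat.gcd_eq_left ⟨t, by omega⟩
    rw [hgcd, show (Q - 1) / 2 = t by omega, show (Q + 1) / 2 = t + 1 by omega] at hval
    rcases Nat.even_or_odd t with ht' | ht'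
    · rcases hval t (by omega) (Or.inl dvd_rfl) with hp' | hp'
      · have := hp'.even_iff.1 ht'
        exact listed_of_psl (Or.inl (by omega)) e
      · have := Nat.even_iff.1 ht'
        omega
    · rcases hval (t + 1) (by omega) (Or.inr dvd_rfl) with hp' | hp'
      · have := hp'.even_iff.1 ht'.add_one
        omega
      · have := Nat.even_iff.1 ht'.add_one
        omega

/-- A simple CIT group of Suzuki order has an element of order four. -/
theorem exists_order_four [IsSimpleGroup G] (hna : ¬ IsMulCommutative G) (hC : CfsgLib.CIT.CIT G)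
    (h2 : 2 ∣ Nat.card G) (h3 : ¬ 3 ∣ Nat.card G) : ∃ x : G, orderOf x = 4 := by
  classical
  obtain ⟨T, H, a, b, m, K⟩ := CfsgLib.CIT.SuzukiRecog.exists_kern_cit hna hC h2 h3
  letI := Fintype.ofFinite (G ⧸ Subgroup.normalizer (T : Set G))
  have hge : (2 ^ m) ^ 2 ≤ Nat.card H := by
    rcases K.card_cases with h | h <;> rw [h]
    exact Nat.pow_le_pow_right (by positivity) (by norm_num)
  have h4 := K.four_le
  have hex : ∃ u ∈ H, u ≠ 1 ∧ orderOf u ≠ 2 := by
    by_contra hall
    push Not at hall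
    let f : H → Option {u : G // u ∈ H ∧ orderOf u = 2} := fun u =>
      if hu : (u : G) = 1 then none else some ⟨u, u.2, hall u u.2 hu⟩
    have hf : Function.Injective f := by
      intro u v huv
      by_cases hu : (u : G) = 1 <;> by_cases hv : (v : G) = 1 <;>
        simp only [f, hu, hv, dif_pos, dif_neg, not_false_iff, reduceCtorEq, Option.some.injEq,
          Subtype.mk.injEq] at huv
      · exact Subtype.ext (hu.trans hv.symm)
      · exact Subtype.ext huv
    have := Nat.card_le_card_of_injective f hf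
    rw [Finite.card_option, K.card_involutions] at this
    nlinarith
  obtain ⟨u, hu, hu1, hu2⟩ := hex
  obtain ⟨k, hk⟩ := IsPGroup.iff_orderOf.1 K.isP ⟨u, hu⟩
  rw [Subgroup.orderOf_mk] at hk
  have hk2 : 2 ≤ k := by
    by_contra hlt
    interval_cases k
    · exact hu1 (orderOf_eq_one_iff.1 (by simpa using hk))
    · exact hu2 (by simpa using hk)
  refine ⟨u ^ (orderOf u / 4), orderOf_pow_orderOf_div (orderOf_pos u).ne' ?_⟩
  rw [hk, show (4 : ℕ) = 2 ^ 2 by norm_num]
  exact pow_dvd_pow 2 hk2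

theorem suzuki_order_facts {l : ℕ} (hl : 1 ≤ l) {N : ℕ}
    (hN : N = (2 ^ (2 * l + 1)) ^ 2 * ((2 ^ (2 * l + 1)) ^ 2 + 1) * (2 ^ (2 * l + 1) - 1)) :
    2 ∣ N ∧ ¬ 3 ∣ N := by
  obtain ⟨-, hq3, -⟩ := CfsgLib.CIT.SzPrimeGraph.q_facts l hl
  have h2 : 2 ∣ N := hN ▸ Dvd.dvd.mul_right (Dvd.dvd.mul_right (dvd_pow (dvd_pow_self 2 (by omega)) two_ne_zero) _) _
  refine ⟨h2, fun h3 => ?_⟩
  rw [hN] at h3
  generalize 2 ^ (2 * l + 1) = q at h3 hq3
  have h1 : (q ^ 2 + 1) % 3 = 2 := by rw [Nat.add_mod, Nat.pow_mod, hq3]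
  have h2' : q ^ 2 % 3 = 1 := by rw [Nat.pow_mod, hq3]
  have h4 : (q - 1) % 3 = 1 := by omega
  have : q ^ 2 * (q ^ 2 + 1) * (q - 1) % 3 = 2 := by
    rw [Nat.mul_mod, Nat.mul_mod (q ^ 2), h1, h2', h4]
  omega

/-- `Sz(32)` has two composite element orders. -/
theorem sz_thirtytwo_orders {F : Type} [Field F] [Fintype F] (hF : Fintype.card F = 32) :
    ∃ x : Cfsg.Sz F 2, orderOf x = 25 := by
  haveI : Fact (Nat.Prime 5) := ⟨by norm_num⟩
  haveI : Finite (Cfsg.Sz F 2) := Subtype.finite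
  have hF' : Fintype.card F = 2 ^ (2 * 2 + 1) := by rw [hF]; norm_num
  have hS := Cfsg.Agent.S0324.result (by norm_num) hF'
  obtain ⟨H, hH⟩ := Sylow.exists_subgroup_card_pow_prime (G := Cfsg.Sz F 2) 5 (n := 2) (by rw [hS]; norm_num)
  obtain ⟨P, hP⟩ := (IsPGroup.of_card (p := 5) hH).exists_le_sylow
  haveI : CharP F 2 := CfsgLib.Lie.Suzuki.charTwo_of_card hF'
  haveI : IsCyclic P := CfsgLib.Lie.Suzuki.isCyclic_sylow_odd hF' (by norm_num) (by norm_num) P
  haveI : IsCyclic H := isCyclic_of_injective (Subgroup.inclusion hP) (Subgroup.inclusion_injective _)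
  obtain ⟨g, hg⟩ := IsCyclic.exists_generator (α := H)
  refine ⟨(g : Cfsg.Sz F 2), ?_⟩
  rw [Subgroup.orderOf_coe, orderOf_eq_card_of_forall_mem_zpowers hg, hH]
  norm_num

/-- Simple groups of even order with at most one composite element order. -/
theorem classify [IsSimpleGroup G] (hna : ¬ IsMulCommutative G) (heven : 2 ∣ Nat.card G)
    (h1 : {n : ℕ | n ∈ Set.range (orderOf : G → ℕ) ∧ 1 < n ∧ ¬ n.Prime}.Subsingleton) : Listed G := by
  classical
  have huniq : ∀ x y : G, 1 < orderOf x → ¬ (orderOf x).Prime → 1 < orderOf y → ¬ (orderOf y).Prime →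
      orderOf x = orderOf y := fun x y a b c d => h1 ⟨⟨x, rfl⟩, a, b⟩ ⟨⟨y, rfl⟩, c, d⟩
  have hone : ∀ x : G, x ≠ 1 → 1 < orderOf x := fun x hx =>
    lt_of_le_of_ne (orderOf_pos x) fun e => hx (orderOf_eq_one_iff.1 e.symm)
  by_cases hE : ∀ g : G, g ≠ 1 → IsPrimePow (orderOf g)
  · rcases CfsgLib.CIT.SuzukiRecog.eppo_simple_list hna hE with ⟨⟨e⟩⟩ | ⟨F, iF, iFt, hF, ⟨e⟩⟩ | h | ⟨F, iF, iFt, h⟩
    · haveI : Fact (Nat.Prime 3) := ⟨Nat.prime_three⟩
      letI : Fintype (GaloisField 3 2) := Fintype.ofFinite _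
      have h9 : Fintype.card (GaloisField 3 2) = 9 := by
        rw [← Nat.card_eq_fintype_card, GaloisField.card 3 2 (by norm_num)]
        norm_num
      obtain ⟨e'⟩ := CfsgLib.Classical.nonempty_psl_nine_equiv_alt (F := GaloisField 3 2) h9
      exact listed_of_psl (F := GaloisField 3 2) (by simp [h9]) (e.trans e'.symm)
    · simp only [Finset.mem_insert, Finset.mem_singleton] at hF
      rcases hF with hF | hF | hF | hF
      · haveI : Fact (Nat.Prime 5) := ⟨by norm_num⟩
        obtain ⟨φ⟩ := CfsgLib.Classical.Dickson.psl_four_five_equiv F (Or.inl hF)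
        obtain ⟨ψ⟩ := CfsgLib.Classical.Dickson.psl_four_five_equiv (ZMod 5) (Or.inr (ZMod.card 5))
        exact listed_of_psl (F := ZMod 5) (Or.inl (ZMod.card 5)) (e.trans (φ.symm.trans ψ))
      · exact listed_of_psl (by simp [hF]) e
      · exact listed_of_psl (by simp [hF]) e
      · exfalso
        obtain ⟨x, hx⟩ := exists_order_of_dvd hna e (d := 8) (Or.inl (by rw [hF]; norm_num))
        obtain ⟨y, hy⟩ := exists_order_of_dvd hna e (d := 4) (Or.inl (by rw [hF]; norm_num))
        have := huniq x y (by omega) (by rw [hx]; norm_num) (by omega) (by rw [hy]; norm_num)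
        omega
    · exact Or.inr (Or.inl h)
    · rcases h with ⟨hF, e⟩ | ⟨hF, ⟨e⟩⟩
      · exact Or.inr (Or.inr (Or.inl ⟨F, iF, iFt, hF, e⟩))
      · exfalso
        have hF' : Fintype.card F = 2 ^ (2 * 2 + 1) := by rw [hF]; norm_num
        haveI : CharP F 2 := CfsgLib.Lie.Suzuki.charTwo_of_card hF'
        let e' : G ≃* Cfsg.Sz F 2 := e.trans (CfsgLib.Lie.Suzuki.equivLie (by norm_num) hF').symm
        have hG := (Nat.card_congr e'.toEquiv).trans (Cfsg.Agent.S0324.result (by norm_num) hF')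
        obtain ⟨h2', h3'⟩ := suzuki_order_facts (l := 2) (by norm_num) hG
        obtain ⟨x, hx⟩ := exists_order_four hna (CfsgLib.CIT.eppo_cit hE) h2' h3'
        obtain ⟨y, hy⟩ := sz_thirtytwo_orders hF
        have hy' : orderOf (e'.symm y) = 25 := by rw [MulEquiv.orderOf_eq, hy]
        have := huniq x (e'.symm y) (by omega) (by rw [hx]; norm_num) (by omega) (by rw [hy']; norm_num)
        omega
  push Not at hE
  obtain ⟨g, hg1, hgpp⟩ := hE
  set n := orderOf g with hn
  have hn1 : 1 < n := hone g hg1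
  have hnp : ¬ n.Prime := fun h => hgpp h.isPrimePow
  have hord : ∀ x : G, x ≠ 1 → (orderOf x).Prime ∨ orderOf x = n := fun x hx => by
    by_cases hp : (orderOf x).Prime
    · exact Or.inl hp
    · exact Or.inr (huniq x g (hone x hx) hp hn1 hnp)
  have hn2 : ∀ d, d ∣ n → 1 < d → d ≠ n → d.Prime := by
    intro d hd hd1 hdn
    have hx : orderOf (g ^ (n / d)) = d := orderOf_pow_orderOf_div (orderOf_pos g).ne' hd
    rcases hord (g ^ (n / d)) (fun e1 => by rw [e1, orderOf_one] at hx; omega) with h | h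
    · rwa [hx] at h
    · exact absurd (hx ▸ h) hdn
  by_cases heo : 2 ∣ n
  · obtain ⟨q, hq⟩ := heo
    have hqp : q.Prime := hn2 q ⟨2, by omega⟩ (by
      by_contra hlt
      exact hnp ((show n = 2 by omega) ▸ Nat.prime_two)) (by omega)
    have hq2 : q ≠ 2 := fun e2 => hgpp ((isPrimePow_nat_iff _).2 ⟨2, 2, Nat.prime_two, two_pos, by omega⟩)
    have hH : Hyp q G := ⟨hqp, hq2, inferInstance, hna, fun x hx => hq ▸ hord x hx, g, hn ▸ hq⟩
    obtain ⟨F, iF, iFt, hodd, ⟨e⟩⟩ := hH.psl
    exact listed_odd_two hna hodd e hqp hq2 hH.ord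
  have hnodd : Odd n := Nat.odd_iff.2 (by omega)
  have hC : CfsgLib.CIT.CIT G := CfsgLib.CIT.cit_iff_no_two_prime.2 fun r hr hr2 ⟨x, hx⟩ => by
    have := hr.two_le
    rcases hord x (fun e1 => by rw [e1, orderOf_one] at hx; omega) with h | h
    · exact absurd ((Nat.prime_dvd_prime_iff_eq Nat.prime_two h).1 (hx ▸ dvd_mul_right 2 r)) (by omega)
    · exact heo (h ▸ hx ▸ dvd_mul_right 2 r)
  rcases CfsgLib.CIT.simple_cit hna hC heven with ⟨F, iF, iFt, -, ⟨e⟩⟩ | h34 | hSz
  · exact listed_odd hna e hnodd hn1 hnp hn2 ⟨g, hn.symm⟩ hord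
  · exact Or.inr (Or.inl h34)
  · exfalso
    obtain ⟨-, l, hl, hG⟩ := hSz
    obtain ⟨x, hx⟩ := exists_order_four hna hC (suzuki_order_facts hl hG).1 (suzuki_order_facts hl hG).2
    rcases hord x (fun e1 => by rw [e1, orderOf_one] at hx; omega) with h | h
    · rw [hx] at h
      exact absurd h (by norm_num)
    · omega

end CfsgLib.Known.OneComposite
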