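import Mathlib

/-!
Owner: helper26. An automorphism of order `q` normalising a regular abelian group of automorphisms of an
elementary abelian group of order `2 ^ k` is a field automorphism: `q ∣ k`.
-/

set_option autoImplicit false
set_option linter.all false

namespace CfsgLib.Known.OneComposite

open Subgroup

variable {A V : Type*} [Group A] [CommGroup V] [Finite V]

theorem dvd_log (φ : A →* MulAut V) (hsq : ∀ x : V, x * x = 1) (R : Subgroup A)
    (hR : ∀ x ∈ R, ∀ y ∈ R, x * y = y * x)
    (hreg : ∀ x y : V, x ≠ 1 → y ≠ 1 → ∃ g ∈ R, φ g x = y)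
    {b : A} (hbR : ∀ z ∈ R, b * z * b⁻¹ ∈ R) {a : V} (ha : a ≠ 1) (hba : φ b a = a)
    {q : ℕ} (hq : q.Prime) (hbq : b ^ q = 1) (hb : φ b ≠ 1) {k : ℕ} (hk : Nat.card V = 2 ^ k) : q ∣ k := by
  classical
  haveI : Fact (Nat.Prime 2) := ⟨Nat.prime_two⟩
  let T : A → AddMonoid.End (Additive V) := fun g => MonoidHom.toAdditive (φ g).toMonoidHom
  have hT : ∀ g (x : Additive V), T g x = Additive.ofMul (φ g x.toMul) := fun g x => rfl
  have hTm : ∀ g g' : A, T (g * g') = T g * T g' := fun g g' => by
    refine AddMonoidHom.ext fun x => ?_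
    show Additive.ofMul (φ (g * g') x.toMul) = Additive.ofMul (φ g (φ g' x.toMul))
    rw [map_mul]
    rfl
  have hT1 : T 1 = 1 := by
    refine AddMonoidHom.ext fun x => ?_
    show Additive.ofMul (φ 1 x.toMul) = x
    rw [map_one]
    rfl
  have hsum : ∀ x : Additive V, x + x = 0 := fun x => congrArg Additive.ofMul (hsq x.toMul)
  have hdet : ∀ f : AddMonoid.End (Additive V), (∀ g ∈ R, f * T g = T g * f) →
      f (Additive.ofMul a) = 0 → f = 0 := by
    intro f hf h0
    refine AddMonoidHom.ext fun x => ?_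
    by_cases hx : x.toMul = 1
    · rw [show x = 0 from hx]
      exact (map_zero f).trans (map_zero (0 : AddMonoid.End (Additive V))).symm
    obtain ⟨g, hg, hga⟩ := hreg a x.toMul ha hx
    have h1 := DFunLike.congr_fun (hf g hg) (Additive.ofMul a)
    change f (T g (Additive.ofMul a)) = T g (f (Additive.ofMul a)) at h1
    rw [h0, map_zero, hT] at h1
    simp only [toMul_ofMul] at h1
    rw [hga, ofMul_toMul] at h1
    exact h1
  let P : AddMonoid.End (Additive V) → Prop := fun f => f = 0 ∨ ∃ g ∈ R, f = T g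
  have hcomm : ∀ g ∈ R, ∀ g' ∈ R, T g * T g' = T g' * T g := fun g hg g' hg' => by rw [← hTm, hR g hg g' hg', hTm]
  have hPc : ∀ f, P f → ∀ g ∈ R, f * T g = T g * f := by
    rintro f (rfl | ⟨g', hg', rfl⟩) g hg
    · rw [zero_mul, mul_zero]
    · exact hcomm g' hg' g hg
  let K : Subring (AddMonoid.End (Additive V)) :=
    { carrier := {f | P f}
      one_mem' := Or.inr ⟨1, one_mem R, hT1.symm⟩
      zero_mem' := Or.inl rfl
      mul_mem' := by
        rintro f f' (rfl | ⟨g, hg, rfl⟩) hf'
        · exact Or.inl (zero_mul _)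
        · rcases hf' with rfl | ⟨g', hg', rfl⟩
          · exact Or.inl (mul_zero _)
          · exact Or.inr ⟨g * g', mul_mem hg hg', (hTm g g').symm⟩
      add_mem' := by
        intro f f' hf hf'
        set v := (f + f') (Additive.ofMul a) with hv
        have hc : ∀ g ∈ R, (f + f') * T g = T g * (f + f') := fun g hg => by
          rw [add_mul, mul_add, hPc f hf g hg, hPc f' hf' g hg]
        by_cases hv0 : v.toMul = 1
        · exact Or.inl (hdet _ hc hv0)
        obtain ⟨g, hg, hga⟩ := hreg a v.toMul ha hv0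
        refine Or.inr ⟨g, hg, ?_⟩
        have h2 := hdet (f + f' - T g) (fun g' hg' => by
          rw [sub_mul, mul_sub, hc g' hg', hcomm g hg g' hg']) (by
          show (f + f') (Additive.ofMul a) - T g (Additive.ofMul a) = 0
          rw [hT]
          simp only [toMul_ofMul]
          rw [hga, ofMul_toMul, ← hv, sub_self])
        exact sub_eq_zero.1 h2
      neg_mem' := by
        intro f hf
        have e : -f = f := by
          refine AddMonoidHom.ext fun x => ?_
          show -(f x) = f x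
          exact (eq_neg_of_add_eq_zero_left (hsum (f x))).symm
        show P (-f)
        rw [e]
        exact hf }
  have hKc : ∀ x y : K, x * y = y * x := by
    rintro ⟨f, hf⟩ ⟨f', hf'⟩
    refine Subtype.ext ?_
    show f * f' = f' * f
    rcases hf' with rfl | ⟨g, hg, rfl⟩
    · rw [mul_zero, zero_mul]
    · exact hPc f hf g hg
  letI : CommRing K := { (inferInstance : Ring K) with mul_comm := hKc }
  haveI : Nontrivial K := ⟨⟨1, 0, fun e => ha (by
    have := DFunLike.congr_fun (congrArg Subtype.val e) (Additive.ofMul a)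
    exact congrArg Additive.toMul this)⟩⟩
  haveI hKinj : Function.Injective (fun f : K => (f : AddMonoid.End (Additive V)) (Additive.ofMul a)) := by
    rintro ⟨f, hf⟩ ⟨f', hf'⟩ e
    refine Subtype.ext (sub_eq_zero.1 (hdet (f - f') (fun g hg => by
      rw [sub_mul, mul_sub, hPc f hf g hg, hPc f' hf' g hg]) ?_))
    show f (Additive.ofMul a) - f' (Additive.ofMul a) = 0
    exact sub_eq_zero.2 e
  haveI : Finite K := Finite.of_injective _ hKinj
  have hKcard : Nat.card K = 2 ^ k := by
    rw [← hk, Nat.card_eq_of_bijective _ ⟨hKinj, fun x => ?_⟩]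
    · exact Nat.card_congr Additive.toMul
    by_cases hx : x.toMul = 1
    · exact ⟨0, (show (0 : Additive V) = x from hx.symm)⟩
    obtain ⟨g, hg, hga⟩ := hreg a x.toMul ha hx
    refine ⟨⟨T g, Or.inr ⟨g, hg, rfl⟩⟩, ?_⟩
    show T g (Additive.ofMul a) = x
    rw [hT]
    simp only [toMul_ofMul]
    rw [hga, ofMul_toMul]
  haveI : IsDomain K := by
    haveI : NoZeroDivisors K := ⟨fun {x y} hxy => by
      rcases x.2 with hx | ⟨g, hg, hx⟩
      · exact Or.inl (Subtype.ext hx)
      · refine Or.inr (Subtype.ext ?_)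
        have h1 : (x : AddMonoid.End (Additive V)) * y = 0 := congrArg Subtype.val hxy
        rw [hx] at h1
        have h2 := congrArg (fun f => T g⁻¹ * f) h1
        simp only [← mul_assoc, ← hTm, inv_mul_cancel, hT1, one_mul, mul_zero] at h2
        exact h2⟩
    exact NoZeroDivisors.to_isDomain K
  letI : Fintype K := Fintype.ofFinite K
  letI : Field K := Fintype.fieldOfDomain K
  haveI : CharP K 2 := CharP.charP_iff_prime_eq_zero Nat.prime_two |>.2 (Subtype.ext (by
    rw [Nat.cast_ofNat, ← one_add_one_eq_two, Subring.coe_add, Subring.coe_one]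
    refine AddMonoidHom.ext fun x => ?_
    exact hsum _))
  letI : Algebra (ZMod 2) K := ZMod.algebra K 2
  have hrank : Module.finrank (ZMod 2) K = k := by
    refine Nat.pow_right_injective le_rfl ?_
    show 2 ^ Module.finrank (ZMod 2) K = 2 ^ k
    rw [FiniteField.pow_finrank_eq_natCard, hKcard]
  have hbi : ∀ z ∈ R, b⁻¹ * z * b ∈ R := by
    intro z hz
    have : ∀ n : ℕ, b ^ n * z * (b ^ n)⁻¹ ∈ R := fun n => by
      induction n with
      | zero => simpa using hz
      | succ n ih =>
        convert hbR _ ih using 1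
        rw [pow_succ']
        group
    have h2 := this (q - 1)
    have e : b ^ (q - 1) = b⁻¹ := eq_inv_of_mul_eq_one_left (by
      rw [← pow_succ, Nat.sub_add_cancel hq.one_lt.le, hbq])
    rwa [e, inv_inv] at h2
  have hcm : ∀ c : A, (∀ z ∈ R, c * z * c⁻¹ ∈ R) → ∀ f, P f → P (T c * f * T c⁻¹) := by
    rintro c hc f (rfl | ⟨g, hg, rfl⟩)
    · exact Or.inl (by rw [mul_zero, zero_mul])
    · exact Or.inr ⟨c * g * c⁻¹, hc g hg, by rw [← hTm, ← hTm]⟩
  let σ : K ≃+* K :=
    { toFun := fun f => ⟨T b * f * T b⁻¹, hcm b hbR f f.2⟩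
      invFun := fun f => ⟨T b⁻¹ * f * T b⁻¹⁻¹, hcm b⁻¹ (by simpa using hbi) f f.2⟩
      left_inv := fun f => Subtype.ext (by
        show T b⁻¹ * (T b * f * T b⁻¹) * T b⁻¹⁻¹ = f
        simp only [mul_assoc, ← hTm, inv_inv, inv_mul_cancel, hT1, mul_one]
        rw [← mul_assoc, ← hTm, inv_mul_cancel, hT1, one_mul])
      right_inv := fun f => Subtype.ext (by
        show T b * (T b⁻¹ * f * T b⁻¹⁻¹) * T b⁻¹ = f
        simp only [mul_assoc, ← hTm, inv_inv, mul_inv_cancel, hT1, mul_one]
        rw [← mul_assoc, ← hTm, mul_inv_cancel, hT1, one_mul])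
      map_mul' := fun f f' => Subtype.ext (by
        show T b * ((f : AddMonoid.End (Additive V)) * f') * T b⁻¹ = (T b * f * T b⁻¹) * (T b * f' * T b⁻¹)
        have e : T b⁻¹ * T b = 1 := by rw [← hTm, inv_mul_cancel, hT1]
        simp only [mul_assoc]
        rw [← mul_assoc (T b⁻¹) (T b), e, one_mul])
      map_add' := fun f f' => Subtype.ext (by
        show T b * ((f : AddMonoid.End (Additive V)) + f') * T b⁻¹ = T b * f * T b⁻¹ + T b * f' * T b⁻¹
        rw [mul_add, add_mul]) }
  let σ' : Gal(K/ZMod 2) := AlgEquiv.ofRingEquiv (f := σ) (fun x =>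
    RingHom.congr_fun (Subsingleton.elim ((σ : K →+* K).comp (algebraMap (ZMod 2) K)) (algebraMap (ZMod 2) K)) x)
  have hpow : ∀ n : ℕ, ∀ f : K, (((σ' ^ n) f : K) : AddMonoid.End (Additive V)) = T (b ^ n) * f * T (b ^ n)⁻¹ := by
    intro n
    induction n with
    | zero => intro f; simp [hT1]
    | succ n ih =>
      intro f
      rw [pow_succ', AlgEquiv.mul_apply]
      show T b * ((σ' ^ n) f : K) * T b⁻¹ = _
      rw [ih, pow_succ', mul_inv_rev, hTm, hTm]
      simp only [mul_assoc]
  have hσq : σ' ^ q = 1 := AlgEquiv.ext fun f => Subtype.ext (by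
    rw [hpow, hbq, inv_one, hT1]
    simp)
  have hσne : σ' ≠ 1 := by
    intro e
    refine hb (MulEquiv.ext fun x => ?_)
    show φ b x = x
    by_cases hx : x = 1
    · rw [hx, map_one]
    obtain ⟨g, hg, hga⟩ := hreg a x ha hx
    have h1 := hpow 1 ⟨T g, Or.inr ⟨g, hg, rfl⟩⟩
    rw [e, one_pow, pow_one, ← hTm, ← hTm] at h1
    have h2 := DFunLike.congr_fun h1 (Additive.ofMul a)
    simp only [AlgEquiv.one_apply] at h2
    rw [hT, hT] at h2
    simp only [toMul_ofMul] at h2
    have h3 := congrArg Additive.toMul h2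
    simp only [toMul_ofMul] at h3
    have hbi' : φ b⁻¹ a = a := by
      conv_lhs => rw [← hba]
      rw [← MulAut.mul_apply, ← map_mul, inv_mul_cancel, map_one]
      rfl
    rw [map_mul, map_mul, MulAut.mul_apply, MulAut.mul_apply, hbi', hga] at h3
    exact h3.symm
  haveI : Fact q.Prime := ⟨hq⟩
  rw [← hrank, ← IsGalois.card_aut_eq_finrank (ZMod 2) K, ← orderOf_eq_prime hσq hσne]
  exact orderOf_dvd_natCard σ'

end CfsgLib.Known.OneComposite
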