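import Cfsg.Agent.Lib.Known.OneComposite.Regular
import Cfsg.Agent.Lib.Known.OneComposite.Singer

/-!
Owner: helper26. The automizer `r : q`: basic facts, `O(C(S)) = 1`, and the bound on swappings.
-/

set_option autoImplicit false
set_option linter.all false

namespace CfsgLib.Known.OneComposite

open Subgroup
open scoped commutatorElement

variable {G : Type*} [Group G] [Finite G]

/-- The action with codomain its range. -/
def rAct (S : Sylow 2 G) : normalizer ((S : Subgroup G) : Set G) →* (act S).range := (act S).rangeRestrict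

theorem coe_rAct (S : Sylow 2 G) (g : normalizer ((S : Subgroup G) : Set G)) :
    (rAct S g : MulAut (S : Subgroup G)) = act S g := rfl

namespace FrobData

variable {q : ℕ} {S : Sylow 2 G} {R : Subgroup (act S).range} {r : ℕ} {b : (act S).range}
  {a : (S : Subgroup G)} (hd : FrobData q S R r b a)
include hd

theorem exists_mul (g : (act S).range) : ∃ z ∈ R, ∃ i : ℤ, g = z * b ^ i := by
  haveI := hd.normal
  have hg : g ∈ R ⊔ zpowers b := hd.sup.symm ▸ mem_top g
  rw [← SetLike.mem_coe, normal_mul] at hg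
  obtain ⟨z, hz, _, ⟨i, rfl⟩, rfl⟩ := hg
  exact ⟨z, hz, i, rfl⟩

theorem pow_fix (i : ℤ) : ((b ^ i : (act S).range) : MulAut (S : Subgroup G)) a = a := by
  let F : Subgroup (act S).range :=
    { carrier := {g | (g : MulAut (S : Subgroup G)) a = a}
      one_mem' := rfl
      mul_mem' := fun {x y} hx hy => by
        show (x : MulAut (S : Subgroup G)) ((y : MulAut (S : Subgroup G)) a) = a
        rw [show (y : MulAut (S : Subgroup G)) a = a from hy]
        exact hx
      inv_mem' := fun {x} hx => by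
        show ((x⁻¹ : (act S).range) : MulAut (S : Subgroup G)) a = a
        conv_lhs => rw [← show (x : MulAut (S : Subgroup G)) a = a from hx]
        rw [← MulAut.mul_apply, ← Subgroup.coe_mul, inv_mul_cancel]
        rfl }
  exact zpow_mem (show b ∈ F from hd.fix_a) i

theorem eq_one_of_fix {z : (act S).range} (hz : z ∈ R) (hfix : (z : MulAut (S : Subgroup G)) a = a) : z = 1 := by
  obtain ⟨k, -, huniq⟩ := hd.regular a a hd.a_ne hd.a_ne
  exact (huniq z ⟨hz, hfix⟩).trans (huniq 1 ⟨one_mem R, rfl⟩).symm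

/-- The stabiliser of `a` is generated by `b`. -/
theorem mem_zpowers_of_fix {g : (act S).range} (hg : (g : MulAut (S : Subgroup G)) a = a) : g ∈ zpowers b := by
  obtain ⟨z, hz, i, rfl⟩ := hd.exists_mul g
  rw [Subgroup.coe_mul, MulAut.mul_apply, hd.pow_fix] at hg
  rw [hd.eq_one_of_fix hz hg, one_mul]
  exact zpow_mem (mem_zpowers b) i

theorem R_comm {x y : (act S).range} (hx : x ∈ R) (hy : y ∈ R) : x * y = y * x := by
  haveI : Fact r.Prime := ⟨hd.prime⟩
  haveI := isCyclic_of_prime_card hd.card_R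
  letI := IsCyclic.commGroup (α := R)
  exact congrArg Subtype.val (mul_comm (⟨x, hx⟩ : R) ⟨y, hy⟩)

theorem q_ne_one : b ≠ 1 → 1 < q := fun hb => by
  rcases Nat.lt_or_ge 1 q with h | h
  · exact h
  · exfalso
    have h0 : 0 < orderOf b := orderOf_pos b
    rw [hd.order_b] at h0
    exact hb (orderOf_eq_one_iff.1 (by rw [hd.order_b]; omega))

theorem centralizer_R {g : (act S).range} (hq : q.Prime) (hg : ∀ z ∈ R, g * z = z * g) : g ∈ R := by
  obtain ⟨z, hz, i, rfl⟩ := hd.exists_mul g
  obtain ⟨n, hn⟩ : ∃ n : ℕ, b ^ i = b ^ n := ⟨(i % (q : ℤ)).toNat, by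
    rw [← zpow_natCast, Int.toNat_of_nonneg (Int.emod_nonneg _ (by exact_mod_cast hq.ne_zero)), ← hd.order_b,
      zpow_mod_orderOf]⟩
  rw [hn] at hg ⊢
  by_cases hnq : n % q = 0
  · rw [← pow_mod_orderOf, hd.order_b, hnq, pow_zero, mul_one]
    exact hz
  exfalso
  obtain ⟨ρ, hρ, hρ1⟩ := R.bot_or_exists_ne_one.resolve_left fun e => by
    have := hd.card_R
    rw [e, card_bot] at this
    exact hd.prime.one_lt.ne this
  refine hρ1 (hd.fpf (n % q) (Nat.pos_of_ne_zero hnq) (Nat.mod_lt _ hq.pos) ρ hρ ?_)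
  rw [← hd.order_b, pow_mod_orderOf]
  have h1 := hg ρ hρ
  calc b ^ n * ρ = z⁻¹ * (z * b ^ n * ρ) := by group
    _ = z⁻¹ * (ρ * (z * b ^ n)) := by rw [h1]
    _ = z⁻¹ * (ρ * z) * b ^ n := by group
    _ = z⁻¹ * (z * ρ) * b ^ n := by rw [hd.R_comm hρ hz]
    _ = ρ * b ^ n := by group

theorem q_dvd (hq : q.Prime) : q ∣ r - 1 := by
  haveI := hd.normal
  haveI : Fact r.Prime := ⟨hd.prime⟩
  haveI := isCyclic_of_prime_card hd.card_R
  haveI : Fact q.Prime := ⟨hq⟩
  let c : (act S).range →* MulAut R := MulAut.conjNormal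
  have hne : c b ≠ 1 := by
    intro e
    obtain ⟨ρ, hρ, hρ1⟩ := R.bot_or_exists_ne_one.resolve_left fun e' => by
      have := hd.card_R
      rw [e', card_bot] at this
      exact hd.prime.one_lt.ne this
    refine hρ1 (hd.fpf 1 Nat.one_pos hq.one_lt ρ hρ ?_)
    have h1 := congrArg Subtype.val (DFunLike.congr_fun e ⟨ρ, hρ⟩)
    rw [MulAut.conjNormal_apply] at h1
    rw [pow_one]
    exact mul_inv_eq_iff_eq_mul.1 h1
  have ho : orderOf (c b) = q := ((Nat.dvd_prime hq).1 (hd.order_b ▸ orderOf_map_dvd c b)).resolve_left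
    fun e => hne (orderOf_eq_one_iff.1 e)
  have := orderOf_dvd_natCard (c b)
  rwa [ho, IsCyclic.card_mulAut, hd.card_R, Nat.totient_prime hd.prime] at this

theorem mem_of_orderOf {g : (act S).range} (hq : q.Prime) (hg : orderOf g ∣ r) : g ∈ R := by
  haveI := hd.normal
  have h1 : orderOf (QuotientGroup.mk' R g) ∣ r := (orderOf_map_dvd _ g).trans hg
  have hq' : Nat.card ((act S).range ⧸ R) = q := by
    have h3 := card_eq_card_quotient_mul_card_subgroup R
    rw [hd.card_A, hd.card_R, mul_comm r q] at h3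
    exact (Nat.eq_of_mul_eq_mul_right hd.prime.pos h3).symm
  have h2 : orderOf (QuotientGroup.mk' R g) ∣ q := hq' ▸ orderOf_dvd_natCard _
  exact (QuotientGroup.eq_one_iff g).1 (orderOf_eq_one_iff.1
    (Nat.eq_one_of_dvd_coprimes ((Nat.coprime_primes hd.prime hq).2 hd.ne.symm) h1 h2))

end FrobData

namespace Hyp

variable {q : ℕ} (h : Hyp q G) (S : Sylow 2 G) (hl : Loc S)
include h

theorem centralizer_split {g : G} (hg : g ∈ centralizer ((S : Subgroup G) : Set G)) :
    ∃ s ∈ (S : Subgroup G), ∃ w ∈ core (centralizer ((S : Subgroup G) : Set G)), g = s * w := by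
  have hgM := centralizer_le_normalizer _ hg
  by_cases hgo : Odd (orderOf g)
  · exact ⟨1, one_mem _, g, h.mem_core_centralizer S hg hgo (h.ne_bot S), (one_mul g).symm⟩
  have hg1 : g ≠ 1 := fun e => hgo (by rw [e]; simp)
  rcases h.ord g hg1 with hp | hp
  · exact ⟨g, h.mem_of_involution S hgM (by
      rw [← pow_two, ← hp.eq_two_or_odd'.resolve_right hgo, pow_orderOf_eq_one]), 1, one_mem _, (mul_one g).symm⟩
  · obtain ⟨m, hm⟩ : Even (q + 1) := h.odd_q.add_one
    refine ⟨g ^ q, h.mem_of_involution S (pow_mem hgM _) (by rw [← pow_add, ← two_mul, ← hp, pow_orderOf_eq_one]),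
      g ^ (q + 1), h.mem_core_centralizer S (pow_mem hg _) ?_ (h.ne_bot S), ?_⟩
    · refine (h.odd_q).of_dvd_nat (orderOf_dvd_of_pow_eq_one ?_)
      rw [← pow_mul, show (q + 1) * q = (2 * q) * m by rw [hm]; ring, pow_mul, ← hp, pow_orderOf_eq_one, one_pow]
    · rw [← pow_add, show q + (q + 1) = 2 * q + 1 by ring, pow_succ, ← hp, pow_orderOf_eq_one, one_mul]

theorem act_eq_one_iff (g : normalizer ((S : Subgroup G) : Set G)) :
    act S g = 1 ↔ (g : G) ∈ centralizer ((S : Subgroup G) : Set G) := by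
  constructor
  · intro e
    refine mem_centralizer_iff.2 fun s hs => ?_
    have h1 := congrArg Subtype.val (DFunLike.congr_fun e ⟨s, hs⟩)
    rw [act_apply] at h1
    exact (mul_inv_eq_iff_eq_mul.1 h1).symm
  · intro e
    refine MulEquiv.ext fun s => Subtype.ext ?_
    rw [act_apply]
    exact mul_inv_eq_iff_eq_mul.2 (mem_centralizer_iff.1 e s s.2).symm

theorem rAct_eq_one_iff (g : normalizer ((S : Subgroup G) : Set G)) :
    rAct S g = 1 ↔ (g : G) ∈ centralizer ((S : Subgroup G) : Set G) := by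
  rw [← h.act_eq_one_iff, Subtype.ext_iff, coe_rAct, OneMemClass.coe_one]

/-- An element of prime order inducing a given non-identity element of the automizer. -/
theorem exists_lift {g : (act S).range} (hg : g ≠ 1) :
    ∃ g' : normalizer ((S : Subgroup G) : Set G), rAct S g' = g ∧ (orderOf (g' : G)).Prime ∧
      Odd (orderOf (g' : G)) ∧ orderOf (g' : G) = orderOf g := by
  obtain ⟨_, g₀, rfl⟩ := g
  obtain ⟨g', he, ho, hp, hord⟩ := h.exists_preimage S g₀ (fun e => hg (Subtype.ext e))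
  refine ⟨g', Subtype.ext he, hp, ho, ?_⟩
  rw [← hord, ← orderOf_coe]

include hl

theorem frob_core {R : Subgroup (act S).range} {r : ℕ} {b : (act S).range} {a : (S : Subgroup G)}
    (hd : FrobData q S R r b a) : core (centralizer ((S : Subgroup G) : Set G)) = ⊥ := by
  classical
  by_contra hne
  set M := normalizer ((S : Subgroup G) : Set G) with hM
  set W := core (centralizer ((S : Subgroup G) : Set G)) with hW
  haveI : Fact q.Prime := ⟨h.prime⟩
  haveI : Fact r.Prime := ⟨hd.prime⟩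
  haveI := hd.normal
  set Z := (center W).map W.subtype with hZ
  have hWp : IsPGroup q W := h.core_centralizer_isPGroup S
  have hZW : Z ≤ W := map_subtype_le _
  have hZp : IsPGroup q Z := hWp.to_le hZW
  haveI : Nontrivial W := (nontrivial_iff_ne_bot W).2 hne
  have hMW : M ≤ normalizer (W : Set G) :=
    (CfsgLib.Signalizer.normalizer_le_normalizer_centralizer_set _).trans (normalizer_le_normalizer_core _)
  have hMZ : M ≤ normalizer (Z : Set G) := by
    refine hMW.trans ?_
    rw [hZ]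
    intro g hg
    rw [mem_normalizer_iff]
    intro x
    have key : ∀ g ∈ normalizer (W : Set G), ∀ x ∈ (center W).map W.subtype,
        g * x * g⁻¹ ∈ (center W).map W.subtype := by
      intro g hg x hx
      obtain ⟨z, hz, rfl⟩ := hx
      refine ⟨⟨g * z * g⁻¹, (mem_normalizer_iff.1 hg _).1 z.2⟩, mem_center_iff.2 fun w => Subtype.ext ?_, rfl⟩
      have hw : g⁻¹ * (w : G) * g ∈ W := (mem_normalizer_iff''.1 hg _).1 w.2
      have hc : g⁻¹ * (w : G) * g * z = z * (g⁻¹ * w * g) := congrArg Subtype.val (mem_center_iff.1 hz ⟨_, hw⟩)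
      calc (w : G) * (g * z * g⁻¹) = g * (g⁻¹ * w * g * z) * g⁻¹ := by group
        _ = g * (z * (g⁻¹ * w * g)) * g⁻¹ := by rw [hc]
        _ = g * (z : G) * g⁻¹ * (w : G) := by group
    refine ⟨key g hg x, fun hx => ?_⟩
    have := key g⁻¹ (inv_mem hg) _ hx
    simpa [mul_assoc] using this
  letI : CommGroup Z :=
    { (inferInstance : Group Z) with
      mul_comm := by
        rintro ⟨_, x, hx, rfl⟩ ⟨_, y, -, rfl⟩
        exact Subtype.ext (congrArg Subtype.val (mem_center_iff.1 hx y)).symm }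
  let ψ : M →* MulAut Z := (normalizerMonoidHom Z).comp (Subgroup.inclusion hMZ)
  have hψ : ∀ (g : M) (v : Z), ((ψ g v : Z) : G) = (g : G) * v * (g : G)⁻¹ := fun g v => rfl
  have hker : ∀ g : M, rAct S g = 1 → ψ g = 1 := by
    intro g hg
    refine MulEquiv.ext fun v => Subtype.ext ?_
    rw [hψ]
    refine mul_inv_eq_iff_eq_mul.2 ?_
    obtain ⟨s, hs, w, hw, e⟩ := h.centralizer_split S ((h.rAct_eq_one_iff S g).1 hg)
    have h1 : s * (v : G) = (v : G) * s := mem_centralizer_iff.1 (core_le _ (hZW v.2)) s hs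
    have h2 : w * (v : G) = (v : G) * w := by
      obtain ⟨_, z, hz, rfl⟩ := v
      exact congrArg Subtype.val (mem_center_iff.1 hz ⟨w, hw⟩)
    rw [e, mul_assoc, h2, ← mul_assoc, h1, mul_assoc]
    rfl
  -- elements of `R` moving `Z`
  have hRfix : ∀ g : M, rAct S g ∈ R → rAct S g ≠ 1 → ∀ v : Z, ψ g v = v → v = 1 := by
    intro g hgR hg1 v hv
    by_contra hv1
    obtain ⟨g', he, hp, ho, hord⟩ := h.exists_lift S hg1
    have hg'v : ψ g' v = v := by
      have h5 : ψ (g⁻¹ * g') = 1 := hker _ (by rw [map_mul, map_inv, he, inv_mul_cancel])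
      rw [map_mul, map_inv, inv_mul_eq_one] at h5
      rw [← h5, hv]
    have hor : orderOf (g' : G) = r := by
      rw [hord]
      refine ((Nat.dvd_prime hd.prime).1 ?_).resolve_left fun e => hg1 (orderOf_eq_one_iff.1 e)
      rw [← hd.card_R, ← Subgroup.orderOf_mk _ hgR]
      exact orderOf_dvd_natCard _
    have hv1' : (v : G) ≠ 1 := fun e => hv1 (Subtype.ext e)
    have hvq : orderOf (v : G) = q := orderOf_eq_prime (h.pow_q_eq_one (Or.inl (h.orderOf_of_mem S a.2
      fun e => hd.a_ne (Subtype.ext e))) (mem_centralizer_iff.1 (core_le _ (hZW v.2)) a a.2)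
      ((card_core _).of_dvd_nat (orderOf_dvd_of_mem (hZW v.2)))) hv1'
    have hcomm : Commute (v : G) (g' : G) := by
      have := congrArg Subtype.val hg'v
      rw [hψ] at this
      exact (mul_inv_eq_iff_eq_mul.1 this).symm
    rcases h.eq_q_of_commute_q hvq hd.prime hor hcomm with e | e
    · rw [hor, e] at ho
      exact absurd ho (by decide)
    · exact hd.ne e.symm
  let Rp : Subgroup M := R.comap (rAct S)
  have hb1 : b ≠ 1 := fun e => by
    have := hd.order_b
    rw [e, orderOf_one] at this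
    exact h.prime.one_lt.ne this
  obtain ⟨b', hb', -, hbo, hbq⟩ := h.exists_lift S hb1
  rw [hd.order_b] at hbq
  -- every vector has trivial trace
  have htr : ∀ v : Z, ∏ i ∈ Finset.range q, (MonoidHom.id (MulAut Z)) ((ψ b') ^ i) v = 1 := by
    intro v
    have hbN : (b' : G) ∈ normalizer (Z : Set G) := hMZ b'.2
    obtain ⟨w, hw, hfw⟩ := exists_mul_pow hbN (MonoidHom.id Z) v q
    have hsup : IsPGroup q ↥(zpowers (b' : G) ⊔ Z) :=
      (IsPGroup.of_card (n := 1) (by rw [Nat.card_zpowers, hbq, pow_one])).to_sup_of_normal_right' hZp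
        (zpowers_le.2 hbN)
    have hvb : (v : G) * b' ∈ zpowers (b' : G) ⊔ Z :=
      mul_mem (mem_sup_right v.2) (mem_sup_left (mem_zpowers _))
    have hpw : ((v : G) * b') ^ q = 1 := by
      obtain ⟨m, hm⟩ := (IsPGroup.iff_orderOf.1 hsup) ⟨_, hvb⟩
      rw [Subgroup.orderOf_mk] at hm
      by_cases he : (v : G) * b' = 1
      · rw [he, one_pow]
      have := h.odd_prime (hm ▸ h.odd_q.pow) he
      rw [hm] at this
      rw [Nat.Prime.eq_one_of_pow this, pow_one] at hm
      rw [← hm, pow_orderOf_eq_one]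
    rw [hpw, ← hbq, pow_orderOf_eq_one, mul_one] at hw
    have hw1 : w = 1 := Subtype.ext hw.symm
    rw [hw1, map_one] at hfw
    rw [hfw]
    refine Finset.prod_congr rfl fun i _ => Subtype.ext ?_
    rw [MonoidHom.id_apply, ← map_pow, hψ, SubmonoidClass.coe_pow]
    rfl
  obtain ⟨v, hv, hv1⟩ := Z.bot_or_exists_ne_one.resolve_left fun e => by
    have h6 := hWp.center_nontrivial
    rw [nontrivial_iff_ne_bot] at h6
    exact h6 (map_eq_bot_iff_of_injective _ W.subtype_injective |>.1 e)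
  have hcop : (Nat.card (Rp.map ψ)).Coprime (Nat.card Z) := by
    have hRr : IsPGroup r ↥(Rp.map ψ) := by
      rintro ⟨_, g, hg, rfl⟩
      refine ⟨1, Subtype.ext ?_⟩
      rw [SubmonoidClass.coe_pow, pow_one, ← map_pow, OneMemClass.coe_one]
      refine hker _ ?_
      rw [map_pow, ← hd.card_R]
      exact orderOf_dvd_iff_pow_eq_one.1 (Subgroup.orderOf_dvd_natCard R hg)
    obtain ⟨i, hi⟩ := hRr.exists_card_eq
    obtain ⟨j, hj⟩ := hZp.exists_card_eq
    rw [hi, hj]
    exact Nat.Coprime.pow _ _ ((Nat.coprime_primes hd.prime h.prime).2 hd.ne.symm)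
  refine hv1 (congrArg Subtype.val (eq_one_of_trace (MonoidHom.id (MulAut Z)) (Rp.map ψ) (ψ b') q h.q_pos
    ⟨⟨?_⟩⟩ ?_ ?_ ?_ hcop htr ⟨v, hv⟩))
  · rintro ⟨_, x, hx, rfl⟩ ⟨_, y, hy, rfl⟩
    refine Subtype.ext ?_
    show ψ x * ψ y = ψ y * ψ x
    rw [← commutatorElement_eq_one_iff_mul_comm, ← map_commutatorElement]
    refine hker _ ?_
    rw [map_commutatorElement, commutatorElement_eq_one_iff_mul_comm]
    exact hd.R_comm hx hy
  · rintro _ ⟨z, hz, rfl⟩
    refine ⟨b' * z * b'⁻¹, ?_, by simp⟩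
    show rAct S (b' * z * b'⁻¹) ∈ R
    rw [map_mul, map_mul, map_inv, hb']
    exact hd.normal.conj_mem _ hz b
  · rintro i h0 hi _ ⟨z, hz, rfl⟩ hc
    rw [← map_pow] at hc
    have hc' : ψ ⁅b' ^ i, z⁆ = 1 := by rwa [map_commutatorElement, commutatorElement_eq_one_iff_mul_comm]
    have hcR : rAct S ⁅b' ^ i, z⁆ ∈ R := by
      rw [map_commutatorElement, commutatorElement_def, map_pow, hb']
      exact mul_mem (hd.normal.conj_mem _ hz _) (inv_mem hz)
    have hc1 : rAct S ⁅b' ^ i, z⁆ = 1 := by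
      by_contra hne1
      refine hv1 (congrArg Subtype.val (hRfix _ hcR hne1 ⟨v, hv⟩ ?_))
      rw [hc']
      rfl
    refine hker z (hd.fpf i h0 hi _ hz ?_)
    rw [map_commutatorElement, map_pow, hb', commutatorElement_eq_one_iff_mul_comm] at hc1
    exact hc1
  · intro w hw
    obtain ⟨ρ, hρ, hρ1⟩ := R.bot_or_exists_ne_one.resolve_left fun e => by
      have := hd.card_R
      rw [e, card_bot] at this
      exact hd.prime.one_lt.ne this
    obtain ⟨g, hg, -, -, -⟩ := h.exists_lift S hρ1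
    exact hRfix g (hg ▸ hρ) (hg ▸ hρ1) w (hw _ ⟨g, show rAct S g ∈ R from hg ▸ hρ, rfl⟩)

/-- With trivial `O(C(S))`, `S` is the kernel of the action. -/
theorem frob_ker {R : Subgroup (act S).range} {r : ℕ} {b : (act S).range} {a : (S : Subgroup G)}
    (hd : FrobData q S R r b a) {g : normalizer ((S : Subgroup G) : Set G)} (hg : rAct S g = 1) :
    (g : G) ∈ (S : Subgroup G) := by
  obtain ⟨s, hs, w, hw, e⟩ := h.centralizer_split S ((h.rAct_eq_one_iff S g).1 hg)
  rw [h.frob_core S hl hd, mem_bot] at hw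
  rw [e, hw, mul_one]
  exact hs

theorem inter_inj {R : Subgroup (act S).range} {r : ℕ} {b : (act S).range} {a : (S : Subgroup G)}
    (hd : FrobData q S R r b a) {u : G} (hu : orderOf u = 2)
    (huM : u ∉ normalizer ((S : Subgroup G) : Set G)) (x : normalizer ((S : Subgroup G) : Set G))
    (hx : u * x * u ∈ normalizer ((S : Subgroup G) : Set G)) (h1 : rAct S x = 1) : (x : G) = 1 :=
  h.eq_one_of_odd S (h.frob_ker S hl hd h1)
    (((h.strongly_embedded S hl).2.2 u huM).of_dvd_nat (orderOf_dvd_of_mem (mem_inf_conj hu x.2 hx)))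

/-- At most `r` elements of a swapped intersection are inverted by the swapper, and it has an element of order `r`. -/
theorem frob_inverted {R : Subgroup (act S).range} {r : ℕ} {b : (act S).range} {a : (S : Subgroup G)}
    (hd : FrobData q S R r b a) {u : G} (hu : orderOf u = 2)
    (huM : u ∉ normalizer ((S : Subgroup G) : Set G)) :
    (∃ z : G, orderOf z = r ∧ z ∈ normalizer ((S : Subgroup G) : Set G) ∧
      u * z * u ∈ normalizer ((S : Subgroup G) : Set G)) ∧
    Nat.card {d : G // d ∈ normalizer ((S : Subgroup G) : Set G) ∧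
      u * d * u ∈ normalizer ((S : Subgroup G) : Set G) ∧ u * d * u = d⁻¹} ≤ r := by
  classical
  set M := normalizer ((S : Subgroup G) : Set G) with hM
  haveI : Fact r.Prime := ⟨hd.prime⟩
  haveI := hd.normal
  have hui : u⁻¹ = u := CfsgLib.Signalizer.involution_inv hu
  have huu : u * u = 1 := CfsgLib.Signalizer.involution_sq hu
  have ha1 : (a : G) ≠ 1 := fun e => hd.a_ne (Subtype.ext e)
  have hcj : ∀ x y : G, u * (x * y) * u = (u * x * u) * (u * y * u) := fun x y => by
    calc u * (x * y) * u = u * x * 1 * y * u := by group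
      _ = u * x * (u * u) * y * u := by rw [huu]
      _ = _ := by group
  have hinvc : ∀ x : G, u * x⁻¹ * u = (u * x * u)⁻¹ := fun x => by rw [mul_inv_rev, mul_inv_rev, hui]; group
  let D : Subgroup M :=
    { carrier := {x | u * (x : G) * u ∈ M}
      one_mem' := by show u * ((1 : M) : G) * u ∈ M; rw [Subgroup.coe_one, mul_one, huu]; exact one_mem M
      mul_mem' := fun {x y} hx hy => by
        show u * ((x * y : M) : G) * u ∈ M
        rw [Subgroup.coe_mul, hcj]
        exact M.mul_mem hx hy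
      inv_mem' := fun {x} hx => by
        show u * ((x⁻¹ : M) : G) * u ∈ M
        rw [Subgroup.coe_inv, hinvc]
        exact M.inv_mem hx }
  let f : D →* (act S).range := (rAct S).comp D.subtype
  have hf : Function.Injective f := by
    refine (injective_iff_map_eq_one f).2 fun x hx => ?_
    exact Subtype.ext (Subtype.ext (h.inter_inj S hl hd hu huM x.1 x.2 hx))
  -- the order of `D` is at least `r`
  have hcard : r ≤ Nat.card D := by
    let o : D → {x : (S : Subgroup G) // x ≠ 1} := fun d => ⟨act S d.1 a, fun e => hd.a_ne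
      ((map_eq_one_iff (act S d.1) (act S d.1).injective).1 e)⟩
    have hsur : Function.Surjective o := by
      intro x
      obtain ⟨d, hdM, hdu, hda⟩ := h.transitive_inter S hl hu huM a.2 ha1 x.1.2 (fun e => x.2 (Subtype.ext e))
      exact ⟨⟨⟨d, hdM⟩, hdu⟩, Subtype.ext (Subtype.ext hda)⟩
    have h2 := Nat.card_le_card_of_surjective o hsur
    haveI : Fintype (S : Subgroup G) := Fintype.ofFinite _
    rw [Nat.card_eq_fintype_card (α := {x : (S : Subgroup G) // x ≠ 1}), Fintype.card_subtype_compl,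
      Fintype.card_subtype_eq, ← Nat.card_eq_fintype_card] at h2
    have := hd.card_S
    omega
  have hrD : r ∣ Nat.card D := by
    have h3 : Nat.card D ∣ r * q := hd.card_A ▸ card_dvd_of_injective f hf
    have hqr : q < r := lt_of_le_of_lt (Nat.le_of_dvd (by have := hd.prime.two_le; omega) (hd.q_dvd h.prime))
      (by have := hd.prime.two_le; omega)
    by_contra hr
    have h4 : Nat.card D ∣ q := (Nat.Coprime.dvd_mul_left ((hd.prime.coprime_iff_not_dvd.2 hr).symm)).1 h3
    have := Nat.le_of_dvd h.prime.pos h4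
    omega
  obtain ⟨z, hz⟩ := exists_prime_orderOf_dvd_card' r hrD
  have hzG : orderOf ((z.1 : M) : G) = r := by rw [orderOf_coe, orderOf_coe, hz]
  refine ⟨⟨z.1, hzG, z.1.2, z.2⟩, ?_⟩
  have hfz : orderOf (f z) = r := by rw [orderOf_injective f hf, hz]
  have hfzR : f z ∈ R := hd.mem_of_orderOf h.prime (hfz ▸ dvd_rfl)
  have hgenR : zpowers (f z) = R := eq_of_le_of_card_ge (zpowers_le.2 hfzR) (by
    rw [hd.card_R, Nat.card_zpowers, hfz])
  refine le_trans (Nat.card_le_card_of_injective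
    (fun d => (⟨rAct S ⟨d.1, d.2.1⟩, ?_⟩ : R)) ?_) hd.card_R.le
  swap
  · intro d e hde
    have h1 : f ⟨⟨d.1, d.2.1⟩, d.2.2.1⟩ = f ⟨⟨e.1, e.2.1⟩, e.2.2.1⟩ := congrArg Subtype.val hde
    exact Subtype.ext (congrArg (fun x : D => ((x.1 : M) : G)) (hf h1))
  -- an inverted element induces an element of `R`
  obtain ⟨d, hdM, hdu, hinv⟩ := d
  let σ : D → D := fun x => ⟨⟨u * (x.1 : G) * u, x.2⟩, by
    show u * (u * (x.1 : G) * u) * u ∈ M
    rw [show u * (u * (x.1 : G) * u) * u = (u * u) * (x.1 : G) * (u * u) by group, huu, one_mul, mul_one]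
    exact x.1.2⟩
  have hσm : ∀ x y, σ (x * y) = σ x * σ y := fun x y => Subtype.ext (Subtype.ext (hcj _ _))
  have hσ : ∀ (x : D) (n : ℕ), σ (x ^ n) = σ x ^ n := fun x n =>
    map_pow (MonoidHom.mk' σ hσm) x n
  set D' : D := ⟨⟨d, hdM⟩, hdu⟩ with hD'
  have hσd : σ D' = D'⁻¹ := Subtype.ext (Subtype.ext hinv)
  have hmemz : ∀ x : D, f x ∈ R → ∃ n : ℕ, x = z ^ n := by
    intro x hx
    rw [← hgenR] at hx
    obtain ⟨n, hn⟩ := (isOfFinOrder_of_finite (f z)).mem_powers_iff_mem_zpowers.2 hx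
    exact ⟨n, hf (hn.symm.trans (map_pow f z n).symm)⟩
  have hσz : ∃ m, σ z = z ^ m := by
    refine hmemz _ (hd.mem_of_orderOf h.prime ?_)
    refine (orderOf_map_dvd f _).trans (orderOf_dvd_of_pow_eq_one ?_)
    rw [← hσ, ← hz, pow_orderOf_eq_one]
    exact Subtype.ext (Subtype.ext (by
      show u * ((1 : M) : G) * u = 1
      rw [Subgroup.coe_one, mul_one, huu]))
  have hdz : ∃ c, D' * z * D'⁻¹ = z ^ c := by
    refine hmemz _ ?_
    rw [map_mul, map_mul, map_inv]
    exact hd.normal.conj_mem _ hfzR _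
  obtain ⟨m, hm⟩ := hσz
  obtain ⟨c, hc⟩ := hdz
  have hσi : σ D'⁻¹ = D' := by
    have e := map_inv (MonoidHom.mk' σ hσm) D'
    change σ D'⁻¹ = (σ D')⁻¹ at e
    rw [e, hσd, inv_inv]
  have h5 : D'⁻¹ * z ^ m * D' = (z ^ m) ^ c := by
    have e := congrArg σ hc
    rw [hσm, hσm, hσd, hσi, hm, hσ, hm] at e
    exact e
  have h6 : D' * (z ^ m) * D'⁻¹ = (z ^ m) ^ c := by
    rw [← pow_mul, mul_comm m c, pow_mul, ← hc, conj_pow]
  have h7 : D' * D' * z ^ m = z ^ m * (D' * D') := by
    have e : D' * z ^ m * D'⁻¹ = D'⁻¹ * z ^ m * D' := h6.trans h5.symm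
    calc D' * D' * z ^ m = D' * (D' * z ^ m * D'⁻¹) * D' := by group
      _ = D' * (D'⁻¹ * z ^ m * D') * D' := by rw [e]
      _ = _ := by group
  have hm0 : ¬ r ∣ m := fun hdv => by
    have h8 : z ^ m = 1 := orderOf_dvd_iff_pow_eq_one.1 (hz.symm ▸ hdv)
    rw [h8] at hm
    have h9 : u * ((z.1 : M) : G) * u = 1 := congrArg (fun x : D => ((x.1 : M) : G)) hm
    have : ((z.1 : M) : G) = 1 := by
      calc ((z.1 : M) : G) = (u * u) * ((z.1 : M) : G) * (u * u) := by rw [huu, one_mul, mul_one]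
        _ = u * (u * ((z.1 : M) : G) * u) * u := by group
        _ = 1 := by rw [h9, mul_one, huu]
    rw [this, orderOf_one] at hzG
    exact hd.prime.one_lt.ne hzG
  have hcR : f (D' * D') ∈ R := by
    refine hd.centralizer_R h.prime fun ρ hρ => ?_
    obtain ⟨n, hn⟩ := exists_pow_eq_self_of_coprime (x := f z) (n := m)
      (by rw [hfz]; exact (hd.prime.coprime_iff_not_dvd.2 hm0).symm)
    rw [← hgenR] at hρ
    obtain ⟨j, rfl⟩ := hρ
    have hc2 : Commute (f (D' * D')) (f z) := by
      rw [← hn, ← map_pow f z m]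
      exact ((show Commute (D' * D') (z ^ m) from h7).map f).pow_right n
    exact (hc2.zpow_right j).eq
  have hD'o : Odd (orderOf (f D')) := by
    have hA : Odd (Nat.card (act S).range) := by
      rw [hd.card_A]
      exact (hd.prime.odd_of_ne_two (fun e => by
        have := h.four_le S
        have := hd.card_S
        omega)).mul h.odd_q
    exact hA.of_dvd_nat (orderOf_dvd_natCard _)
  obtain ⟨n, hn⟩ := exists_pow_eq_self_of_coprime (x := f D') (n := 2) (Nat.coprime_two_left.2 hD'o)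
  show f D' ∈ R
  rw [← hn, pow_two, ← map_mul]
  exact pow_mem hcR n

theorem frob_swap {R : Subgroup (act S).range} {r : ℕ} {b : (act S).range} {a : (S : Subgroup G)}
    (hd : FrobData q S R r b a) {g : G} (hg : g ∉ normalizer ((S : Subgroup G) : Set G)) :
    ∃ z : G, orderOf z = r ∧ z ∈ normalizer ((S : Subgroup G) : Set G) ∧
      g⁻¹ * z * g ∈ normalizer ((S : Subgroup G) : Set G) := by
  obtain ⟨u, hu, huM, hgu⟩ := h.exists_swap S hl hd.card_S
    (fun u hu huM => (h.frob_inverted S hl hd hu huM).2) hg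
  obtain ⟨z, hz, hzM, hzu⟩ := (h.frob_inverted S hl hd hu huM).1
  refine ⟨z, hz, hzM, ?_⟩
  have e : g⁻¹ * z * g = (g⁻¹ * u) * (u * z * u) * (g⁻¹ * u)⁻¹ := by
    calc g⁻¹ * z * g = g⁻¹ * ((u * u) * z * (u * u)) * g := by
          rw [CfsgLib.Signalizer.involution_sq hu, one_mul, mul_one]
      _ = (g⁻¹ * u) * (u * z * u) * (u * g) := by group
      _ = _ := by rw [mul_inv_rev, inv_inv, CfsgLib.Signalizer.involution_inv hu]
  rw [e]
  exact mul_mem (mul_mem hgu hzu) (inv_mem hgu)

end Hyp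

end CfsgLib.Known.OneComposite
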