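import Cfsg.Agent.Lib.Known.OneComposite.Frob
import Cfsg.Agent.Lib.Recog.PSLTwoOrders
import Cfsg.Agent.S3285

/-!
Owner: helper26. The automizer `r : q` is impossible: the fixed points of the element of order `q` force
`q = 3` and `|S| = 8`, and `C(a) = Z₂ × A₄`.
-/

set_option autoImplicit false
set_option linter.all false

namespace CfsgLib.Known.OneComposite

open Subgroup
open scoped commutatorElement

variable {G : Type*} [Group G] [Finite G]

namespace Hyp

variable {q : ℕ} (h : Hyp q G) (S : Sylow 2 G) (hl : Loc S)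
include h hl

theorem inter_trivial {R : Subgroup (act S).range} {r : ℕ} {b : (act S).range} {a : (S : Subgroup G)}
    (hd : FrobData q S R r b a) {g : G} (hg : g ∉ normalizer ((S : Subgroup G) : Set G)) {x : G}
    (hx : x ∈ normalizer ((S : Subgroup G) : Set G))
    (hgx : g⁻¹ * x * g ∈ normalizer ((S : Subgroup G) : Set G)) (h1 : rAct S ⟨x, hx⟩ = 1) : x = 1 := by
  by_contra hx1
  have hxS := h.frob_ker S hl hd h1
  have ho : orderOf (g⁻¹ * x * g⁻¹⁻¹) = 2 := by rw [CfsgLib.Signalizer.orderOf_conj, h.orderOf_of_mem S hxS hx1]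
  rw [inv_inv] at ho
  have := h.mem_of_conj_mem S hl (g := g⁻¹) hxS hx1 (by
    rw [inv_inv]; exact h.mem_of_invol S hl hgx ho)
  exact hg (inv_mem_iff.1 this)

theorem act_of_order {R : Subgroup (act S).range} {r : ℕ} {b : (act S).range} {a : (S : Subgroup G)}
    (hd : FrobData q S R r b a) {z : G} (hz : orderOf z = r) (hzM : z ∈ normalizer ((S : Subgroup G) : Set G)) :
    rAct S ⟨z, hzM⟩ ∈ R ∧ rAct S ⟨z, hzM⟩ ≠ 1 ∧ zpowers (rAct S ⟨z, hzM⟩) = R := by
  have hmem : rAct S ⟨z, hzM⟩ ∈ R := hd.mem_of_orderOf h.prime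
    ((orderOf_map_dvd (rAct S) _).trans (by rw [Subgroup.orderOf_mk, hz]))
  have hne : rAct S ⟨z, hzM⟩ ≠ 1 := fun e => by
    have h1 := h.orderOf_of_mem S (h.frob_ker S hl hd e) (fun e' => by
      have e'' : z = 1 := e'
      rw [e'', orderOf_one] at hz; exact hd.prime.one_lt.ne hz)
    have h2 : r = 2 := hz.symm.trans h1
    have := h.four_le S
    have := hd.card_S
    omega
  refine ⟨hmem, hne, eq_of_le_of_card_ge (zpowers_le.2 hmem) ?_⟩
  rw [hd.card_R, Nat.card_zpowers]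
  refine (((Nat.dvd_prime hd.prime).1 ?_).resolve_left fun e => hne (orderOf_eq_one_iff.1 e)).ge
  rw [← hd.card_R]
  exact Subgroup.orderOf_dvd_natCard R hmem

theorem frob_false {R : Subgroup (act S).range} {r : ℕ} {b : (act S).range} {a : (S : Subgroup G)}
    (hd : FrobData q S R r b a) : False := by
  classical
  haveI : Fact r.Prime := ⟨hd.prime⟩
  haveI : Fact q.Prime := ⟨h.prime⟩
  haveI : Fact (Nat.Prime 2) := ⟨Nat.prime_two⟩
  haveI := hd.normal
  haveI := h.simple
  set M := normalizer ((S : Subgroup G) : Set G) with hM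
  have ha1 : (a : G) ≠ 1 := fun e => hd.a_ne (Subtype.ext e)
  have ha2 := h.orderOf_of_mem S a.2 ha1
  have haM : (a : G) ∈ M := le_normalizer a.2
  have hb1 : b ≠ 1 := fun e => by
    have := hd.order_b
    rw [e, orderOf_one] at this
    exact h.prime.one_lt.ne this
  obtain ⟨⟨b', hbM⟩, hb', -, hbo, hbq⟩ := h.exists_lift S hb1
  rw [hd.order_b] at hbq
  have hbq : orderOf b' = q := hbq
  set B := zpowers b' with hB
  set N := normalizer (B : Set G) with hN
  have hab : Commute (a : G) b' := by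
    have h1 := congrArg Subtype.val hd.fix_a
    rw [← hb', coe_rAct, act_apply] at h1
    exact (mul_inv_eq_iff_eq_mul.1 h1).symm
  set c₀ := (a : G) * b' with hc₀
  have hc₀o : orderOf c₀ = 2 * q := by
    rw [hab.orderOf_mul_eq_mul_orderOf_of_coprime (by
      rw [ha2, hbq]; exact Nat.coprime_two_left.2 h.odd_q), ha2, hbq]
  have hc₀M : c₀ ∈ M := mul_mem haM hbM
  have hc₀C : Commute c₀ b' := hab.mul_left (Commute.refl b')
  have hcN : ∀ x : G, Commute x b' → x ∈ N := fun x hx => centralizer_le_normalizer _ (mem_centralizer_iff.2 (by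
    rintro _ ⟨i, rfl⟩
    exact ((hx.zpow_right i).eq).symm))
  have haz : (a : G) ∈ zpowers c₀ := by
    refine ⟨(q : ℤ), ?_⟩
    obtain ⟨m, hm⟩ := h.odd_q
    show c₀ ^ (q : ℤ) = a
    rw [zpow_natCast, hc₀, hab.mul_pow,
      show b' ^ q = 1 by rw [← hbq, pow_orderOf_eq_one], mul_one, hm, pow_succ, pow_mul, pow_two,
      h.mul_self_of_mem S a.2, one_pow, one_mul]
  have hbz : b' ∈ zpowers c₀ := by
    refine ⟨((q + 1 : ℕ) : ℤ), ?_⟩
    obtain ⟨m, hm⟩ : Even (q + 1) := h.odd_q.add_one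
    show c₀ ^ ((q + 1 : ℕ) : ℤ) = b'
    rw [zpow_natCast, hc₀, hab.mul_pow, show (a : G) ^ (q + 1) = 1 by
        rw [hm, ← two_mul, pow_mul, pow_two, h.mul_self_of_mem S a.2, one_pow],
      one_mul, pow_succ, show b' ^ q = 1 by rw [← hbq, pow_orderOf_eq_one], one_mul]
  -- elements of `S` commuting with `b'`
  have hSfix : ∀ s ∈ (S : Subgroup G), Commute s b' → s = 1 ∨ s = a := by
    intro s hs hc
    rcases hd.fix_only ⟨s, hs⟩ (Subtype.ext (by
      rw [← hb', coe_rAct, act_apply]; exact mul_inv_eq_iff_eq_mul.2 hc.eq.symm)) with e | e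
    · exact Or.inl (congrArg Subtype.val e)
    · exact Or.inr (congrArg Subtype.val e)
  have hRne : ∃ ρ ∈ R, ρ ≠ 1 := R.bot_or_exists_ne_one.resolve_left fun e => by
    have := hd.card_R
    rw [e, card_bot] at this
    exact hd.prime.one_lt.ne this
  -- `N ∩ M` is generated by `a b'`
  have hNM : ∀ m ∈ M, m ∈ N → m ∈ zpowers c₀ := by
    intro m hm hmN
    have hact : rAct S ⟨m, hm⟩ ∈ zpowers b := by
      obtain ⟨z, hz, i, hzi⟩ := hd.exists_mul (rAct S ⟨m, hm⟩)
      obtain ⟨j, hj⟩ := (mem_normalizer_iff.1 hmN b').1 (mem_zpowers b')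
      have hj' : rAct S ⟨m, hm⟩ * b * (rAct S ⟨m, hm⟩)⁻¹ = b ^ j := by
        rw [← hb', ← map_mul, ← map_inv, ← map_mul, ← map_zpow]
        exact congrArg (rAct S) (Subtype.ext hj.symm)
      rw [hzi] at hj'
      have hzb : z * b * z⁻¹ = b ^ j := by
        rw [← hj']
        group
      -- the commutator of `z` and `b` lies in `R` and in `⟨b⟩`
      have hc : z * b * z⁻¹ * b⁻¹ ∈ R := by
        rw [show z * b * z⁻¹ * b⁻¹ = z * (b * z⁻¹ * b⁻¹) by group]
        exact mul_mem hz (hd.normal.conj_mem _ (inv_mem hz) b)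
      have hfix : ((z * b * z⁻¹ * b⁻¹ : (act S).range) : MulAut (S : Subgroup G)) a = a := by
        rw [hzb, ← zpow_sub_one]
        exact hd.pow_fix _
      have hcomm := hd.eq_one_of_fix hc hfix
      have hz1 := hd.fpf 1 Nat.one_pos h.prime.one_lt z hz (by
        rw [pow_one]
        exact (mul_inv_eq_iff_eq_mul.1 (mul_inv_eq_one.1 hcomm)).symm)
      rw [hzi, hz1, one_mul]
      exact zpow_mem (mem_zpowers b) i
    obtain ⟨i, hi⟩ := hact
    dsimp only at hi
    have hs : m * (b' ^ i)⁻¹ ∈ (S : Subgroup G) := h.frob_ker S hl hd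
      (g := ⟨m, hm⟩ * ((⟨b', hbM⟩ : M) ^ i)⁻¹) (by rw [map_mul, map_inv, map_zpow, hb', hi, mul_inv_cancel])
    have hsN : m * (b' ^ i)⁻¹ ∈ N := mul_mem hmN (inv_mem (hcN _ ((Commute.refl b').zpow_left i)))
    have hsc : Commute (m * (b' ^ i)⁻¹) b' := by
      set s := m * (b' ^ i)⁻¹ with hs'
      have h1 : s * b' * s⁻¹ * b'⁻¹ ∈ B :=
        B.mul_mem ((mem_normalizer_iff.1 hsN b').1 (mem_zpowers b')) (B.inv_mem (mem_zpowers b'))
      have h2 : s * b' * s⁻¹ * b'⁻¹ ∈ (S : Subgroup G) := by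
        rw [show s * b' * s⁻¹ * b'⁻¹ = s * (b' * s⁻¹ * b'⁻¹) by group]
        exact mul_mem hs ((mem_normalizer_iff.1 hbM _).1 (inv_mem hs))
      have h3 := h.eq_one_of_odd S h2 (h.odd_q.of_dvd_nat
        ((orderOf_dvd_of_mem h1).trans (dvd_of_eq ((Nat.card_zpowers b').trans hbq))))
      exact mul_inv_eq_iff_eq_mul.1 (mul_inv_eq_one.1 h3)
    rw [show m = m * (b' ^ i)⁻¹ * b' ^ i by group]
    refine mul_mem ?_ (zpow_mem hbz i)
    rcases hSfix _ hs hsc with e | e
    · rw [e]; exact one_mem _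
    · rw [e]; exact haz
  have hcard0 : Nat.card (zpowers c₀) = 2 * q := by rw [Nat.card_zpowers, hc₀o]
  have hinf : N ⊓ M = zpowers c₀ :=
    le_antisymm (fun x hx => hNM x hx.2 hx.1) (zpowers_le.2 ⟨hcN _ hc₀C, hc₀M⟩)
  have huniq : ∀ x ∈ zpowers c₀, orderOf x = 2 → x = a := by
    intro x hx hxo
    have hxS : x ∈ (S : Subgroup G) := h.mem_of_invol S hl (zpowers_le.2 hc₀M hx) hxo
    obtain ⟨i, rfl⟩ := hx
    exact (hSfix _ hxS (hc₀C.zpow_left i)).resolve_left fun e => by
      rw [e, orderOf_one] at hxo; omega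
  have hnorm_a : ∀ g : G, g ∈ normalizer ((zpowers c₀ : Subgroup G) : Set G) → g ∈ M := by
    intro g hg
    have h1 := huniq _ ((mem_normalizer_iff.1 hg _).1 haz) (by rw [CfsgLib.Signalizer.orderOf_conj, ha2])
    exact hl a a.2 ha1 (mem_centralizer_singleton_iff.2 (mul_inv_eq_iff_eq_mul.1 h1))
  -- two subgroups of order `r` of `M` normalised by `b'`
  have htwo : ∀ z z' : G, orderOf z = r → orderOf z' = r → z ∈ M → z' ∈ M → b' * z * b'⁻¹ ∈ zpowers z →
      b' * z' * b'⁻¹ ∈ zpowers z' → ∃ s : G, (s = 1 ∨ s = a) ∧ s * z * s⁻¹ ∈ zpowers z' := by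
    intro z z' hz hz' hzM hz'M hzb hz'b
    obtain ⟨-, -, hgen⟩ := h.act_of_order S hl hd hz hzM
    obtain ⟨hz'R, -, -⟩ := h.act_of_order S hl hd hz' hz'M
    rw [← hgen] at hz'R
    obtain ⟨i, hi⟩ := hz'R
    dsimp only at hi
    have hs0 : z' * (z ^ i)⁻¹ ∈ (S : Subgroup G) := h.frob_ker S hl hd
      (g := ⟨z', hz'M⟩ * ((⟨z, hzM⟩ : M) ^ i)⁻¹) (by rw [map_mul, map_inv, map_zpow, hi, mul_inv_cancel])
    have hle : zpowers z' ≤ zpowers z ⊔ (S : Subgroup G) := zpowers_le.2 (by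
      rw [show z' = z' * (z ^ i)⁻¹ * z ^ i by group]
      exact mul_mem (mem_sup_right hs0) (mem_sup_left (zpow_mem (mem_zpowers z) i)))
    have hrodd : ¬ 2 ∣ r := fun hd2 => by
      have := (Nat.prime_dvd_prime_iff_eq Nat.prime_two hd.prime).1 hd2
      have := hd.card_S
      have := h.four_le S
      omega
    obtain ⟨s, hs, hsz⟩ := CfsgLib.Core.exists_conj_eq_of_coprime (N := (S : Subgroup G))
      (zpowers_le.2 hzM : zpowers z ≤ normalizer ((S : Subgroup G) : Set G)) hle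
      (by rw [Nat.card_zpowers, Nat.card_zpowers, hz, hz'])
      (by
        rw [Nat.card_zpowers, hz]
        exact (CfsgLib.Signalizer.coprime_card_of_pGroup (A := (S : Subgroup G)) (K := zpowers z) S.2
          (by rw [Nat.card_zpowers, hz]; exact hrodd) |>.symm |> fun e => by rwa [Nat.card_zpowers, hz] at e))
      (Or.inl (Group.isSolvable_of_comm fun x y => (h.elem S).1.is_comm.comm x y))
    have hsz' : ∀ x ∈ zpowers z, s * x * s⁻¹ ∈ zpowers z' := fun x hx => by
      rw [← hsz, CfsgLib.Core.conj_smul_eq_map]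
      exact ⟨x, hx, by simp⟩
    have hsz'' : ∀ y ∈ zpowers z', s⁻¹ * y * s ∈ zpowers z := fun y hy => by
      rw [← hsz, CfsgLib.Core.conj_smul_eq_map] at hy
      obtain ⟨x, hx, rfl⟩ := hy
      simpa [mul_assoc] using hx
    refine ⟨s, ?_, hsz' z (mem_zpowers z)⟩
    refine hSfix s hs ?_
    -- `t = s⁻¹ b' s b'⁻¹` normalises `⟨z⟩`
    set t := s⁻¹ * (b' * s * b'⁻¹) with ht
    have htS : t ∈ (S : Subgroup G) := mul_mem (inv_mem hs) ((mem_normalizer_iff.1 hbM s).1 hs)
    set w := b'⁻¹ * z * b' with hw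
    have hconj : ∀ (g y : G), g * y * g⁻¹ ∈ zpowers y → ∀ x ∈ zpowers y, g * x * g⁻¹ ∈ zpowers y := by
      intro g y hy x hx
      obtain ⟨j, rfl⟩ := hx
      show g * y ^ j * g⁻¹ ∈ _
      rw [← conj_zpow]
      exact zpow_mem hy j
    have hwz : w ∈ zpowers z := by
      have hpow : ∀ n : ℕ, b' ^ n * z * (b' ^ n)⁻¹ ∈ zpowers z := fun n => by
        induction n with
        | zero => simp
        | succ n ih =>
          convert hconj b' z hzb _ ih using 1
          rw [pow_succ']; group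
      have h8 := hpow (q - 1)
      have e : b' ^ (q - 1) = b'⁻¹ := eq_inv_of_mul_eq_one_left (by
        rw [← pow_succ, Nat.sub_add_cancel h.prime.one_lt.le, ← hbq, pow_orderOf_eq_one])
      rwa [e, inv_inv] at h8
    have htz : t * z * t⁻¹ ∈ zpowers z := by
      rw [show t * z * t⁻¹ = s⁻¹ * (b' * (s * w * s⁻¹) * b'⁻¹) * s by rw [ht, hw]; group]
      exact hsz'' _ (hconj b' z' hz'b _ (hsz' w hwz))
    have h1 : t * z * t⁻¹ * z⁻¹ ∈ (S : Subgroup G) := by
      rw [show t * z * t⁻¹ * z⁻¹ = t * (z * t⁻¹ * z⁻¹) by group]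
      exact mul_mem htS ((mem_normalizer_iff.1 hzM _).1 (inv_mem htS))
    have h2 := h.eq_one_of_odd S h1 ((Nat.odd_iff.2 (Nat.two_dvd_ne_zero.1 hrodd)).of_dvd_nat
      ((orderOf_dvd_of_mem (mul_mem htz (inv_mem (mem_zpowers z)))).trans
        (dvd_of_eq ((Nat.card_zpowers z).trans hz))))
    have h3 : t * z = z * t := mul_inv_eq_iff_eq_mul.1 (mul_inv_eq_one.1 h2)
    have ht1 : t = 1 := by
      by_contra hne
      obtain ⟨hzR, hz1, -⟩ := h.act_of_order S hl hd hz hzM
      have hne' : (⟨t, htS⟩ : (S : Subgroup G)) ≠ 1 := fun e => hne (congrArg Subtype.val e)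
      obtain ⟨k, -, hu⟩ := hd.regular _ _ hne' hne'
      refine hz1 ((hu _ ⟨hzR, Subtype.ext ?_⟩).trans (hu 1 ⟨one_mem R, rfl⟩).symm)
      rw [coe_rAct, act_apply]
      exact mul_inv_eq_iff_eq_mul.2 h3.symm
    rw [ht, inv_mul_eq_one] at ht1
    exact (eq_mul_inv_iff_mul_eq.1 ht1)
  -- the element of order `r` in an intersection
  have hzg : ∀ g ∈ N, g ∉ M → ∃ z : G, orderOf z = r ∧ z ∈ M ∧ g⁻¹ * z * g ∈ M ∧ b' * z * b'⁻¹ ∈ zpowers z ∧
      b' * (g⁻¹ * z * g) * b'⁻¹ ∈ zpowers (g⁻¹ * z * g) := by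
    intro g hgN hgM
    obtain ⟨z, hz, hzM, hgz⟩ := h.frob_swap S hl hd hgM
    refine ⟨z, hz, hzM, hgz, ?_⟩
    obtain ⟨hzR, -, hgen⟩ := h.act_of_order S hl hd hz hzM
    have hBM : B ≤ M := zpowers_le.2 hbM
    have key : ∀ x ∈ B, x * z * x⁻¹ ∈ zpowers z := by
      intro x hx
      have hgxg : g⁻¹ * x * g ∈ M := hBM ((mem_normalizer_iff''.1 hgN x).1 hx)
      have hxM := hBM hx
      have h2 : rAct S (⟨x, hxM⟩ * ⟨z, hzM⟩ * ⟨x, hxM⟩⁻¹) ∈ R := by
        rw [map_mul, map_mul, map_inv]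
        exact hd.normal.conj_mem _ hzR _
      rw [← hgen] at h2
      obtain ⟨i, hi⟩ := h2
      dsimp only at hi
      have h4 := h.inter_trivial S hl hd hgM (x := x * z * x⁻¹ * (z ^ i)⁻¹)
        (mul_mem (mul_mem (mul_mem hxM hzM) (inv_mem hxM)) (inv_mem (zpow_mem hzM i))) (by
        rw [show g⁻¹ * (x * z * x⁻¹ * (z ^ i)⁻¹) * g =
          (g⁻¹ * x * g) * (g⁻¹ * z * g) * (g⁻¹ * x * g)⁻¹ * (g⁻¹ * z ^ i * g⁻¹⁻¹)⁻¹ by group]
        refine mul_mem (mul_mem (mul_mem hgxg hgz) (inv_mem hgxg)) (inv_mem ?_)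
        rw [← conj_zpow, inv_inv]
        exact zpow_mem hgz i) (by
        rw [show (⟨x * z * x⁻¹ * (z ^ i)⁻¹, _⟩ : M) = ⟨x, hxM⟩ * ⟨z, hzM⟩ * ⟨x, hxM⟩⁻¹ * ((⟨z, hzM⟩ : M) ^ i)⁻¹
          from rfl, map_mul _ _ (((⟨z, hzM⟩ : M) ^ i)⁻¹), map_inv, map_zpow, hi, mul_inv_cancel])
      exact ⟨i, (mul_inv_eq_one.1 h4).symm⟩
    refine ⟨key b' (mem_zpowers b'), ?_⟩
    obtain ⟨j, hj⟩ := key (g * b' * g⁻¹) ((mem_normalizer_iff.1 hgN b').1 (mem_zpowers b'))
    refine ⟨j, ?_⟩
    show (g⁻¹ * z * g) ^ j = _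
    have e : (g⁻¹ * z * g⁻¹⁻¹) ^ j = g⁻¹ * z ^ j * g⁻¹⁻¹ := conj_zpow
    rw [inv_inv] at e
    rw [e, show z ^ j = _ from hj]
    group
  -- at most three cosets
  have hidx : M.relIndex N ≤ 3 := by
    by_cases hall : N ≤ M
    · rw [relIndex_eq_one.2 hall]; omega
    obtain ⟨g₀, hg₀N, hg₀M⟩ := SetLike.not_le_iff_exists.1 hall
    obtain ⟨z₀, hz₀, hz₀M, -, hz₀b, -⟩ := hzg g₀ hg₀N hg₀M
    set R₀ := zpowers z₀ with hR₀
    let P : G → Prop := fun g => g⁻¹ * z₀ * g ∈ M
    have hPR : ∀ g : G, ∀ {s y : G}, orderOf y = r → s * y * s⁻¹ ∈ zpowers z₀ → s * y * s⁻¹ ∈ M →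
        g⁻¹ * (s * y * s⁻¹) * g ∈ M → P g := by
      intro g s y hy hsy _ hgy
      have heq : zpowers (s * y * s⁻¹) = zpowers z₀ := eq_of_le_of_card_ge (zpowers_le.2 hsy)
        (by rw [Nat.card_zpowers, Nat.card_zpowers, CfsgLib.Signalizer.orderOf_conj, hy, hz₀])
      obtain ⟨i, hi⟩ := heq.ge (mem_zpowers z₀)
      show g⁻¹ * z₀ * g ∈ M
      rw [← show (s * y * s⁻¹) ^ i = z₀ from hi]
      have e : (g⁻¹ * (s * y * s⁻¹) * g⁻¹⁻¹) ^ i = g⁻¹ * (s * y * s⁻¹) ^ i * g⁻¹⁻¹ := conj_zpow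
      rw [inv_inv] at e
      rw [← e]
      exact zpow_mem hgy i
    have haN : (a : G) ∈ N := hcN _ hab
    have hai : (a : G)⁻¹ = a := h.inv_of_mem S a.2
    have hcls : ∀ g ∈ N, g ∉ M → P g ∨ P (a * g) := by
      intro g hgN hgM
      obtain ⟨z, hz, hzM, hgz, hzb, -⟩ := hzg g hgN hgM
      obtain ⟨s, hs, hsz⟩ := htwo z z₀ hz hz₀ hzM hz₀M hzb hz₀b
      have hsM : s ∈ M := by rcases hs with rfl | rfl; exacts [one_mem _, haM]
      rcases hs with rfl | rfl
      · exact Or.inl (hPR g hz hsz (mul_mem (mul_mem hsM hzM) (inv_mem hsM)) (by simpa using hgz))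
      · refine Or.inr (hPR _ hz hsz (mul_mem (mul_mem hsM hzM) (inv_mem hsM)) ?_)
        rw [show ((a : G) * g)⁻¹ * (a * z * (a : G)⁻¹) * (a * g) = g⁻¹ * z * g by group]
        exact hgz
    -- `N(R₀) ∩ N` is small
    set L := normalizer (R₀ : Set G) ⊓ N with hL
    have hbR₀ : b' ∈ normalizer (R₀ : Set G) := by
      rw [CfsgLib.Core.mem_normalizer_iff_conj_smul_eq, CfsgLib.Core.conj_smul_eq_map, hR₀, MonoidHom.map_zpowers]
      refine eq_of_le_of_card_ge (zpowers_le.2 (by simpa using hz₀b)) ?_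
      rw [Nat.card_zpowers, Nat.card_zpowers]
      exact (le_of_eq (CfsgLib.Signalizer.orderOf_conj b' z₀).symm)
    have hbL : b' ∈ L := ⟨hbR₀, hcN _ (Commute.refl b')⟩
    have hL2 : ∀ x ∈ L, x ∉ M → ∀ y ∈ L, y ∉ M → x⁻¹ * y ∈ M := by
      let κ : L →* MulAut R₀ := (normalizerMonoidHom R₀).comp (Subgroup.inclusion inf_le_left)
      haveI : IsCyclic R₀ := isCyclic_zpowers z₀
      haveI : IsCyclic (MulAut R₀) := by
        haveI : IsCyclic (ZMod (Nat.card R₀))ˣ := by rw [Nat.card_zpowers, hz₀]; infer_instance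
        exact isCyclic_of_surjective (IsCyclic.mulAutMulEquiv R₀).symm.toMonoidHom (MulEquiv.surjective _)
      have hκ : Function.Injective κ := by
        refine (injective_iff_map_eq_one κ).2 fun x hx => ?_
        have hxz : Commute (x : G) z₀ := by
          have h1 := congrArg Subtype.val (DFunLike.congr_fun hx ⟨z₀, mem_zpowers z₀⟩)
          change (x : G) * z₀ * (x : G)⁻¹ = z₀ at h1
          exact mul_inv_eq_iff_eq_mul.1 h1
        by_contra hx1
        have hxG : (x : G) ≠ 1 := fun e => hx1 (Subtype.ext e)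
        obtain ⟨l, hlp, hld⟩ := Nat.exists_prime_and_dvd (fun e => hxG (orderOf_eq_one_iff.1 e))
        set y := (x : G) ^ (orderOf (x : G) / l) with hy
        have hyo : orderOf y = l := orderOf_pow_orderOf_div (orderOf_pos _).ne' hld
        have hyz : Commute y z₀ := hxz.pow_left _
        have hlr : l = r := by
          by_contra hne
          have h2 := h.orders_of_commute hlp hd.prime hyo hz₀ hyz hne
          have hr : r ∣ 2 * q := ⟨l, by rw [← h2, mul_comm]⟩
          rcases (Nat.Prime.dvd_mul hd.prime).1 hr with e | e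
          · have := (Nat.prime_dvd_prime_iff_eq hd.prime Nat.prime_two).1 e
            have := hd.card_S
            have := h.four_le S
            omega
          · exact hd.ne ((Nat.prime_dvd_prime_iff_eq hd.prime h.prime).1 e).symm
        have hyN : y ∈ N := pow_mem x.2.2 _
        -- `[y, b']` centralises `z₀` and lies in `B`
        obtain ⟨i, hi⟩ := (mem_normalizer_iff.1 hbR₀ z₀).1 (mem_zpowers z₀)
        have hcz : Commute (y * b' * y⁻¹ * b'⁻¹) z₀ := by
          have e1 : b' * z₀ * b'⁻¹ = z₀ ^ i := hi.symm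
          refine mul_inv_eq_iff_eq_mul.1 ?_
          have e2 : b'⁻¹ * z₀ * b' ∈ zpowers z₀ := (mem_normalizer_iff''.1 hbR₀ z₀).1 (mem_zpowers z₀)
          obtain ⟨j, hj⟩ := e2
          have hj' : z₀ ^ j = b'⁻¹ * z₀ * b' := hj
          have hyj : y⁻¹ * z₀ ^ j * y = z₀ ^ j := by
            rw [mul_assoc, ← (hyz.zpow_right j).eq, inv_mul_cancel_left]
          calc y * b' * y⁻¹ * b'⁻¹ * z₀ * (y * b' * y⁻¹ * b'⁻¹)⁻¹
              = y * b' * (y⁻¹ * (b'⁻¹ * z₀ * b') * y) * b'⁻¹ * y⁻¹ := by group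
            _ = y * b' * (b'⁻¹ * z₀ * b') * b'⁻¹ * y⁻¹ := by rw [← hj', hyj]
            _ = y * z₀ * y⁻¹ := by group
            _ = z₀ := by rw [hyz.eq, mul_inv_cancel_right]
        have hcB : y * b' * y⁻¹ * b'⁻¹ ∈ B :=
          B.mul_mem ((mem_normalizer_iff.1 hyN b').1 (mem_zpowers b')) (B.inv_mem (mem_zpowers b'))
        have hcomm : Commute y b' := by
          by_contra hne
          have hne1 : y * b' * y⁻¹ * b'⁻¹ ≠ 1 := fun e => hne (mul_inv_eq_iff_eq_mul.1 (mul_inv_eq_one.1 e))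
          have hoq : orderOf (y * b' * y⁻¹ * b'⁻¹) = q :=
            ((Nat.dvd_prime h.prime).1 (hbq ▸ orderOf_dvd_of_mem_zpowers hcB)).resolve_left
              fun e => hne1 (orderOf_eq_one_iff.1 e)
          rcases h.eq_q_of_commute_q hoq hd.prime hz₀ hcz with e | e
          · have := hd.card_S
            have := h.four_le S
            omega
          · exact hd.ne e.symm
        rcases h.eq_q_of_commute_q hbq hd.prime (hlr ▸ hyo) hcomm.symm with e | e
        · have := hd.card_S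
          have := h.four_le S
          omega
        · exact hd.ne e.symm
      haveI : IsCyclic L := isCyclic_of_injective κ hκ
      obtain ⟨g, hg⟩ := IsCyclic.exists_generator (α := L)
      have hcardL : Nat.card L = orderOf (g : G) := by
        rw [orderOf_coe]; exact (orderOf_eq_card_of_forall_mem_zpowers hg).symm
      have hqL : q ∣ Nat.card L := hbq ▸ orderOf_dvd_of_mem hbL
      have hg1 : (g : G) ≠ 1 := fun e => by
        rw [hcardL, e, orderOf_one] at hqL
        exact h.prime.not_dvd_one hqL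
      have hLle : Nat.card L ≤ 2 * q := by
        rcases h.ord _ hg1 with e | e
        · rw [hcardL] at hqL ⊢
          rw [← (Nat.prime_dvd_prime_iff_eq h.prime e).1 hqL]
          omega
        · rw [hcardL, e]
      intro x hx hxM y hy hyM
      have hidx : (M.subgroupOf L).index = 2 := by
        have h1 := card_mul_index (M.subgroupOf L)
        have h2 : q ≤ Nat.card (M.subgroupOf L) := by
          have h3 : orderOf (⟨⟨b', hbL⟩, mem_subgroupOf.2 hbM⟩ : M.subgroupOf L) = q := by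
            rw [← orderOf_coe, ← orderOf_coe]; exact hbq
          exact h3 ▸ Nat.le_of_dvd Nat.card_pos (orderOf_dvd_natCard _)
        have h5 : (M.subgroupOf L).index ≠ 1 := fun e => hxM
          ((subgroupOf_eq_top.1 (index_eq_one.1 e)) hx)
        have h6 : (M.subgroupOf L).index ≠ 0 := index_ne_zero_of_finite
        by_contra hne
        have h3 : 3 ≤ (M.subgroupOf L).index := by omega
        have h4 := Nat.mul_le_mul h2 h3
        have := h.q_pos
        omega
      exact mem_subgroupOf.1 ((Subgroup.mul_mem_iff_of_index_two hidx (a := (⟨x, hx⟩ : L)⁻¹) (b := ⟨y, hy⟩)).2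
        (iff_of_false (fun e => hxM (mem_subgroupOf.1 (inv_mem_iff.1 e))) fun e => hyM (mem_subgroupOf.1 e)))
    have hPL : ∀ g ∈ N, g ∉ M → P g → ∃ x ∈ L, x ∉ M ∧ g⁻¹ * x ∈ M := by
      intro g hgN hgM hPg
      obtain ⟨z, hz, hzM, hgz, -, hgzb⟩ := hzg g hgN hgM
      -- `z₀` generates the same subgroup as `z`
      have hzz : zpowers z = R₀ := by
        obtain ⟨-, -, hgen⟩ := h.act_of_order S hl hd hz hzM
        obtain ⟨hR, -, -⟩ := h.act_of_order S hl hd hz₀ hz₀M
        rw [← hgen] at hR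
        obtain ⟨i, hi⟩ := hR
        dsimp only at hi
        have h4 := h.inter_trivial S hl hd hgM (x := z₀ * (z ^ i)⁻¹) (mul_mem hz₀M (inv_mem (zpow_mem hzM i))) (by
          rw [show g⁻¹ * (z₀ * (z ^ i)⁻¹) * g = (g⁻¹ * z₀ * g) * (g⁻¹ * z ^ i * g⁻¹⁻¹)⁻¹ by group]
          refine mul_mem hPg (inv_mem ?_)
          rw [← conj_zpow, inv_inv]
          exact zpow_mem hgz i) (by
          rw [show (⟨z₀ * (z ^ i)⁻¹, _⟩ : M) = ⟨z₀, hz₀M⟩ * ((⟨z, hzM⟩ : M) ^ i)⁻¹ from rfl, map_mul, map_inv,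
            map_zpow, hi, mul_inv_cancel])
        have hle : zpowers z₀ ≤ zpowers z := zpowers_le.2 (mem_zpowers_iff.2 ⟨i, (mul_inv_eq_one.1 h4).symm⟩)
        exact (eq_of_le_of_card_ge hle (by rw [Nat.card_zpowers, Nat.card_zpowers, hz, hz₀])).symm
      set w := g⁻¹ * z * g with hw
      have hwo : orderOf w = r := by
        have := CfsgLib.Signalizer.orderOf_conj g⁻¹ z
        rw [inv_inv] at this
        rw [hw, this, hz]
      obtain ⟨s, hs, hsw⟩ := htwo w z₀ hwo hz₀ hgz hz₀M hgzb hz₀b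
      have hsM : s ∈ M := by rcases hs with rfl | rfl; exacts [one_mem _, haM]
      have hsN : s ∈ N := by rcases hs with rfl | rfl; exacts [one_mem _, haN]
      have hgN' : g * s⁻¹ ∈ N := mul_mem hgN (inv_mem hsN)
      refine ⟨g * s⁻¹, ⟨?_, hgN'⟩, fun e => hgM (by simpa using mul_mem e hsM), by simpa using inv_mem hsM⟩
      have hmem : (g * s⁻¹)⁻¹ ∈ normalizer (R₀ : Set G) := by
        rw [CfsgLib.Core.mem_normalizer_iff_conj_smul_eq, CfsgLib.Core.conj_smul_eq_map]
        conv_lhs => rw [← hzz, MonoidHom.map_zpowers]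
        refine eq_of_le_of_card_ge (zpowers_le.2 ?_) ?_
        · rw [MulEquiv.coe_toMonoidHom, MulAut.conj_apply, inv_inv, mul_inv_rev, inv_inv,
            show s * g⁻¹ * z * (g * s⁻¹) = s * w * s⁻¹ by rw [hw]; group]
          exact hsw
        · rw [Nat.card_zpowers, Nat.card_zpowers, MulEquiv.coe_toMonoidHom, MulAut.conj_apply,
            CfsgLib.Signalizer.orderOf_conj, hz, hz₀]
      simpa using inv_mem hmem
    have hone : ∀ g ∈ N, g ∉ M → P g → ∀ g' ∈ N, g' ∉ M → P g' → g⁻¹ * g' ∈ M := by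
      intro g hg hgM hP g' hg' hgM' hP'
      obtain ⟨x, hx, hxM, hgx⟩ := hPL g hg hgM hP
      obtain ⟨y, hy, hyM, hgy⟩ := hPL g' hg' hgM' hP'
      rw [show g⁻¹ * g' = (g⁻¹ * x) * (x⁻¹ * y) * (g'⁻¹ * y)⁻¹ by group]
      exact mul_mem (mul_mem hgx (hL2 x hx hxM y hy hyM)) (inv_mem hgy)
    obtain ⟨g₁, hg₁N, hg₁M, hg₁P⟩ : ∃ g ∈ N, g ∉ M ∧ P g := by
      rcases hcls g₀ hg₀N hg₀M with e | e
      · exact ⟨g₀, hg₀N, hg₀M, e⟩
      · exact ⟨a * g₀, mul_mem haN hg₀N, fun e' => hg₀M (by simpa using mul_mem (inv_mem haM) e'), e⟩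
    let f : Fin 3 → N ⧸ M.subgroupOf N :=
      ![QuotientGroup.mk 1, QuotientGroup.mk ⟨g₁, hg₁N⟩, QuotientGroup.mk ⟨(a : G)⁻¹ * g₁, mul_mem (inv_mem haN) hg₁N⟩]
    have hf : Function.Surjective f := by
      intro c
      obtain ⟨⟨g, hgN⟩, rfl⟩ := QuotientGroup.mk_surjective c
      by_cases hgM : g ∈ M
      · exact ⟨0, QuotientGroup.eq.2 (mem_subgroupOf.2 (by simpa using hgM))⟩
      rcases hcls g hgN hgM with e | e
      · exact ⟨1, QuotientGroup.eq.2 (mem_subgroupOf.2 (hone g₁ hg₁N hg₁M hg₁P g hgN hgM e))⟩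
      · refine ⟨2, QuotientGroup.eq.2 (mem_subgroupOf.2 ?_)⟩
        have := hone g₁ hg₁N hg₁M hg₁P (a * g) (mul_mem haN hgN)
          (fun e' => hgM (by simpa using mul_mem (inv_mem haM) e')) e
        show ((a : G)⁻¹ * g₁)⁻¹ * g ∈ M
        rw [show ((a : G)⁻¹ * g₁)⁻¹ * g = g₁⁻¹ * (a * g) by group]
        exact this
    have := Nat.card_le_card_of_surjective f hf
    rw [Nat.card_fin] at this
    exact this
  have hcardN : Nat.card N = 2 * q * M.relIndex N := by
    rw [← hcard0, ← hinf, ← card_mul_index (M.subgroupOf N), ← Nat.card_congr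
      (Subgroup.subgroupOfEquivOfLe (inf_le_left : N ⊓ M ≤ N)).toEquiv]
    congr 2
    rw [inf_subgroupOf_left]
  have hn0 : M.relIndex N ≠ 0 := index_ne_zero_of_finite
  -- index one: transfer
  have hN1 : ¬ N ≤ M := by
    intro hle
    have hNC : N ≤ centralizer ({b'} : Set G) := fun g hg => by
      obtain ⟨i, rfl⟩ := hNM g (hle hg) hg
      exact mem_centralizer_singleton_iff.2 (hc₀C.zpow_left i).eq
    obtain ⟨P, hP⟩ := IsPGroup.exists_le_sylow (G := G) (show IsPGroup q B from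
      IsPGroup.of_card (n := 1) (by rw [Nat.card_zpowers, hbq, pow_one]))
    have hPB : (P : Subgroup G) = B := by
      by_contra hne
      haveI := P.2.isNilpotent
      have hlt : B.subgroupOf (P : Subgroup G) < ⊤ := lt_top_iff_ne_top.2 fun e =>
        hne (le_antisymm (subgroupOf_eq_top.1 e) hP)
      obtain ⟨x, hx, hxB⟩ := SetLike.exists_of_lt (Group.normalizerCondition_of_isNilpotent _ hlt)
      have hxN : (x : G) ∈ N := by
        refine mem_normalizer_iff.2 fun y => ⟨fun hy => (mem_normalizer_iff.1 hx ⟨y, hP hy⟩).1 hy, fun hy => ?_⟩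
        have hyP : y ∈ (P : Subgroup G) := by
          have := (P : Subgroup G).mul_mem ((P : Subgroup G).mul_mem ((P : Subgroup G).inv_mem x.2) (hP hy)) x.2
          simpa [mul_assoc] using this
        exact (mem_normalizer_iff.1 hx ⟨y, hyP⟩).2 hy
      obtain ⟨i, hi⟩ := hNM _ (hle hxN) hxN
      dsimp only at hi
      have hx1 : (x : G) ≠ 1 := fun e => hxB (mem_subgroupOf.2 (e ▸ one_mem B))
      obtain ⟨n, hn⟩ := (IsPGroup.iff_orderOf.1 P.2) x
      rw [← orderOf_coe] at hn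
      have hdiv : orderOf (x : G) ∣ 2 * q := by
        rw [← hc₀o, ← hi]
        exact orderOf_dvd_of_mem_zpowers (zpow_mem (mem_zpowers c₀) i)
      have hp := h.odd_prime (hn ▸ h.odd_q.pow) hx1
      rw [hn] at hp
      rw [Nat.Prime.eq_one_of_pow hp, pow_one] at hn
      refine hxB (mem_subgroupOf.2 ?_)
      haveI : IsCyclic (zpowers c₀) := isCyclic_zpowers c₀
      have hxc : (x : G) ∈ zpowers c₀ := ⟨i, hi⟩
      have hle' : zpowers b' ≤ zpowers c₀ := zpowers_le.2 hbz
      have hle'' : zpowers (x : G) ≤ zpowers c₀ := zpowers_le.2 hxc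
      have hi2 : (2 : ℤ) ∣ i := by
        have h1 : c₀ ^ (i * q) = 1 := by rw [zpow_mul, hi, zpow_natCast]; exact orderOf_dvd_iff_pow_eq_one.1 hn.dvd
        rw [← orderOf_dvd_iff_zpow_eq_one, hc₀o] at h1
        push_cast at h1
        exact Int.dvd_of_mul_dvd_mul_right (by exact_mod_cast h.prime.ne_zero) h1
      obtain ⟨j, rfl⟩ := hi2
      have haa : (a : G) * a = 1 := h.mul_self_of_mem S a.2
      have hcc : c₀ * c₀ = b' * b' := by
        rw [hc₀, mul_assoc, ← mul_assoc b', ← hab.eq, ← mul_assoc, ← mul_assoc, haa, one_mul]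
      rw [← hi, zpow_mul, zpow_two, hcc]
      exact zpow_mem (mul_mem (mem_zpowers b') (mem_zpowers b')) j
    have hPC : normalizer ((P : Subgroup G) : Set G) ≤ centralizer ((P : Subgroup G) : Set G) := by
      rw [hPB]
      refine hNC.trans fun g hg => mem_centralizer_iff.2 ?_
      rintro _ ⟨i, rfl⟩
      exact (((show Commute g b' from mem_centralizer_singleton_iff.1 hg).zpow_right i).eq).symm
    have hcomp := MonoidHom.ker_transferSylow_isComplement' P hPC
    rcases h.simple.eq_bot_or_eq_top_of_normal _ (MonoidHom.normal_ker (MonoidHom.transferSylow P hPC)) with e | e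
    · rw [e, isComplement'_bot_left] at hcomp
      have h2 := h.two_dvd_card
      rw [← card_top (G := G), ← hcomp, hPB, Nat.card_zpowers, hbq] at h2
      exact h.two_ne ((Nat.prime_dvd_prime_iff_eq Nat.prime_two h.prime).1 h2).symm
    · rw [e, isComplement'_top_left, hPB] at hcomp
      have := mem_zpowers b'
      rw [← hB, hcomp, mem_bot] at this
      rw [this, orderOf_one] at hbq
      exact h.prime.one_lt.ne hbq
  have hn1 : M.relIndex N ≠ 1 := fun e => hN1 (relIndex_eq_one.1 e)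
  have hn2 : M.relIndex N ≠ 2 := by
    intro e
    refine hN1 fun g hg => hnorm_a g ?_
    haveI : (M.subgroupOf N).Normal := normal_of_index_eq_two e
    have key : ∀ g ∈ N, ∀ x ∈ zpowers c₀, g * x * g⁻¹ ∈ zpowers c₀ := by
      intro g hg x hx
      rw [← hinf] at hx ⊢
      exact ⟨N.mul_mem (N.mul_mem hg hx.1) (N.inv_mem hg),
        (inferInstance : (M.subgroupOf N).Normal).conj_mem ⟨x, hx.1⟩ hx.2 ⟨g, hg⟩⟩
    refine mem_normalizer_iff.2 fun x => ⟨key g hg x, fun hx => ?_⟩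
    have := key g⁻¹ (inv_mem hg) _ hx
    simpa [mul_assoc] using this
  have hn3 : M.relIndex N = 3 := by omega
  have hq3 : q = 3 := by
    by_contra hq
    refine hN1 fun g hg => hnorm_a g ?_
    set C := centralizer (B : Set G) with hC
    have hcC : zpowers c₀ ≤ C := zpowers_le.2 (mem_centralizer_iff.2 (by
      rintro _ ⟨i, rfl⟩
      exact ((hc₀C.zpow_right i).eq).symm))
    have hCN : C ≤ N := centralizer_le_normalizer _
    have hdiv : Nat.card C ∣ 2 * q * 3 := by
      have h7 := card_dvd_of_le hCN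
      rwa [hcardN, hn3] at h7
    have h3 : ¬ 3 ∣ Nat.card C := by
      intro hd3
      haveI : Fact (Nat.Prime 3) := ⟨Nat.prime_three⟩
      obtain ⟨x, hx⟩ := exists_prime_orderOf_dvd_card' 3 hd3
      rw [← orderOf_coe] at hx
      rcases h.eq_q_of_commute_q hbq Nat.prime_three hx
        (show Commute b' (x : G) from mem_centralizer_iff.1 x.2 b' (mem_zpowers b')) with e | e
      · norm_num at e
      · exact hq e.symm
    have h2q : Nat.card C ∣ 2 * q := (Nat.Coprime.dvd_mul_right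
      ((Nat.prime_three.coprime_iff_not_dvd.2 h3).symm)).1 hdiv
    have hCeq : zpowers c₀ = C := eq_of_le_of_card_ge hcC (by
      rw [hcard0]; exact Nat.le_of_dvd (by have := h.q_pos; omega) h2q)
    rw [hCeq]
    exact CfsgLib.Signalizer.normalizer_le_normalizer_centralizer_set B hg
  subst hq3
  -- `S` has order eight
  obtain ⟨k, hk⟩ := S.2.exists_card_eq
  have hrk : r = 2 ^ k - 1 := by have := hd.card_S; omega
  have hk3 : k = 3 := by
    have hk1 : k ≠ 1 := fun e => by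
      have := h.four_le S
      rw [hk, e] at this
      omega
    have hkp : k.Prime := (Nat.prime_of_pow_sub_one_prime hk1 (hrk ▸ hd.prime)).2
    letI : CommGroup (S : Subgroup G) :=
      { (inferInstance : Group (S : Subgroup G)) with mul_comm := (h.elem S).1.is_comm.comm }
    have hbne : ((act S).range.subtype) b ≠ 1 := fun e => hb1 (Subtype.ext e)
    have hdvd : 3 ∣ k := dvd_log (act S).range.subtype (fun x => Subtype.ext (h.mul_self_of_mem S x.2)) R
      (fun x hx y hy => hd.R_comm hx hy) (fun x y hx hy => (hd.regular x y hx hy).exists)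
      (b := b) (fun z hz => hd.normal.conj_mem z hz b) hd.a_ne hd.fix_a Nat.prime_three
      (by rw [← hd.order_b, pow_orderOf_eq_one]) hbne hk
    exact ((Nat.prime_dvd_prime_iff_eq Nat.prime_three hkp).1 hdvd).symm
  have hS8 : Nat.card (S : Subgroup G) = 8 := by rw [hk, hk3]; norm_num
  -- `C(a) = ⟨a⟩ × T` with `T ≅ A₄`
  have hbS : ∀ s ∈ (S : Subgroup G), b' * s * b'⁻¹ ∈ (S : Subgroup G) := fun s hs =>
    (mem_normalizer_iff.1 hbM s).1 hs
  let ξ : (S : Subgroup G) →* (S : Subgroup G) :=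
    { toFun := fun s => s * ⟨b' * s * b'⁻¹, hbS s s.2⟩
      map_one' := Subtype.ext (by simp)
      map_mul' := fun x y => Subtype.ext (by
        have h1 : b' * (x : G) * b'⁻¹ * y = y * (b' * x * b'⁻¹) := h.comm_of_mem S (hbS x x.2) y.2
        calc (x : G) * y * (b' * (x * y) * b'⁻¹) = x * (y * (b' * x * b'⁻¹)) * (b' * y * b'⁻¹) := by group
          _ = x * (b' * x * b'⁻¹ * y) * (b' * y * b'⁻¹) := by rw [h1]
          _ = _ := by simp only [Subgroup.coe_mul, mul_assoc]) }
  set V := ξ.range.map (S : Subgroup G).subtype with hV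
  have hVS : V ≤ (S : Subgroup G) := map_subtype_le _
  have hker : Nat.card ξ.ker = 2 := by
    have hsub : ξ.ker = zpowers a := by
      refine le_antisymm (fun s hs => ?_) (zpowers_le.2 ?_)
      · have h1 : (s : G) * (b' * s * b'⁻¹) = 1 := congrArg Subtype.val hs
        have h2 : b' * (s : G) * b'⁻¹ = s := by
          rw [eq_inv_of_mul_eq_one_right h1, h.inv_of_mem S s.2]
        rcases hSfix s s.2 (mul_inv_eq_iff_eq_mul.1 h2).symm with e | e
        · rw [show s = 1 from Subtype.ext e]; exact one_mem _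
        · rw [show s = a from Subtype.ext e]; exact mem_zpowers a
      · refine Subtype.ext ?_
        show (a : G) * (b' * a * b'⁻¹) = 1
        rw [← hab.eq, mul_inv_cancel_right, h.mul_self_of_mem S a.2]
    rw [hsub, Nat.card_zpowers, ← orderOf_coe, ha2]
  have hVcard : Nat.card V = 4 := by
    rw [hV, card_map_of_injective (S : Subgroup G).subtype_injective]
    have h1 := card_eq_card_quotient_mul_card_subgroup ξ.ker
    rw [hker, hS8, Nat.card_congr (QuotientGroup.quotientKerEquivRange ξ).toEquiv] at h1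
    omega
  have hbV : ∀ v ∈ V, b' * v * b'⁻¹ ∈ V := by
    rintro _ ⟨_, ⟨s, rfl⟩, rfl⟩
    refine ⟨ξ ⟨b' * s * b'⁻¹, hbS s s.2⟩, ⟨_, rfl⟩, ?_⟩
    show b' * (s : G) * b'⁻¹ * (b' * (b' * s * b'⁻¹) * b'⁻¹) = b' * ((s : G) * (b' * s * b'⁻¹)) * b'⁻¹
    group
  have hb3 : b' ^ 3 = 1 := by rw [← hbq, pow_orderOf_eq_one]
  have haV : (a : G) ∉ V := by
    rintro ⟨_, ⟨s, rfl⟩, he⟩
    have he' : (s : G) * (b' * s * b'⁻¹) = a := he
    set s₁ := b' * (s : G) * b'⁻¹ with hs₁
    set s₂ := b' * s₁ * b'⁻¹ with hs₂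
    have hm1 : s₁ ∈ (S : Subgroup G) := hbS s s.2
    have hm2 : s₂ ∈ (S : Subgroup G) := hbS _ hm1
    have hfix : b' * (a : G) * b'⁻¹ = a := by rw [← hab.eq, mul_inv_cancel_right]
    have e1 : s₁ * s₂ = a := by
      calc s₁ * s₂ = b' * ((s : G) * (b' * s * b'⁻¹)) * b'⁻¹ := by rw [hs₂, hs₁]; group
        _ = a := by rw [he', hfix]
    have e2 : s₂ * s = a := by
      calc s₂ * (s : G) = s₂ * (b' ^ 3 * s * (b' ^ 3)⁻¹) := by rw [hb3, one_mul, inv_one, mul_one]
        _ = b' * (s₁ * s₂) * b'⁻¹ := by rw [hs₂, hs₁, pow_succ, pow_two]; group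
        _ = a := by rw [e1, hfix]
    refine ha1 ?_
    calc (a : G) = (a * a) * a := by rw [h.mul_self_of_mem S a.2, one_mul]
      _ = ((s : G) * s₁) * (s₁ * s₂) * (s₂ * s) := by rw [he', e1, e2]
      _ = (s : G) * (s₁ * s₁) * (s₂ * s₂) * s := by group
      _ = 1 := by rw [h.mul_self_of_mem S hm1, h.mul_self_of_mem S hm2, mul_one, mul_one, h.mul_self_of_mem S s.2]
  have hBV : B ≤ normalizer (V : Set G) := zpowers_le.2 (by
    rw [CfsgLib.Core.mem_normalizer_iff_conj_smul_eq, CfsgLib.Core.conj_smul_eq_map]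
    refine eq_of_le_of_card_ge ?_
      (card_map_of_injective (K := V) (f := (MulAut.conj b').toMonoidHom) (MulAut.conj b').injective).ge
    rintro _ ⟨v, hv, rfl⟩
    exact hbV v hv)
  set T := B ⊔ V with hT
  have hBcard : Nat.card B = 3 := by rw [Nat.card_zpowers, hbq]
  have hTcard : Nat.card T = 12 := by
    rw [hT, CfsgLib.Core.card_sup_of_coprime B V hBV (by rw [hBcard, hVcard]; norm_num), hBcard, hVcard]
  have hnat : Nat.card T = 12 := hTcard
  have hca : centralizer ({(a : G)} : Set G) = zpowers (a : G) ⊔ T := by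
    refine le_antisymm (fun g hg => ?_) (sup_le (zpowers_le.2 (mem_centralizer_singleton_iff.2 rfl))
      (sup_le (zpowers_le.2 (mem_centralizer_singleton_iff.2 hab.eq.symm))
        (hVS.trans (h.le_centralizer_of_mem S a.2))))
    have hgM := hl a a.2 ha1 hg
    obtain ⟨i, hi⟩ := hd.mem_zpowers_of_fix (g := rAct S ⟨g, hgM⟩) (Subtype.ext (by
      rw [coe_rAct, act_apply]
      exact mul_inv_eq_iff_eq_mul.2 (mem_centralizer_singleton_iff.1 hg)))
    dsimp only at hi
    have hs : g * (b' ^ i)⁻¹ ∈ (S : Subgroup G) := h.frob_ker S hl hd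
      (g := ⟨g, hgM⟩ * ((⟨b', hbM⟩ : M) ^ i)⁻¹) (by rw [map_mul, map_inv, map_zpow, hb', hi, mul_inv_cancel])
    have hle : zpowers (a : G) ⊔ V = (S : Subgroup G) := by
      refine eq_of_le_of_card_ge (sup_le (zpowers_le.2 a.2) hVS) ?_
      have hlt : V < zpowers (a : G) ⊔ V := lt_of_le_of_ne le_sup_right fun e =>
        haV (e.symm ▸ mem_sup_left (mem_zpowers _))
      obtain ⟨m, hm⟩ := card_dvd_of_le hlt.le
      rw [hVcard] at hm
      rcases (show m = 0 ∨ m = 1 ∨ 2 ≤ m by omega) with rfl | rfl | hm2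
      · exact absurd hm (by simp [Nat.card_pos.ne'])
      · exact absurd (eq_of_le_of_card_ge hlt.le (by rw [hVcard, hm])) hlt.ne
      · rw [hS8, hm]; omega
    rw [show g = g * (b' ^ i)⁻¹ * b' ^ i by group]
    refine mul_mem ?_ (mem_sup_right (mem_sup_left (zpow_mem (mem_zpowers b') i)))
    exact sup_le_sup_left (le_sup_right : V ≤ T) _ (hle.ge hs)
  have haT : (a : G) ∉ T := by
    intro e
    obtain ⟨x, ⟨i, rfl⟩, v, hv, e'⟩ := (CfsgLib.Core.mem_sup_iff_mul hBV).1 e
    dsimp only at e'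
    have h1 : b' ^ i ∈ (S : Subgroup G) := by
      rw [show b' ^ i = (a : G) * v⁻¹ by rw [e']; group]
      exact mul_mem a.2 (inv_mem (hVS hv))
    have h2 : b' ^ i = 1 := h.eq_one_of_odd S h1 (hbo.of_dvd_nat (orderOf_dvd_of_mem_zpowers ⟨i, rfl⟩))
    rw [h2, one_mul] at e'
    exact haV (e' ▸ hv)
  -- `T ≅ A₄`
  have hiso : Nonempty (T ≃* alternatingGroup (Fin 4)) := by
    set B₀ := B.subgroupOf T with hB₀
    have hB₀c : Nat.card B₀ = 3 := by
      rw [Nat.card_congr (subgroupOfEquivOfLe (le_sup_left : B ≤ T)).toEquiv, hBcard]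
    have hB₀i : Nat.card (T ⧸ B₀) = 4 := by
      have := card_eq_card_quotient_mul_card_subgroup B₀
      rw [hTcard, hB₀c] at this
      omega
    have hcore : B₀.normalCore = ⊥ := by
      rcases (Nat.dvd_prime Nat.prime_three).1 (hB₀c ▸ card_dvd_of_le (normalCore_le B₀)) with e | e
      · exact card_eq_one.1 e
      exfalso
      have heq : B₀.normalCore = B₀ := eq_of_le_of_card_ge (normalCore_le B₀) (by rw [hB₀c, e])
      obtain ⟨v, hv, hv1⟩ := V.bot_or_exists_ne_one.resolve_left fun e' => by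
        rw [e', card_bot] at hVcard; omega
      have hbT : b' ∈ T := mem_sup_left (mem_zpowers b')
      have hvT : v ∈ T := mem_sup_right hv
      have h1 : ((⟨v, hvT⟩ : T) * ⟨b', hbT⟩ * (⟨v, hvT⟩ : T)⁻¹) ∈ B₀.normalCore :=
        (normalCore_normal B₀).conj_mem _ (heq.ge (mem_subgroupOf.2 (mem_zpowers b'))) _
      have h2 : v * b' * v⁻¹ ∈ B := mem_subgroupOf.1 (normalCore_le _ h1)
      have h3 : v * b' * v⁻¹ * b'⁻¹ ∈ (S : Subgroup G) := by
        rw [show v * b' * v⁻¹ * b'⁻¹ = v * (b' * v⁻¹ * b'⁻¹) by group]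
        exact mul_mem (hVS hv) (hbS _ (inv_mem (hVS hv)))
      have h4 := h.eq_one_of_odd S h3 (hbo.of_dvd_nat
        ((orderOf_dvd_of_mem (mul_mem h2 (inv_mem (mem_zpowers b')))).trans (dvd_of_eq (Nat.card_zpowers b'))))
      rcases hSfix v (hVS hv) (mul_inv_eq_iff_eq_mul.1 (mul_inv_eq_one.1 h4)) with e' | e'
      · exact hv1 e'
      · exact haV (e' ▸ hv)
    haveI : Fintype (T ⧸ B₀) := Fintype.ofFinite _
    let ε : T ⧸ B₀ ≃ Fin 4 := Finite.equivFinOfCardEq hB₀i
    let f : T →* Equiv.Perm (Fin 4) :=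
      ε.permCongrHom.toMonoidHom.comp (MulAction.toPermHom T (T ⧸ B₀))
    have hf : Function.Injective f := by
      refine ε.permCongrHom.injective.comp ?_
      rw [← MonoidHom.ker_eq_bot_iff, ← normalCore_eq_ker, hcore]
    have hidx : f.range.index = 2 := by
      have h1 := f.range.card_mul_index
      rw [Nat.card_congr (MonoidHom.ofInjective hf).toEquiv.symm, hTcard, Nat.card_perm, Nat.card_fin] at h1
      rw [show (4 : ℕ).factorial = 24 from rfl] at h1
      omega
    exact ⟨(MonoidHom.ofInjective hf).trans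
      (MulEquiv.subgroupCongr (Equiv.Perm.eq_alternatingGroup_of_index_eq_two hidx))⟩
  have hns : ¬ Group.IsSolvable G := fun hs => h.hna ⟨⟨IsSimpleGroup.comm_iff_isSolvable.2 hs⟩⟩
  have h2i : ∀ N : Subgroup G, N.Normal → N.index ≠ 2 := by
    intro K hK e
    rcases h.simple.eq_bot_or_eq_top_of_normal K hK with rfl | rfl
    · rw [index_bot] at e
      exact h.hna (by
        haveI := Fact.mk (e ▸ Nat.prime_two : (Nat.card G).Prime)
        haveI : IsCyclic G := isCyclic_of_prime_card (p := Nat.card G) rfl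
        exact IsCyclic.isMulCommutative)
    · rw [index_top] at e; omega
  have hdirect : Cfsg.IsInternalDirectProduct (zpowers (a : G)) T (centralizer ({(a : G)} : Set G)) := by
    refine ⟨hca ▸ le_sup_left, hca ▸ le_sup_right, ?_, ?_, hca.symm⟩
    · rintro _ ⟨i, rfl⟩ y hy
      have h1 : Commute (a : G) y := (mem_centralizer_singleton_iff.1 ((hca ▸ le_sup_right :
        T ≤ centralizer ({(a : G)} : Set G)) hy)).symm
      exact (h1.zpow_left i).eq
    · rw [eq_bot_iff]
      rintro x ⟨⟨i, rfl⟩, hx⟩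
      rcases Int.even_or_odd' i with ⟨j, rfl | rfl⟩
      · simp [zpow_mul, pow_two, h.mul_self_of_mem S a.2]
      · exfalso
        refine haT ?_
        simpa [zpow_add, zpow_mul, pow_two, h.mul_self_of_mem S a.2] using hx
  rcases Cfsg.Agent.S3285.result hns h2i (a : G) ⟨ha2, S, a.2, fun x hx => h.comm_of_mem S hx a.2⟩ 4 T hiso
    hdirect with ⟨-, F, _, _, hF, ⟨e⟩⟩ | ⟨e, -⟩
  swap
  · norm_num at e
  let K : Subgroup G := (MulAut.conj (G := Matrix.ProjectiveSpecialLinearGroup (Fin 2) F)).range.comap e.toMonoidHom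
  have hKn : K.Normal := by
    haveI : (MulAut.conj (G := Matrix.ProjectiveSpecialLinearGroup (Fin 2) F)).range.Normal := ⟨by
      rintro _ ⟨l, rfl⟩ σ
      exact ⟨σ l, MulEquiv.ext fun x => by simp [MulAut.conj_apply]⟩⟩
    exact Subgroup.Normal.comap inferInstance _
  haveI : Fact (Nat.Prime 2) := ⟨Nat.prime_two⟩
  haveI : CharP F 2 := by
    obtain ⟨p, hp⟩ := CharP.exists F
    haveI := hp
    obtain ⟨n, hp', hn⟩ := FiniteField.card F p
    rw [hF] at hn
    have h8 : p ∣ 2 ^ 3 := ⟨p ^ ((n : ℕ) - 1), by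
      rw [← pow_succ', Nat.sub_add_cancel n.pos]; exact hn⟩
    rw [← (Nat.prime_dvd_prime_iff_eq hp' Nat.prime_two).1 (hp'.dvd_of_dvd_pow h8)]
    exact hp
  have hspec := CfsgLib.Recog.PSLTwoOrders.range_orderOf (F := F) 2 (by omega)
  rw [hF] at hspec
  rcases h.simple.eq_bot_or_eq_top_of_normal K hKn with hbot | htop
  · -- then `conj` is trivial, but `PSL(2, 8)` is not commutative
    obtain ⟨x, hx⟩ : ∃ x : Matrix.ProjectiveSpecialLinearGroup (Fin 2) F, MulAut.conj x ≠ 1 := by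
      by_contra hall
      push Not at hall
      obtain ⟨x, hx⟩ : 2 ∈ Set.range (orderOf : Matrix.ProjectiveSpecialLinearGroup (Fin 2) F → ℕ) :=
        hspec.ge (Or.inl rfl)
      obtain ⟨y, hy⟩ : 7 ∈ Set.range (orderOf : Matrix.ProjectiveSpecialLinearGroup (Fin 2) F → ℕ) :=
        hspec.ge (Or.inr (Or.inl (by norm_num)))
      have hc : Commute x y := by
        have := DFunLike.congr_fun (hall x) y
        rw [MulAut.conj_apply] at this
        exact mul_inv_eq_iff_eq_mul.1 this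
      have ho := hc.orderOf_mul_eq_mul_orderOf_of_coprime (by rw [hx, hy]; norm_num)
      rw [hx, hy] at ho
      obtain hmem := hspec.le ⟨x * y, ho⟩
      rcases hmem with e' | e' | e' <;> norm_num at e'
    refine hx ?_
    obtain ⟨g, hg⟩ := e.surjective (MulAut.conj x)
    have : g ∈ K := ⟨x, hg.symm⟩
    rw [hbot, mem_bot] at this
    rw [← hg, this, map_one]
  · -- an element of order six
    obtain ⟨l, hl'⟩ : e c₀ ∈ (MulAut.conj (G := Matrix.ProjectiveSpecialLinearGroup (Fin 2) F)).range :=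
      (htop.ge (mem_top c₀) : c₀ ∈ K)
    have h6 : 6 ∣ orderOf l := by
      have h1 := orderOf_map_dvd (MulAut.conj (G := Matrix.ProjectiveSpecialLinearGroup (Fin 2) F)) l
      rw [hl', MulEquiv.orderOf_eq, hc₀o] at h1
      exact h1
    obtain hmem := hspec.le ⟨l, rfl⟩
    rcases hmem with e' | e' | e'
    · rw [e'] at h6; norm_num at h6
    · exact absurd (h6.trans e') (by norm_num)
    · exact absurd (h6.trans e') (by norm_num)

end Hyp

end CfsgLib.Known.OneComposite
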