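import Cfsg.Agent.Lib.Signalizer.Basic
import Cfsg.Agent.Lib.PGroups.Basic

/-!
Owner: helper26. The trace trick: when all elements `v y` of a coset of a `p`-group have the order of `y`,
an elementary abelian 2-group normalised by `y` and moved in every hyperplane centralises the `p`-group.
-/

set_option autoImplicit false
set_option linter.all false

namespace CfsgLib.Known.OneComposite

open Subgroup

variable {G : Type*} [Group G] [Finite G]

/-- In an abelian group acted on by `⟨b⟩` and by a fixed-point-free normalised cyclic group `R` on which no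
nontrivial power of `b` has a fixed point, vanishing traces force triviality. -/
theorem eq_one_of_trace {A V : Type*} [Group A] [Finite A] [CommGroup V] [Finite V] (φ : A →* MulAut V)
    (R : Subgroup A) (b : A) (q : ℕ) (hq : 0 < q) (hR : IsMulCommutative R) (hbR : ∀ z ∈ R, b * z * b⁻¹ ∈ R)
    (hb : ∀ i, 0 < i → i < q → ∀ z ∈ R, b ^ i * z = z * b ^ i → z = 1)
    (hfix : ∀ v : V, (∀ z ∈ R, φ z v = v) → v = 1)
    (hcop : (Nat.card R).Coprime (Nat.card V))
    (htr : ∀ v : V, ∏ i ∈ Finset.range q, φ (b ^ i) v = 1) (v : V) : v = 1 := by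
  classical
  have : Fintype R := Fintype.ofFinite R
  have hmem : ∀ i : ℕ, ∀ z ∈ R, b ^ i * z * (b ^ i)⁻¹ ∈ R := by
    intro i
    induction i with
    | zero => intro z hz; simpa using hz
    | succ i ih =>
      intro z hz
      have := hbR _ (ih z hz)
      convert this using 1
      rw [pow_succ']
      group
  have hall : ∀ w : V, ∏ z : R, φ (z : A) w = 1 := by
    intro w
    refine hfix _ fun z hz => ?_
    rw [map_prod]
    refine Fintype.prod_equiv (Equiv.mulLeft (⟨z, hz⟩ : R)) _ _ fun x => ?_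
    show φ z (φ (x : A) w) = φ ((⟨z, hz⟩ * x : R) : A) w
    rw [Subgroup.coe_mul, map_mul]
    rfl
  have key : ∀ i, 0 < i → i < q → ∏ z : R, φ ((z : A) * b ^ i * (z : A)⁻¹) v = 1 := by
    intro i h0 hi
    let f : R → R := fun z => z * ⟨b ^ i * (z⁻¹ : A) * (b ^ i)⁻¹, hmem i _ (inv_mem z.2)⟩
    have hf : Function.Injective f := by
      intro x y hxy
      have hc : ∀ a c : R, a * c = c * a := fun a c => hR.is_comm.comm a c
      have e1 : ((x : A) * (b ^ i * (x : A)⁻¹ * (b ^ i)⁻¹)) = (y : A) * (b ^ i * (y : A)⁻¹ * (b ^ i)⁻¹) :=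
        congrArg Subtype.val hxy
      have e2 : (y : A)⁻¹ * x = b ^ i * ((y : A)⁻¹ * x) * (b ^ i)⁻¹ := by
        have hc1 : Commute ((y : A)⁻¹) (x : A) :=
          (show Commute (y : A) (x : A) from congrArg Subtype.val (hc y x)).inv_left
        have h2 := congrArg (fun e => (y : A)⁻¹ * e * (b ^ i * (x : A) * (b ^ i)⁻¹)) e1
        calc (y : A)⁻¹ * x = (y : A)⁻¹ * ((x : A) * (b ^ i * (x : A)⁻¹ * (b ^ i)⁻¹)) *
              (b ^ i * (x : A) * (b ^ i)⁻¹) := by group
          _ = (y : A)⁻¹ * ((y : A) * (b ^ i * (y : A)⁻¹ * (b ^ i)⁻¹)) *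
              (b ^ i * (x : A) * (b ^ i)⁻¹) := h2
          _ = b ^ i * ((y : A)⁻¹ * x) * (b ^ i)⁻¹ := by group
      have hz := hb i h0 hi ((y : A)⁻¹ * x) (mul_mem (inv_mem y.2) x.2)
        ((eq_mul_inv_iff_mul_eq.1 e2).symm)
      exact Subtype.ext (inv_mul_eq_one.1 hz).symm
    rw [← hall (φ (b ^ i) v)]
    refine Fintype.prod_equiv (Equiv.ofBijective f ⟨hf, Finite.surjective_of_injective hf⟩) _ _ fun z => ?_
    show φ ((z : A) * b ^ i * (z : A)⁻¹) v = φ ((z : A) * (b ^ i * (z : A)⁻¹ * (b ^ i)⁻¹)) (φ (b ^ i) v)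
    rw [← MulAut.mul_apply, ← map_mul]
    congr 2
    group
  have hsum : ∏ z : R, ∏ i ∈ Finset.range q, φ ((z : A) * b ^ i * (z : A)⁻¹) v = 1 := by
    refine Finset.prod_eq_one fun z _ => ?_
    have h1 : ∀ i, φ ((z : A) * b ^ i * (z : A)⁻¹) v = φ (z : A) (φ (b ^ i) (φ (z : A)⁻¹ v)) := fun i => by
      rw [map_mul, map_mul]
      rfl
    simp only [h1]
    rw [← map_prod, htr, map_one]
  rw [Finset.prod_comm, ← Finset.prod_erase_mul _ _ (Finset.mem_range.2 hq),
    Finset.prod_eq_one fun i hi => key i (Nat.pos_of_ne_zero (Finset.ne_of_mem_erase hi))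
      (Finset.mem_range.1 (Finset.mem_of_mem_erase hi)), one_mul] at hsum
  have hv : v ^ Nat.card R = 1 := by
    have h1 : ∀ z : R, φ ((z : A) * b ^ 0 * (z : A)⁻¹) v = v := fun z => by simp
    simp only [h1] at hsum
    rwa [Finset.prod_const, Finset.card_univ, ← Nat.card_eq_fintype_card] at hsum
  exact orderOf_eq_one_iff.1 (Nat.eq_one_of_dvd_coprimes hcop (orderOf_dvd_of_pow_eq_one hv)
    (orderOf_dvd_natCard v))

/-- `(v y)^n` is a product of conjugates of `v` times `y ^ n`. -/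
theorem exists_mul_pow {W : Subgroup G} {y : G} (hy : y ∈ normalizer (W : Set G)) {V : Type*} [CommGroup V]
    (f : W →* V) (v : W) (n : ℕ) :
    ∃ w : W, ((v : G) * y) ^ n = (w : G) * y ^ n ∧
      f w = ∏ i ∈ Finset.range n,
        f ⟨y ^ i * (v : G) * (y ^ i)⁻¹, (mem_normalizer_iff.1 (pow_mem hy i) _).1 v.2⟩ := by
  induction n with
  | zero => exact ⟨1, by simp, by simp⟩
  | succ n ih =>
    obtain ⟨w, hw, hfw⟩ := ih
    refine ⟨w * ⟨y ^ n * (v : G) * (y ^ n)⁻¹, (mem_normalizer_iff.1 (pow_mem hy n) _).1 v.2⟩, ?_, ?_⟩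
    · rw [pow_succ, hw, Subgroup.coe_mul]
      group
    · rw [map_mul, hfw, Finset.prod_range_succ]

/-- The trace trick. -/
theorem trace_centralizes {p : ℕ} [Fact p.Prime] (hp2 : p ≠ 2) {W S : Subgroup G} (hW : IsPGroup p W)
    (hS : Cfsg.IsElementaryAbelian 2 S) (hSW : S ≤ normalizer (W : Set G))
    (hY : ∀ B : Subgroup G, B ≤ S → B.relIndex S = 2 → ∃ y r, r.Prime ∧ y ∈ normalizer (W : Set G) ∧
      y ∈ normalizer (S : Set G) ∧ y ^ r = 1 ∧
      (∀ i, 0 < i → i < r → ∃ b ∈ B, y ^ i * b * (y ^ i)⁻¹ ∉ B) ∧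
      ∀ v ∈ W, (v * y) ^ r = 1) :
    S ≤ centralizer (W : Set G) := by
  classical
  haveI : Fact (Nat.Prime 2) := ⟨Nat.prime_two⟩
  haveI := hS.1
  have hW2 : ¬ 2 ∣ Nat.card W := fun hd => by
    obtain ⟨k, hk⟩ := hW.exists_card_eq
    rw [hk] at hd
    exact hp2 ((Nat.prime_dvd_prime_iff_eq Nat.prime_two (Fact.out (p := p.Prime))).1
      (Nat.prime_two.dvd_of_dvd_pow hd)).symm
  let V := Abelianization W
  let f : W →* V := Abelianization.of
  let c : S → W → W := fun a w =>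
    ⟨(a : G) * (w : G) * (a : G)⁻¹, (mem_normalizer_iff.1 (hSW a.2) _).1 w.2⟩
  have hc1 : ∀ a, c a 1 = 1 := fun a => Subtype.ext (by simp [c])
  have hcm : ∀ a x y, c a (x * y) = c a x * c a y := fun a x y => Subtype.ext (by simp [c])
  let τ : S → V →* V := fun a => Abelianization.lift
    { toFun := fun w => f (c a w), map_one' := by rw [hc1, map_one]
      map_mul' := fun x y => by rw [hcm, map_mul] }
  have hτ : ∀ a w, τ a (f w) = f (c a w) := fun a w => rfl
  let Y : Subgroup G :=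
    { carrier := {x | ∃ hx : x ∈ W, ∀ a, f (c a ⟨x, hx⟩) = f ⟨x, hx⟩}
      one_mem' := ⟨one_mem W, fun a => by
        show f (c a 1) = f 1
        rw [hc1]⟩
      mul_mem' := by
        rintro x y ⟨hx, h1⟩ ⟨hy, h2⟩
        refine ⟨mul_mem hx hy, fun a => ?_⟩
        show f (c a (⟨x, hx⟩ * ⟨y, hy⟩)) = f (⟨x, hx⟩ * ⟨y, hy⟩)
        rw [hcm, map_mul, map_mul, h1, h2]
      inv_mem' := by
        rintro x ⟨hx, h1⟩
        refine ⟨inv_mem hx, fun a => ?_⟩
        have e : f (c a ⟨x, hx⟩) * f (c a (⟨x, hx⟩⁻¹)) = 1 := by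
          rw [← map_mul, ← hcm, mul_inv_cancel, hc1, map_one]
        show f (c a (⟨x, hx⟩⁻¹)) = f (⟨x, hx⟩⁻¹)
        rw [h1] at e
        rw [map_inv, eq_inv_iff_mul_eq_one, mul_comm]
        exact e }
  have hle : W ≤ Y := by
    refine CfsgLib.Signalizer.le_of_hyperplanes_le (p := 2) hS hW2 hSW fun B hB hBi => ?_
    rintro v ⟨hvW, hvB⟩
    have hvW : v ∈ W := hvW
    refine ⟨hvW, ?_⟩
    have hpos : 0 < B.relIndex S := Nat.pos_of_ne_zero index_ne_zero_of_finite
    rcases (show B.relIndex S = 1 ∨ B.relIndex S = 2 by omega) with h1 | h2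
    · intro a
      refine congrArg f (Subtype.ext ?_)
      show (a : G) * v * (a : G)⁻¹ = v
      rw [mem_centralizer_iff.1 hvB _ (relIndex_eq_one.1 h1 a.2), mul_inv_cancel_right]
    obtain ⟨y, r, hr, hyW, hyS, hyr, hmove, hall⟩ := hY B hB h2
    let vi : ℕ → W := fun i => ⟨y ^ i * v * (y ^ i)⁻¹, (mem_normalizer_iff.1 (pow_mem hyW i) _).1 hvW⟩
    have hprod : ∏ i ∈ Finset.range r, f (vi i) = 1 := by
      obtain ⟨w, hw, hfw⟩ := exists_mul_pow hyW f (⟨v, hvW⟩ : W) r
      rw [hall v hvW, hyr, mul_one] at hw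
      have : w = 1 := Subtype.ext hw.symm
      rw [this, map_one] at hfw
      exact hfw.symm
    let BS : Subgroup S := B.subgroupOf S
    have hBS2 : BS.index = 2 := h2
    have : Fintype BS := Fintype.ofFinite BS
    let N : W → V := fun x => ∏ h : BS, f (c (h : S) x)
    have hmul : ∀ a b : S, ∀ x, c a (c b x) = c (a * b) x := fun a b x => Subtype.ext (by
      simp [c, mul_assoc])
    have hcomm : ∀ a b : S, a * b = b * a := fun a b => hS.1.is_comm.comm a b
    have hτN : ∀ a : S, ∀ x, τ a (N x) = ∏ h : BS, f (c (h : S) (c a x)) := fun a x => by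
      rw [map_prod]
      refine Finset.prod_congr rfl fun h _ => ?_
      rw [hτ, hmul, hmul, hcomm]
    have hfixB : ∀ x, ∀ a ∈ BS, τ a (N x) = N x := fun x a ha => by
      rw [map_prod]
      refine Fintype.prod_equiv (Equiv.mulLeft (⟨a, ha⟩ : BS)) _ _ fun h => ?_
      rw [hτ, hmul]
      rfl
    have hNv : ∀ i, 0 < i → i < r → ∀ a, τ a (N (vi i)) = N (vi i) := by
      intro i h0 hi a
      obtain ⟨b, hbB, hbn⟩ := hmove i h0 hi
      let b' : S := ⟨y ^ i * b * (y ^ i)⁻¹, (mem_normalizer_iff.1 (pow_mem hyS i) _).1 (hB hbB)⟩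
      have hb'fix : τ b' (N (vi i)) = N (vi i) := by
        rw [hτN]
        refine Finset.prod_congr rfl fun h _ => ?_
        congr 2
        refine Subtype.ext ?_
        show y ^ i * b * (y ^ i)⁻¹ * (y ^ i * v * (y ^ i)⁻¹) * (y ^ i * b * (y ^ i)⁻¹)⁻¹ = y ^ i * v * (y ^ i)⁻¹
        have hbv : b * v * b⁻¹ = v := by
          rw [mem_centralizer_iff.1 hvB b hbB, mul_inv_cancel_right]
        calc _ = y ^ i * (b * v * b⁻¹) * (y ^ i)⁻¹ := by group
          _ = _ := by rw [hbv]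
      by_cases ha : a ∈ BS
      · exact hfixB _ a ha
      · have hab : a * b' ∈ BS := (Subgroup.mul_mem_iff_of_index_two hBS2).2 (iff_of_false ha hbn)
        have e : a = (a * b') * b'⁻¹ := (mul_inv_cancel_right a b').symm
        have hτm : ∀ a b : S, ∀ x, τ (a * b) x = τ a (τ b x) := fun a b x => by
          obtain ⟨w, rfl⟩ := QuotientGroup.mk_surjective x
          show τ (a * b) (f w) = τ a (τ b (f w))
          rw [hτ, hτ, hτ, hmul]
        have hb'' : τ b'⁻¹ (N (vi i)) = N (vi i) := by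
          conv_lhs => rw [← hb'fix, ← hτm, inv_mul_cancel]
          obtain ⟨w, hw⟩ := QuotientGroup.mk_surjective (N (vi i))
          rw [← hw]
          show τ 1 (f w) = f w
          rw [hτ]
          congr 1
          exact Subtype.ext (by simp [c])
        rw [e, hτm, hb'', hfixB _ _ hab]
    intro a
    have hN0 : N (vi 0) = f ⟨v, hvW⟩ ^ Nat.card BS := by
      rw [Nat.card_eq_fintype_card]
      refine (Finset.prod_eq_pow_card fun h _ => congrArg f (Subtype.ext ?_)).trans (by rw [Finset.card_univ])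
      show ((h : S) : G) * (y ^ 0 * v * (y ^ 0)⁻¹) * ((h : S) : G)⁻¹ = v
      rw [pow_zero, one_mul, inv_one, mul_one, mem_centralizer_iff.1 hvB ((h : S) : G) (mem_subgroupOf.1 h.2), mul_inv_cancel_right]
    have hN1 : ∏ i ∈ Finset.range r, N (vi i) = 1 := by
      rw [Finset.prod_comm]
      refine Finset.prod_eq_one fun h _ => ?_
      simp only [← hτ]
      rw [← map_prod, hprod, map_one]
    have hfix0 : τ a (N (vi 0)) = N (vi 0) := by
      rw [← Finset.mul_prod_erase _ _ (Finset.mem_range.2 hr.pos), mul_eq_one_iff_eq_inv] at hN1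
      rw [hN1, map_inv, map_prod]
      congr 1
      exact Finset.prod_congr rfl fun i hi => hNv i (Nat.pos_of_ne_zero (Finset.ne_of_mem_erase hi))
        (Finset.mem_range.1 (Finset.mem_of_mem_erase hi)) a
    rw [hN0, map_pow, hτ] at hfix0
    refine (powCoprime ?_).injective (show (f (c a ⟨v, hvW⟩)) ^ Nat.card BS = _ from hfix0)
    have hS2 : IsPGroup 2 BS := (CfsgLib.Signalizer.elementary_isPGroup hS).to_subgroup _
    obtain ⟨k, hk⟩ := hS2.exists_card_eq
    rw [hk]
    refine Nat.Coprime.pow_right _ (Nat.coprime_comm.1 (Nat.prime_two.coprime_iff_not_dvd.2 fun hd => hW2 (hd.trans ?_)))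
    exact Subgroup.card_quotient_dvd_card _
  refine CfsgLib.Core.centralizes_of_centralizes_frattini_quotient hSW
    ((CfsgLib.Signalizer.coprime_card_of_pGroup (CfsgLib.Signalizer.elementary_isPGroup hS) hW2).coprime_dvd_right
      (Subgroup.card_subgroup_dvd_card _)) fun a ha k hk => ?_
  obtain ⟨hk', h1⟩ := hle hk
  have h2 : c ⟨a, ha⟩ ⟨k, hk⟩ * (⟨k, hk⟩ : W)⁻¹ ∈ commutator W := by
    rw [← QuotientGroup.eq_one_iff]
    show f (c ⟨a, ha⟩ ⟨k, hk⟩ * (⟨k, hk⟩ : W)⁻¹) = 1
    rw [map_mul, h1, map_inv, mul_inv_cancel]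
  exact ⟨_, CfsgLib.PGroups.commutator_le_frattini' hW h2, rfl⟩

end CfsgLib.Known.OneComposite
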