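import Cfsg.Agent.Lib.Known.OneComposite.Basic
import Cfsg.Agent.Lib.Known.OneComposite.Trace
import Cfsg.Agent.S0217

/-!
Owner: helper26. Sylow 2-subgroup `S`: either `S` is a four group with trivial `O(C(S))`, or the
centralisers of its involutions lie in `N(S)`.
-/

set_option autoImplicit false
set_option linter.all false

namespace CfsgLib.Known.OneComposite

open Subgroup

variable {G : Type*} [Group G] [Finite G]

theorem orderOf_dvd_of_mem {X : Subgroup G} {x : G} (hx : x ∈ X) : orderOf x ∣ Nat.card X :=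
  Subgroup.orderOf_dvd_natCard _ hx

namespace Hyp

variable {q : ℕ} (h : Hyp q G) (S : Sylow 2 G)
include h

theorem elem : Cfsg.IsElementaryAbelian 2 (S : Subgroup G) := h.two_group S.2

theorem mul_self_of_mem {x : G} (hx : x ∈ (S : Subgroup G)) : x * x = 1 := by
  rw [← pow_two]; exact (h.elem S).2 x hx

theorem inv_of_mem {x : G} (hx : x ∈ (S : Subgroup G)) : x⁻¹ = x :=
  inv_eq_of_mul_eq_one_right (h.mul_self_of_mem S hx)

theorem orderOf_of_mem {x : G} (hx : x ∈ (S : Subgroup G)) (hx1 : x ≠ 1) : orderOf x = 2 :=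
  orderOf_eq_prime ((h.elem S).2 x hx) hx1

theorem comm_of_mem {x y : G} (hx : x ∈ (S : Subgroup G)) (hy : y ∈ (S : Subgroup G)) : x * y = y * x :=
  CfsgLib.Signalizer.elementary_comm (h.elem S) hx hy

theorem le_centralizer_self : (S : Subgroup G) ≤ centralizer ((S : Subgroup G) : Set G) :=
  fun x hx => mem_centralizer_iff.2 fun y hy => h.comm_of_mem S hy hx

theorem le_centralizer_of_mem {a : G} (ha : a ∈ (S : Subgroup G)) :
    (S : Subgroup G) ≤ centralizer ({a} : Set G) :=
  fun x hx => mem_centralizer_singleton_iff.2 (h.comm_of_mem S hx ha)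

theorem eq_one_of_odd {x : G} (hx : x ∈ (S : Subgroup G)) (ho : Odd (orderOf x)) : x = 1 :=
  CfsgLib.LocalEvenB.eq_one_of_mem_two S.2 hx ho

theorem mem_of_involution {x : G} (hxN : x ∈ normalizer ((S : Subgroup G) : Set G)) (hx : x * x = 1) :
    x ∈ (S : Subgroup G) := by
  have hP : IsPGroup 2 (zpowers x) := fun z => ⟨1, by
    obtain ⟨k, hk⟩ := z.2
    refine Subtype.ext ?_
    rw [coe_pow, coe_one, ← hk, pow_one, pow_two, ← zpow_add, ← two_mul, zpow_mul, zpow_two, hx, one_zpow]⟩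
  have hsup := IsPGroup.to_sup_of_normal_right' hP S.2 (zpowers_le.2 hxN)
  rw [← S.3 hsup le_sup_right]
  exact mem_sup_left (mem_zpowers x)

theorem le_core {z : G} (hz : orderOf z = 2 ∨ orderOf z = q) {X : Subgroup G}
    (hX : X ≤ centralizer ({z} : Set G)) (hSX : (S : Subgroup G) ≤ X) {Y : Subgroup G} (hY : Y ≤ X)
    (ho : Odd (Nat.card Y)) (hSY : (S : Subgroup G) ≤ normalizer (Y : Set G)) : Y ≤ core X := by
  have hs := h.solvable_centralizer hz hX
  let T := S.subtype hSX
  have hT : IsMulCommutative (T : Subgroup X) := ⟨⟨fun a b => Subtype.ext (Subtype.ext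
    (h.comm_of_mem S a.2 b.2))⟩⟩
  have h1 : Y.subgroupOf X ≤ Cfsg.oddCore ↥X := by
    refine CfsgLib.Techniques.PPrimeAbelian.le_oddCore_of_normalized hs T hT ?_ ?_
    · rwa [Nat.card_congr (subgroupOfEquivOfLe hY).toEquiv]
    · intro s hs
      rw [mem_normalizer_iff]
      intro y
      simp only [mem_subgroupOf]
      exact mem_normalizer_iff.1 (hSY hs) y
  intro y hy
  exact ⟨⟨y, hY hy⟩, h1 hy, rfl⟩

theorem le_core_sup {z : G} (hz : orderOf z = 2 ∨ orderOf z = q) {X : Subgroup G}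
    (hX : X ≤ centralizer ({z} : Set G)) (hSX : (S : Subgroup G) ≤ X) :
    X ≤ core X ⊔ (X ⊓ normalizer ((S : Subgroup G) : Set G)) := by
  have hs := h.solvable_centralizer hz hX
  let T := S.subtype hSX
  have hT : IsMulCommutative (T : Subgroup X) := ⟨⟨fun a b => Subtype.ext (Subtype.ext
    (h.comm_of_mem S a.2 b.2))⟩⟩
  have h1 := CfsgLib.Techniques.PPrimeAbelian.oddCore_sup_normalizer hs T hT
  have h2 : (normalizer ((T : Subgroup X) : Set X)).map X.subtype ≤
      X ⊓ normalizer ((S : Subgroup G) : Set G) := by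
    rintro _ ⟨x, hx, rfl⟩
    refine ⟨x.2, mem_normalizer_iff.2 ?_⟩
    intro s
    constructor
    · intro hs'
      exact (mem_normalizer_iff.1 hx ⟨s, hSX hs'⟩).1 hs'
    · intro hs'
      have hs'' : (⟨(x : G) * s * (x : G)⁻¹, hSX hs'⟩ : X) ∈ (T : Subgroup X) := hs'
      have h3 := (mem_normalizer_iff''.1 hx _).1 hs''
      have e : ((x⁻¹ * (⟨(x : G) * s * (x : G)⁻¹, hSX hs'⟩ : X) * x : X) : G) = s := by
        simp [mul_assoc]
      rw [← e]
      exact h3
  have h4 := congrArg (Subgroup.map X.subtype) h1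
  rw [Subgroup.map_sup, ← MonoidHom.range_eq_map, range_subtype] at h4
  exact h4.symm.le.trans (sup_le_sup_left h2 _)

theorem mem_core_centralizer {x : G} (hx : x ∈ centralizer ((S : Subgroup G) : Set G))
    (ho : Odd (orderOf x)) (hS : (S : Subgroup G) ≠ ⊥) :
    x ∈ core (centralizer ((S : Subgroup G) : Set G)) := by
  obtain ⟨a, ha, ha1⟩ := (Subgroup.bot_or_exists_ne_one (S : Subgroup G)).resolve_left hS
  refine h.le_core S (z := a) (Or.inl (h.orderOf_of_mem S ha ha1))
    (centralizer_le (Set.singleton_subset_iff.2 ha)) (h.le_centralizer_self S) (zpowers_le.2 hx)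
    (by rwa [Nat.card_zpowers]) ?_ (mem_zpowers x)
  intro s hs
  refine centralizer_le_normalizer _ (mem_centralizer_iff.2 ?_)
  rintro _ ⟨k, rfl⟩
  exact ((show Commute s x from mem_centralizer_iff.1 hx s hs).zpow_right k).symm

/-- An element of `N(S)` has the same action as one of odd order. -/
theorem exists_odd_same {g : G} (hg : g ∈ normalizer ((S : Subgroup G) : Set G)) :
    ∃ g' ∈ normalizer ((S : Subgroup G) : Set G), Odd (orderOf g') ∧
      ∀ s ∈ (S : Subgroup G), g * s * g⁻¹ = g' * s * g'⁻¹ := by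
  by_cases h1 : g = 1
  · exact ⟨1, one_mem _, by simp, fun s _ => by rw [h1]⟩
  by_cases ho : Odd (orderOf g)
  · exact ⟨g, hg, ho, fun s _ => rfl⟩
  rcases h.ord g h1 with hp | hp
  · have h2 : orderOf g = 2 := hp.eq_two_or_odd'.resolve_right ho
    have hgS := h.mem_of_involution S hg (by rw [← pow_two, ← h2, pow_orderOf_eq_one])
    exact ⟨1, one_mem _, by simp, fun s hs => by
      rw [h.comm_of_mem S hgS hs, mul_inv_cancel_right]; simp⟩
  · refine ⟨g ^ (q + 1), pow_mem hg _, ?_, fun s hs => ?_⟩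
    · refine (h.odd_q).of_dvd_nat (orderOf_dvd_of_pow_eq_one ?_)
      obtain ⟨m, hm⟩ : Even (q + 1) := h.odd_q.add_one
      rw [← pow_mul, show (q + 1) * q = (2 * q) * m by rw [hm]; ring, pow_mul, ← hp, pow_orderOf_eq_one,
        one_pow]
    · have hgq : g ^ q ∈ (S : Subgroup G) := h.mem_of_involution S (pow_mem hg _)
        (by rw [← pow_add, ← two_mul, ← hp, pow_orderOf_eq_one])
      rw [pow_succ', mul_inv_rev,
        show g * g ^ q * s * ((g ^ q)⁻¹ * g⁻¹) = g * (g ^ q * s * (g ^ q)⁻¹) * g⁻¹ by group,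
        h.comm_of_mem S hgq hs, mul_inv_cancel_right]

/-- `N(S)` has no fixed point in `S`. -/
theorem eq_one_of_fixed {a : G} (ha : a ∈ (S : Subgroup G))
    (hf : ∀ g ∈ normalizer ((S : Subgroup G) : Set G), g * a * g⁻¹ = a) : a = 1 := by
  haveI : Fact (Nat.Prime 2) := ⟨Nat.prime_two⟩
  have := h.simple
  have hc := (h.elem S).1
  have h1 := CfsgLib.Transfer.commutator_inf_eq_commutator_normalizer S hc
  have h2 := (CfsgLib.Transfer.commutator_normalizer_inf_sup S hc).1
  have htop : _root_.commutator G = ⊤ := by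
    rcases (inferInstance : (_root_.commutator G).Normal).eq_bot_or_eq_top with e | e
    · exact absurd ((commutator_eq_bot_iff G).1 e) h.hna
    · exact e
  rw [htop, top_inf_eq] at h1
  have h3 : a ∈ (⊥ : Subgroup G) := h2.le ⟨h1.le ha, ha,
    mem_centralizer_iff.2 fun g hg => mul_inv_eq_iff_eq_mul.1 (hf g hg)⟩
  exact mem_bot.1 h3

/-- An element of odd order of `N(S)` moving a given hyperplane. -/
theorem exists_move {B : Subgroup G} (hB : B ≤ (S : Subgroup G)) (hBi : B.relIndex (S : Subgroup G) = 2) :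
    ∃ y ∈ normalizer ((S : Subgroup G) : Set G), Odd (orderOf y) ∧ ∃ b ∈ B, y * b * y⁻¹ ∉ B := by
  classical
  by_contra hno
  push Not at hno
  have hall : ∀ g ∈ normalizer ((S : Subgroup G) : Set G), ∀ b ∈ B, g * b * g⁻¹ ∈ B := fun g hg b hb => by
    obtain ⟨g', hg', ho, he⟩ := h.exists_odd_same S hg
    rw [he b (hB hb)]
    exact hno g' hg' ho b hb
  let φ := normalizerMonoidHom (S : Subgroup G)
  have hodd : Odd (Nat.card φ.range) := by
    rw [← Nat.not_even_iff_odd, even_iff_two_dvd]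
    intro hd
    haveI : Fact (Nat.Prime 2) := ⟨Nat.prime_two⟩
    obtain ⟨⟨_, g, rfl⟩, hg⟩ := exists_prime_orderOf_dvd_card' 2 hd
    rw [← orderOf_coe] at hg
    change orderOf (φ g) = 2 at hg
    obtain ⟨g', hg', ho, he⟩ := h.exists_odd_same S g.2
    have e : φ g = φ ⟨g', hg'⟩ := by
      refine MulEquiv.ext fun s => Subtype.ext ?_
      exact he s s.2
    have : orderOf (φ g) ∣ orderOf g' := by
      rw [e, ← Subgroup.orderOf_mk g' hg']
      exact orderOf_map_dvd φ _
    rw [hg] at this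
    exact (Nat.not_even_iff_odd.2 ho) (even_iff_two_dvd.2 this)
  obtain ⟨s, hs, hsB⟩ : ∃ s ∈ (S : Subgroup G), s ∉ B := by
    by_contra hc
    push Not at hc
    rw [relIndex_eq_one.2 hc] at hBi
    omega
  letI : CommGroup (S : Subgroup G) :=
    { (inferInstance : Group (S : Subgroup G)) with mul_comm := (h.elem S).1.is_comm.comm }
  have : Fintype φ.range := Fintype.ofFinite _
  let u : (S : Subgroup G) := ∏ ψ : φ.range, (ψ : MulAut (S : Subgroup G)) ⟨s, hs⟩
  have hu : (u : G) = 1 := by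
    refine h.eq_one_of_fixed S u.2 fun g hg => ?_
    have e : φ ⟨g, hg⟩ u = u := by
      rw [map_prod]
      exact Fintype.prod_equiv (Equiv.mulLeft (⟨φ ⟨g, hg⟩, ⟨g, hg⟩, rfl⟩ : φ.range)) _ _ fun ψ => rfl
    exact congrArg Subtype.val e
  let π : (S : Subgroup G) →* (S : Subgroup G) ⧸ B.subgroupOf (S : Subgroup G) := QuotientGroup.mk' _
  have hπ : π u = π ⟨s, hs⟩ ^ Nat.card φ.range := by
    rw [map_prod, Nat.card_eq_fintype_card]
    refine (Finset.prod_eq_pow_card fun ψ _ => ?_).trans (by rw [Finset.card_univ])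
    obtain ⟨⟨g, hg⟩, hψ⟩ := ψ.2
    rw [← hψ]
    refine (QuotientGroup.eq.2 ?_).symm
    refine (mul_mem_iff_of_index_two (H := B.subgroupOf (S : Subgroup G)) hBi).2 (iff_of_false ?_ ?_)
    · exact fun hh => hsB (inv_mem_iff.1 hh)
    · intro hh
      have h5 := hall g⁻¹ (inv_mem hg) _ (mem_subgroupOf.1 hh)
      refine hsB ?_
      convert h5 using 1
      show s = g⁻¹ * (g * s * g⁻¹) * g⁻¹⁻¹
      group
  rw [show u = 1 from Subtype.ext hu, map_one] at hπ
  have hsq : π ⟨s, hs⟩ ^ 2 = 1 := by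
    rw [← map_pow, show (⟨s, hs⟩ : (S : Subgroup G)) ^ 2 = 1 from Subtype.ext (by
      rw [coe_pow, coe_one]; exact (h.elem S).2 s hs), map_one]
  obtain ⟨m, hm⟩ := hodd
  rw [hm, pow_succ, pow_mul, hsq, one_pow, one_mul] at hπ
  exact hsB (mem_subgroupOf.1 ((QuotientGroup.eq_one_iff _).1 hπ.symm))

theorem four_le : 4 ≤ Nat.card (S : Subgroup G) := by
  haveI : Fact (Nat.Prime 2) := ⟨Nat.prime_two⟩
  obtain ⟨k, hk⟩ := S.2.exists_card_eq
  have hd := S.dvd_card_of_dvd_card h.two_dvd_card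
  rw [hk] at hd ⊢
  have hk0 : k ≠ 0 := fun e => by rw [e] at hd; norm_num at hd
  have hk1 : k ≠ 1 := fun e => by
    rw [e, pow_one] at hk
    obtain ⟨y, hyN, -, b, hb, hb'⟩ := h.exists_move S (B := ⊥) bot_le (by rw [relIndex_bot_left]; exact hk)
    rw [mem_bot] at hb
    subst hb
    simp at hb'
  calc 4 = 2 ^ 2 := rfl
    _ ≤ 2 ^ k := Nat.pow_le_pow_right two_pos (by omega)

theorem ne_bot : (S : Subgroup G) ≠ ⊥ := fun e => by
  have := h.four_le S
  rw [e, card_bot] at this
  omega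

theorem inf_eq_one {W : Subgroup G} (hW : Odd (Nat.card W)) {x : G} (hxW : x ∈ W)
    (hxS : x ∈ (S : Subgroup G)) : x = 1 :=
  h.eq_one_of_odd S hxS (hW.of_dvd_nat (orderOf_dvd_of_mem hxW))

/-- Elements of `W` normalising `S` centralise it, if `S` normalises `W` of odd order. -/
theorem mem_centralizer_of_normalizer {W : Subgroup G} (hW : Odd (Nat.card W))
    (hSW : (S : Subgroup G) ≤ normalizer (W : Set G)) {x : G} (hxW : x ∈ W)
    (hxN : x ∈ normalizer ((S : Subgroup G) : Set G)) : x ∈ centralizer ((S : Subgroup G) : Set G) := by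
  refine mem_centralizer_iff.2 fun s hs => ?_
  have h1 : x * s * x⁻¹ * s⁻¹ ∈ (S : Subgroup G) :=
    mul_mem ((mem_normalizer_iff.1 hxN s).1 hs) (inv_mem hs)
  have h2 : x * (s * x⁻¹ * s⁻¹) ∈ W := mul_mem hxW ((mem_normalizer_iff.1 (hSW hs) _).1 (inv_mem hxW))
  have h3 := h.inf_eq_one S hW h2 (by simpa [mul_assoc] using h1)
  have h4 : x * s * x⁻¹ * s⁻¹ = 1 := by simpa [mul_assoc] using h3
  exact (mul_inv_eq_iff_eq_mul.1 (mul_inv_eq_one.1 h4)).symm

/-- The trace trick applies: a `q`-group normalised by elements moving every hyperplane is centralised. -/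
theorem centralizes {W : Subgroup G} (hW : IsPGroup q W) (hSW : (S : Subgroup G) ≤ normalizer (W : Set G))
    (hY : ∀ B : Subgroup G, B ≤ (S : Subgroup G) → B.relIndex (S : Subgroup G) = 2 →
      ∃ y ∈ normalizer ((S : Subgroup G) : Set G), y ∈ normalizer (W : Set G) ∧ Odd (orderOf y) ∧
        ∃ b ∈ B, y * b * y⁻¹ ∉ B) :
    (S : Subgroup G) ≤ centralizer (W : Set G) := by
  haveI : Fact q.Prime := ⟨h.prime⟩
  have hWo : Odd (Nat.card W) := by
    obtain ⟨k, hk⟩ := hW.exists_card_eq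
    rw [hk]; exact h.odd_q.pow
  refine trace_centralizes h.two_ne hW (h.elem S) hSW fun B hB hBi => ?_
  obtain ⟨y, hyS, hyW, hyo, b, hb, hyb⟩ := hY B hB hBi
  have hy1 : y ≠ 1 := fun e => hyb (by rw [e]; simpa using hb)
  have hp := h.odd_prime hyo hy1
  haveI : Fact (orderOf y).Prime := ⟨hp⟩
  refine ⟨y, orderOf y, hp, hyW, hyS, pow_orderOf_eq_one y, fun i h0 hi => ?_, fun v hv => ?_⟩
  · by_contra hc
    push Not at hc
    have hcop : Nat.Coprime i (orderOf y) :=
      (hp.coprime_iff_not_dvd.2 fun hd => absurd (Nat.le_of_dvd h0 hd) (by omega)).symm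
    obtain ⟨m, hm⟩ := exists_pow_eq_self_of_coprime (x := y) hcop
    have hpow : ∀ n : ℕ, ∀ x ∈ B, (y ^ i) ^ n * x * ((y ^ i) ^ n)⁻¹ ∈ B := by
      intro n
      induction n with
      | zero => intro x hx; simpa using hx
      | succ n ih =>
        intro x hx
        have := hc _ (ih x hx)
        convert this using 1
        rw [pow_succ']
        group
    exact hyb (hm ▸ hpow m b hb)
  · have hynW : y ∉ W := fun hh => hyb (by
      rw [← mem_centralizer_iff.1 (h.mem_centralizer_of_normalizer S hWo hSW hh hyS) b (hB hb),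
        mul_inv_cancel_right]
      exact hb)
    let H := zpowers y ⊔ W
    have hle : zpowers y ≤ normalizer (W : Set G) := zpowers_le.2 hyW
    have hd : zpowers y ⊓ W = ⊥ := by
      rcases (Nat.dvd_prime hp).1 (Nat.card_zpowers y ▸ card_dvd_of_le (inf_le_left : zpowers y ⊓ W ≤ zpowers y))
        with e | e
      · exact card_eq_one.1 e
      · refine absurd ?_ hynW
        have := eq_of_le_of_card_ge (inf_le_left : zpowers y ⊓ W ≤ zpowers y) (by rw [Nat.card_zpowers, e])
        exact (this.ge (mem_zpowers y)).2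
    have hHo : Odd (Nat.card H) := by
      refine Nat.not_even_iff_odd.1 fun he => ?_
      haveI : Fact (Nat.Prime 2) := ⟨Nat.prime_two⟩
      exact CfsgLib.Signalizer.not_dvd_sup (p := 2) hle hWo.not_two_dvd_nat
        (by rw [Nat.card_zpowers]; exact hyo.not_two_dvd_nat) (by rw [sup_comm]; exact even_iff_two_dvd.1 he)
    have hvy : Odd (orderOf (v * y)) := hHo.of_dvd_nat (orderOf_dvd_of_mem
      (mul_mem (mem_sup_right hv) (mem_sup_left (mem_zpowers y))))
    have hne : v * y ≠ 1 := fun e => hynW (by exact eq_inv_of_mul_eq_one_right e ▸ W.inv_mem hv)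
    have hl := h.odd_prime hvy hne
    obtain ⟨w, hw, -⟩ := exists_mul_pow hyW (Abelianization.of (G := W)) ⟨v, hv⟩ (orderOf (v * y))
    rw [pow_orderOf_eq_one] at hw
    have hyl : y ^ orderOf (v * y) = 1 := by
      rw [← mem_bot, ← hd]
      exact ⟨pow_mem (mem_zpowers y) _, eq_inv_of_mul_eq_one_right hw.symm ▸ W.inv_mem w.2⟩
    rw [(Nat.prime_dvd_prime_iff_eq hp hl).1 (orderOf_dvd_of_pow_eq_one hyl)]
    exact pow_orderOf_eq_one _

theorem centralizes_invariant {W : Subgroup G} (hW : IsPGroup q W)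
    (hN : normalizer ((S : Subgroup G) : Set G) ≤ normalizer (W : Set G)) :
    (S : Subgroup G) ≤ centralizer (W : Set G) :=
  h.centralizes S hW (le_normalizer.trans hN) fun B hB hBi => by
    obtain ⟨y, hy, ho, hb⟩ := h.exists_move S hB hBi
    exact ⟨y, hy, hN hy, ho, hb⟩

/-- Odd-order subgroups normalised by `S` are `q`-groups. -/
theorem isPGroup_of_normalized {W : Subgroup G} (hW : Odd (Nat.card W))
    (hSW : (S : Subgroup G) ≤ normalizer (W : Set G)) : IsPGroup q W := by
  haveI : Fact (Nat.Prime 2) := ⟨Nat.prime_two⟩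
  have hcop := CfsgLib.Signalizer.coprime_card_of_pGroup S.2 hW.not_two_dvd_nat
  haveI : IsMulCommutative (S : Subgroup G) := (h.elem S).1
  refine IsPGroup.of_card (n := (Nat.card W).primeFactorsList.length)
    (Nat.eq_prime_pow_of_unique_prime_dvd Nat.card_pos.ne' fun {l} hl hd => ?_)
  haveI : Fact l.Prime := ⟨hl⟩
  obtain ⟨P, hP⟩ := CfsgLib.Core.exists_invariant_sylow hSW hcop (Or.inl (Group.isSolvable_of_comm fun a b => (h.elem S).1.is_comm.comm a b)) l
  have hPW : (P : Subgroup W).map W.subtype ≤ W := map_subtype_le _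
  by_contra hlq
  have hbot : (P : Subgroup W).map W.subtype ≤ ⊥ := by
    refine CfsgLib.LocalEven.le_of_centralizers_le (p := 2) (A := (S : Subgroup G)) (h.elem S).2
      (h.four_le S) hP (hW.of_dvd_nat (card_dvd_of_le hPW)).not_two_dvd_nat fun a ha ha1 => ?_
    rintro x ⟨hxP, hxa⟩
    obtain ⟨m, hm⟩ := (IsPGroup.iff_orderOf.1 (P.2.map W.subtype)) ⟨x, hxP⟩
    rw [orderOf_mk] at hm
    have hx : x ^ q = 1 := h.pow_q_eq_one (Or.inl (h.orderOf_of_mem S ha ha1))
      (mem_centralizer_singleton_iff.1 hxa).symm (hW.of_dvd_nat (orderOf_dvd_of_mem (hPW hxP)))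
    have hd1 := orderOf_dvd_of_pow_eq_one hx
    rw [hm] at hd1
    rcases Nat.eq_zero_or_pos m with rfl | hm0
    · rw [pow_zero, orderOf_eq_one_iff] at hm
      exact mem_bot.2 hm
    · exact absurd ((Nat.prime_dvd_prime_iff_eq hl h.prime).1 ((dvd_pow_self l hm0.ne').trans hd1)) hlq
  have := P.dvd_card_of_dvd_card hd
  rw [← card_map_of_injective W.subtype_injective, le_bot_iff.1 hbot, card_bot] at this
  exact hl.not_dvd_one this

end Hyp

end CfsgLib.Known.OneComposite
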