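import Cfsg.Agent.Lib.Known.OneComposite.Split
import Cfsg.Agent.Lib.CIT.CN

/-!
Owner: helper26. The regular automizer is impossible.
-/

set_option autoImplicit false
set_option linter.all false

namespace CfsgLib.Known.OneComposite

open Subgroup

variable {G : Type*} [Group G] [Finite G]

theorem mem_inf_conj {M : Subgroup G} {u x : G} (hu : orderOf u = 2) (hx : x ∈ M) (hux : u * x * u ∈ M) :
    x ∈ M ⊓ M.map (MulAut.conj u).toMonoidHom := by
  refine ⟨hx, u * x * u, hux, ?_⟩
  rw [MulEquiv.coe_toMonoidHom, MulAut.conj_apply, CfsgLib.Signalizer.involution_inv hu]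
  calc u * (u * x * u) * u = (u * u) * x * (u * u) := by group
    _ = x := by rw [CfsgLib.Signalizer.involution_sq hu, one_mul, mul_one]

namespace Hyp

variable {q : ℕ} (h : Hyp q G) (S : Sylow 2 G) (hl : Loc S)
include h

theorem exists_conj_mem {t : G} (ht : orderOf t = 2) : ∃ c : G, c * t * c⁻¹ ∈ (S : Subgroup G) := by
  haveI : Fact (Nat.Prime 2) := ⟨Nat.prime_two⟩
  obtain ⟨P, hP⟩ := IsPGroup.exists_le_sylow (G := G) (show IsPGroup 2 (zpowers t) from
    IsPGroup.of_card (n := 1) (by rw [Nat.card_zpowers, ht, pow_one]))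
  obtain ⟨c, rfl⟩ := MulAction.exists_smul_eq G S P
  have h2 := hP (mem_zpowers t)
  rw [Sylow.coe_subgroup_smul, CfsgLib.Core.mem_conj_smul_iff] at h2
  exact ⟨c⁻¹, by simpa using h2⟩

include hl

theorem regular_false {r : ℕ} (hd : RegularData S r) : False := by
  classical
  set M := normalizer ((S : Subgroup G) : Set G) with hM
  set W := core (centralizer ((S : Subgroup G) : Set G)) with hW
  haveI : Fact q.Prime := ⟨h.prime⟩
  have hr2 : 2 < r := by
    have := h.four_le S
    have := hd.card_S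
    omega
  have hact : ∀ (g : G) (hg : g ∈ M), act S ⟨g, hg⟩ = 1 ↔ g ∈ centralizer ((S : Subgroup G) : Set G) := by
    intro g hg
    constructor
    · intro e
      refine mem_centralizer_iff.2 fun s hs => ?_
      have h1 := congrArg Subtype.val (DFunLike.congr_fun e ⟨s, hs⟩)
      rw [act_apply] at h1
      exact (mul_inv_eq_iff_eq_mul.1 h1).symm
    · intro e
      refine MulEquiv.ext fun s => Subtype.ext ?_
      rw [act_apply]
      exact mul_inv_eq_iff_eq_mul.2 (mem_centralizer_iff.1 e s s.2).symm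
  have hfixed : ∀ g ∈ M, ∀ a ∈ (S : Subgroup G), a ≠ 1 → g * a = a * g →
      g ∈ centralizer ((S : Subgroup G) : Set G) := fun g hg a ha ha1 hc =>
    (hact g hg).1 (hd.fixed ⟨g, hg⟩ ⟨a, ha⟩ (fun e => ha1 (congrArg Subtype.val e))
      (Subtype.ext (by rw [act_apply]; exact mul_inv_eq_iff_eq_mul.2 hc)))
  have hcent : ∀ a ∈ (S : Subgroup G), a ≠ 1 →
      centralizer ({a} : Set G) ≤ centralizer ((S : Subgroup G) : Set G) := fun a ha ha1 g hg =>
    hfixed g (hl a ha ha1 hg) a ha ha1 (mem_centralizer_singleton_iff.1 hg)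
  have hWodd : ∀ x ∈ W, Odd (orderOf x) := fun x hx => (card_core _).of_dvd_nat (orderOf_dvd_of_mem hx)
  have hCW : ∀ x ∈ centralizer ((S : Subgroup G) : Set G), Odd (orderOf x) → x ∈ W := fun x hx ho =>
    h.mem_core_centralizer S hx ho (h.ne_bot S)
  have hMW : M ≤ normalizer (W : Set G) :=
    (CfsgLib.Signalizer.normalizer_le_normalizer_centralizer_set _).trans (normalizer_le_normalizer_core _)
  -- intersections with swapped conjugates meet `C(S)` trivially
  have hDW : ∀ u : G, orderOf u = 2 → u ∉ M → ∀ x ∈ M, u * x * u ∈ M →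
      x ∈ centralizer ((S : Subgroup G) : Set G) → x = 1 := by
    intro u hu huM x hxM hxu hxC
    have huu : u * u = 1 := CfsgLib.Signalizer.involution_sq hu
    have hui : u⁻¹ = u := CfsgLib.Signalizer.involution_inv hu
    have hxo : Odd (orderOf x) := by
      exact ((h.strongly_embedded S hl).2.2 u huM).of_dvd_nat (orderOf_dvd_of_mem (mem_inf_conj hu hxM hxu))
    have hxW := hCW x hxC hxo
    by_contra hx1
    rw [show u * x * u = u * x * u⁻¹ by rw [hui]] at hxu
    set x' := u * x * u⁻¹ with hx'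
    have hx'1 : x' ≠ 1 := h.conj_ne_one hx1
    have hux' : u * x * u⁻¹ = x' := rfl
    have hux2 : u * x' * u⁻¹ = x := by
      calc u * x' * u⁻¹ = (u * u) * x * (u * u)⁻¹ := by rw [hx']; group
        _ = x := by rw [huu]; group
    have hcomm : x * x' = x' * x := by
      have h1 : x * x' * x⁻¹ * x'⁻¹ ∈ W := by
        have : x * (x' * x⁻¹ * x'⁻¹) ∈ W := mul_mem hxW ((mem_normalizer_iff.1 (hMW hxu) _).1 (inv_mem hxW))
        simpa [mul_assoc] using this
      by_contra hne
      refine huM (h.core_ti S hl (g := u) h1 (fun e => hne (mul_inv_eq_iff_eq_mul.1 (mul_inv_eq_one.1 e))) ?_)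
      have e : u * (x * x' * x⁻¹ * x'⁻¹) * u⁻¹ =
          (u * x * u⁻¹) * (u * x' * u⁻¹) * (u * x * u⁻¹)⁻¹ * (u * x' * u⁻¹)⁻¹ := by group
      rw [e, hux', hux2]
      have h2 : x' * x * x'⁻¹ ∈ W := (mem_normalizer_iff.1 (hMW hxu) x).1 hxW
      exact mul_mem h2 (inv_mem hxW)
    set d := x * x' with hd'
    have hdu : u * d = d * u := by
      refine mul_inv_eq_iff_eq_mul.1 ?_
      calc u * d * u⁻¹ = (u * x * u⁻¹) * (u * x' * u⁻¹) := by rw [hd']; group
        _ = d := by rw [hux', hux2, ← hcomm]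
    have hd1 : d ≠ 1 := fun e => huM (h.core_ti S hl (g := u) hxW hx1 (by
      rw [hux', eq_inv_of_mul_eq_one_right e]; exact inv_mem hxW))
    have hdo : Odd (orderOf d) := by
      refine ((h.strongly_embedded S hl).2.2 u huM).of_dvd_nat (orderOf_dvd_of_mem ⟨mul_mem hxM hxu, ?_⟩)
      refine ⟨d, mul_mem hxM hxu, ?_⟩
      rw [MulEquiv.coe_toMonoidHom, MulAut.conj_apply, hdu, mul_inv_cancel_right]
    obtain ⟨c, hc⟩ := h.exists_conj_mem S hu
    have hc1 : c * u * c⁻¹ ≠ 1 := h.conj_ne_one (CfsgLib.Signalizer.involution_ne_one hu)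
    have hdC : c * d * c⁻¹ ∈ centralizer ((S : Subgroup G) : Set G) := hcent _ hc hc1 (by
      refine mem_centralizer_singleton_iff.2 ?_
      calc c * d * c⁻¹ * (c * u * c⁻¹) = c * (d * u) * c⁻¹ := by group
        _ = c * (u * d) * c⁻¹ := by rw [hdu]
        _ = c * u * c⁻¹ * (c * d * c⁻¹) := by group)
    have hdW := hCW _ hdC (by rwa [CfsgLib.Signalizer.orderOf_conj])
    have hcx : c * x * c⁻¹ ∈ M := h.centralizer_le_of_core S hl hdW (h.conj_ne_one hd1) (by
      refine mem_centralizer_singleton_iff.2 ?_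
      have hxd : x * d = d * x := by rw [hd', ← mul_assoc, mul_assoc x x' x, ← hcomm, mul_assoc]
      calc c * x * c⁻¹ * (c * d * c⁻¹) = c * (x * d) * c⁻¹ := by group
        _ = c * (d * x) * c⁻¹ := by rw [hxd]
        _ = _ := by group)
    -- `[x, u]` lies in both a conjugate of `S` and the odd intersection
    have h3 : c * x * c⁻¹ * (c * u * c⁻¹) * (c * x * c⁻¹)⁻¹ * (c * u * c⁻¹)⁻¹ ∈ (S : Subgroup G) :=
      mul_mem ((mem_normalizer_iff.1 hcx _).1 hc) (inv_mem hc)
    have e3 : c * x * c⁻¹ * (c * u * c⁻¹) * (c * x * c⁻¹)⁻¹ * (c * u * c⁻¹)⁻¹ = c * (x * x'⁻¹) * c⁻¹ := by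
      calc c * x * c⁻¹ * (c * u * c⁻¹) * (c * x * c⁻¹)⁻¹ * (c * u * c⁻¹)⁻¹
          = c * (x * (u * x⁻¹ * u⁻¹)) * c⁻¹ := by group
        _ = c * (x * x'⁻¹) * c⁻¹ := by rw [hx']; group
    rw [e3] at h3
    have hxx : Odd (orderOf (c * (x * x'⁻¹) * c⁻¹)) := by
      rw [CfsgLib.Signalizer.orderOf_conj]
      refine ((h.strongly_embedded S hl).2.2 u huM).of_dvd_nat
        (orderOf_dvd_of_mem ⟨M.mul_mem hxM (M.inv_mem hxu), ?_⟩)
      refine ⟨u * (x * x'⁻¹) * u⁻¹, ?_, ?_⟩
      · have e : u * (x * x'⁻¹) * u⁻¹ = (u * x * u⁻¹) * (u * x' * u⁻¹)⁻¹ := by group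
        rw [e, hux', hux2]
        exact mul_mem hxu (M.inv_mem hxM)
      · calc (MulAut.conj u).toMonoidHom (u * (x * x'⁻¹) * u⁻¹) = (u * u) * (x * x'⁻¹) * (u * u)⁻¹ := by
              rw [MulEquiv.coe_toMonoidHom, MulAut.conj_apply]; group
          _ = x * x'⁻¹ := by rw [huu]; group
    have h4 := h.eq_one_of_odd S h3 hxx
    have h5 : x * x'⁻¹ = 1 := by
      have := congrArg (fun z => c⁻¹ * z * c) h4
      simpa [mul_assoc] using this
    refine huM (h.core_ti S hl (g := u) hxW hx1 ?_)
    rw [hux', ← mul_inv_eq_one.1 h5]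
    exact hxW
  have hswap : ∀ g ∉ M, ∃ u : G, orderOf u = 2 ∧ u ∉ M ∧ g⁻¹ * u ∈ M := by
    intro g hg
    refine h.exists_swap S hl hd.card_S (fun u hu huM => ?_) hg
    rw [← hd.card_A]
    refine Nat.card_le_card_of_injective
      (fun d => (⟨act S ⟨d.1, d.2.1⟩, _, rfl⟩ : (act S).range)) fun d e hde => ?_
    have h1 : act S ⟨d.1, d.2.1⟩ = act S ⟨e.1, e.2.1⟩ := congrArg Subtype.val hde
    have h2 : act S ⟨d.1⁻¹ * e.1, mul_mem (inv_mem d.2.1) e.2.1⟩ = 1 := by
      rw [show (⟨d.1⁻¹ * e.1, mul_mem (inv_mem d.2.1) e.2.1⟩ : M) = ⟨d.1, d.2.1⟩⁻¹ * ⟨e.1, e.2.1⟩ from rfl,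
        map_mul, map_inv, h1, inv_mul_cancel]
    refine Subtype.ext (inv_mul_eq_one.1 (hDW u hu huM _ (mul_mem (inv_mem d.2.1) e.2.1) ?_ ((hact _ _).1 h2)))
    have e2 : u * (d.1⁻¹ * e.1) * u = (u * d.1 * u)⁻¹ * (u * e.1 * u) := by
      calc u * (d.1⁻¹ * e.1) * u = u * d.1⁻¹ * 1 * e.1 * u := by group
        _ = u * d.1⁻¹ * (u * u) * e.1 * u := by rw [CfsgLib.Signalizer.involution_sq hu]
        _ = (u * d.1⁻¹ * u) * (u * e.1 * u) := by group
        _ = _ := by rw [mul_inv_rev, mul_inv_rev, CfsgLib.Signalizer.involution_inv hu]; group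
    rw [e2]
    exact mul_mem (inv_mem d.2.2.1) e.2.2.1
  -- `O(C(S))` meets other conjugates of `N(S)` trivially
  have hWM : ∀ g ∉ M, ∀ x ∈ W, g⁻¹ * x * g ∈ M → x = 1 := by
    intro g hg x hx hgx
    obtain ⟨u, hu, huM, hgu⟩ := hswap g hg
    refine hDW u hu huM x (centralizer_le_normalizer _ (core_le _ hx)) ?_ (core_le _ hx)
    have e : u * x * u = (g⁻¹ * u)⁻¹ * (g⁻¹ * x * g) * (g⁻¹ * u) := by
      rw [mul_inv_rev, inv_inv, CfsgLib.Signalizer.involution_inv hu]
      group
    rw [e]
    exact mul_mem (mul_mem (inv_mem hgu) hgx) hgu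
  -- a `q`-element commuting with an involution
  obtain ⟨t, x₀, ht, hx₀, htx⟩ := h.exists_pair
  obtain ⟨c, hc⟩ := h.exists_conj_mem S ht
  have hx₀W : c * x₀ * c⁻¹ ∈ W := by
    refine hCW _ (hcent _ hc (h.conj_ne_one (CfsgLib.Signalizer.involution_ne_one ht))
      (mem_centralizer_singleton_iff.2 ?_)) (by rw [CfsgLib.Signalizer.orderOf_conj, hx₀]; exact h.odd_q)
    calc c * x₀ * c⁻¹ * (c * t * c⁻¹) = c * (x₀ * t) * c⁻¹ := by group
      _ = c * (t * x₀) * c⁻¹ := by rw [htx.eq]
      _ = _ := by group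
  have hx₀1 : c * x₀ * c⁻¹ ≠ 1 := h.conj_ne_one (fun e => by
    rw [e, orderOf_one] at hx₀; exact h.prime.one_lt.ne hx₀)
  have hWp : IsPGroup q W := h.core_centralizer_isPGroup S
  by_cases hqr : q = r
  · -- an element transitive on `S` fixing an element of `O(C(S))`
    obtain ⟨u, hu, huM⟩ := h.exists_outside S hl
    have huu : u * u = 1 := CfsgLib.Signalizer.involution_sq hu
    have hui : u⁻¹ = u := CfsgLib.Signalizer.involution_inv hu
    obtain ⟨a, ha, ha1⟩ := (Subgroup.bot_or_exists_ne_one (S : Subgroup G)).resolve_left (h.ne_bot S)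
    obtain ⟨b, hb, hb1, hba⟩ : ∃ b ∈ (S : Subgroup G), b ≠ 1 ∧ b ≠ a := by
      by_contra hcon
      push Not at hcon
      have hle : (S : Subgroup G) ≤ zpowers a := fun b hb => by
        by_cases hb1 : b = 1
        · rw [hb1]; exact one_mem _
        · rw [hcon b hb hb1]; exact mem_zpowers a
      have := card_le_of_le hle
      rw [Nat.card_zpowers, h.orderOf_of_mem S ha ha1] at this
      have := h.four_le S
      omega
    obtain ⟨y, hy, hyu, hyab⟩ := h.transitive_inter S hl hu huM ha ha1 hb hb1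
    have hyC : y ∉ centralizer ((S : Subgroup G) : Set G) := fun e => hba (by
      rw [← hyab, ← mem_centralizer_iff.1 e a ha, mul_inv_cancel_right])
    have hy1 : y ≠ 1 := fun e => hyC (e ▸ one_mem _)
    have hyo : Odd (orderOf y) := by
      exact ((h.strongly_embedded S hl).2.2 u huM).of_dvd_nat (orderOf_dvd_of_mem (mem_inf_conj hu hy hyu))
    have hyp := h.odd_prime hyo hy1
    have hyq : orderOf y = q := by
      have h1 : orderOf (act S ⟨y, hy⟩) ∣ orderOf y := by
        rw [← Subgroup.orderOf_mk y hy]; exact orderOf_map_dvd _ _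
      have h2 : orderOf (act S ⟨y, hy⟩) ≠ 1 := fun e => hyC ((hact y hy).1 (orderOf_eq_one_iff.1 e))
      have h3 : orderOf (act S ⟨y, hy⟩) ∣ r := by
        rw [← hd.card_A, ← Subgroup.orderOf_mk (act S ⟨y, hy⟩) (show act S ⟨y, hy⟩ ∈ (act S).range from ⟨_, rfl⟩)]
        exact orderOf_dvd_natCard _
      rw [((Nat.dvd_prime hd.prime).1 h3).resolve_left h2, ← hqr] at h1
      exact ((Nat.prime_dvd_prime_iff_eq h.prime hyp).1 h1).symm
    set Q := centralizer ({y} : Set G) with hQ
    have hQp : IsPGroup q Q := by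
      rw [IsPGroup.iff_orderOf]
      intro z
      have hz : Odd (orderOf (z : G)) := by
        rw [← Nat.not_even_iff_odd, even_iff_two_dvd]
        intro hd2
        have ht' : orderOf ((z : G) ^ (orderOf (z : G) / 2)) = 2 :=
          orderOf_pow_orderOf_div (orderOf_pos _).ne' hd2
        obtain ⟨e, he⟩ := h.exists_conj_mem S ht'
        have hye : e * y * e⁻¹ ∈ W := by
          refine hCW _ (hcent _ he (h.conj_ne_one (CfsgLib.Signalizer.involution_ne_one ht'))
            (mem_centralizer_singleton_iff.2 ?_)) (by rwa [CfsgLib.Signalizer.orderOf_conj])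
          have hzy : Commute ((z : G) ^ (orderOf (z : G) / 2)) y :=
            (show Commute (z : G) y from mem_centralizer_singleton_iff.1 z.2).pow_left _
          calc e * y * e⁻¹ * (e * (z : G) ^ (orderOf (z : G) / 2) * e⁻¹)
              = e * (y * (z : G) ^ (orderOf (z : G) / 2)) * e⁻¹ := by group
            _ = e * ((z : G) ^ (orderOf (z : G) / 2) * y) * e⁻¹ := by rw [hzy.eq]
            _ = _ := by group
        by_cases heM : e ∈ M
        · refine hyC (core_le _ ?_)
          have h9 := (mem_normalizer_iff''.1 (hMW heM) _).1 hye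
          rw [show e⁻¹ * (e * y * e⁻¹) * e = y by group] at h9
          exact h9
        · exact h.conj_ne_one hy1 (hWM e heM _ hye (by rw [show e⁻¹ * (e * y * e⁻¹) * e = y by group]; exact hy))
      by_cases hz1 : (z : G) = 1
      · exact ⟨0, by rw [← orderOf_coe, hz1, orderOf_one, pow_zero]⟩
      refine ⟨1, ?_⟩
      rw [pow_one, ← orderOf_coe]
      exact (h.eq_q_of_commute_q hyq (h.odd_prime hz hz1) rfl
        (show Commute y (z : G) from (mem_centralizer_singleton_iff.1 z.2).symm)).resolve_left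
        fun e => by rw [e] at hz; exact absurd hz (by decide)
    have hfix : ∀ w, w ∈ normalizer (W : Set G) → orderOf w = q → ∃ x ∈ W, x ≠ 1 ∧ w * x = x * w := by
      intro w hw hwq
      haveI : Fact q.Prime := ⟨h.prime⟩
      have hT : IsPGroup q ↥(zpowers w ⊔ W) :=
        (IsPGroup.of_card (n := 1) (by rw [Nat.card_zpowers, hwq, pow_one])).to_sup_of_normal_right' hWp
          (zpowers_le.2 hw)
      haveI hn : (W.subgroupOf (zpowers w ⊔ W)).Normal :=
        normal_subgroupOf_of_le_normalizer (sup_le (zpowers_le.2 hw) le_normalizer)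
      have hne : W.subgroupOf (zpowers w ⊔ W) ≠ ⊥ := by
        rw [Ne, subgroupOf_eq_bot, disjoint_iff, inf_eq_left.2 le_sup_right]
        exact fun e => hx₀1 (mem_bot.1 (e ▸ hx₀W))
      have hne' := CfsgLib.PGroups.inf_center_ne_bot hT hne
      obtain ⟨⟨z, hzmem⟩, ⟨hzW, hzZ⟩, hz1⟩ := (Subgroup.bot_or_exists_ne_one _).resolve_left hne'
      refine ⟨z, mem_subgroupOf.1 hzW, fun e => hz1 (Subtype.ext e), ?_⟩
      exact congrArg Subtype.val (mem_center_iff.1 hzZ ⟨w, mem_sup_left (mem_zpowers w)⟩)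
    have hQM : ¬ Q ≤ M := by
      intro hle
      obtain ⟨x, hx, hx1, hxy⟩ := hfix (u * y * u) (hMW hyu)
        (by
          have := CfsgLib.Signalizer.orderOf_conj u y
          rw [hui] at this
          rw [this, hyq])
      have hmem : u * x * u ∈ Q := by
        refine mem_centralizer_singleton_iff.2 ?_
        calc u * x * u * y = u * (x * (u * y * u)) * u := by
              simp only [mul_assoc, huu, mul_one]
          _ = u * ((u * y * u) * x) * u := by rw [hxy]
          _ = y * (u * x * u) := by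
              simp only [mul_assoc]
              rw [← mul_assoc u u, huu, one_mul]
      refine hx1 (hWM u huM x hx ?_)
      rw [hui]
      exact hle hmem
    obtain ⟨x, hx, hx1, hxy⟩ := hfix y (hMW hy) hyq
    have hxQ : x ∈ Q := mem_centralizer_singleton_iff.2 hxy.symm
    haveI := hQp.isNilpotent
    have hlt : (Q ⊓ M).subgroupOf Q < ⊤ := lt_top_iff_ne_top.2 fun e =>
      hQM ((subgroupOf_eq_top.1 e).trans inf_le_right)
    obtain ⟨g, hg, hgn⟩ := SetLike.exists_of_lt (Group.normalizerCondition_of_isNilpotent _ hlt)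
    have hgM : (g : G) ∉ M := fun e => hgn ⟨g.2, e⟩
    refine hx1 (hWM g hgM x hx ?_)
    have h5 := (mem_normalizer_iff''.1 hg (⟨x, hxQ⟩ : Q)).1
      ⟨hxQ, centralizer_le_normalizer _ (core_le _ hx)⟩
    exact (mem_subgroupOf.1 h5).2
  · -- centralisers are nilpotent
    have hnilC : Group.IsNilpotent ↥(centralizer ((S : Subgroup G) : Set G)) := by
      haveI : Fact (Nat.Prime 2) := ⟨Nat.prime_two⟩
      haveI hSn : Group.IsNilpotent ↥(S : Subgroup G) := S.2.isNilpotent
      haveI hWn : Group.IsNilpotent ↥W := hWp.isNilpotent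
      have hcomm : ∀ (s : (S : Subgroup G)) (w : W), Commute (s : G) (w : G) := fun s w =>
        mem_centralizer_iff.1 (core_le _ w.2) s s.2
      let f : ↥(S : Subgroup G) × ↥W →* G := MonoidHom.noncommCoprod (S : Subgroup G).subtype W.subtype hcomm
      have hsurj : centralizer ((S : Subgroup G) : Set G) ≤ f.range := by
        intro g hg
        by_cases hgo : Odd (orderOf g)
        · refine ⟨(1, ⟨g, hCW g hg hgo⟩), ?_⟩
          show (1 : G) * g = g
          rw [one_mul]
        have hg1 : g ≠ 1 := fun e => hgo (by rw [e]; simp)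
        have hgM : g ∈ M := centralizer_le_normalizer _ hg
        rcases h.ord g hg1 with hp | hp
        · have hgS := h.mem_of_invol S hl hgM (hp.eq_two_or_odd'.resolve_right hgo)
          refine ⟨(⟨g, hgS⟩, 1), ?_⟩
          show g * (1 : G) = g
          rw [mul_one]
        · obtain ⟨m, hm⟩ : Even (q + 1) := h.odd_q.add_one
          have hgq : g ^ q ∈ (S : Subgroup G) := h.mem_of_involution S (pow_mem hgM _)
            (by rw [← pow_add, ← two_mul, ← hp, pow_orderOf_eq_one])
          have hgo' : Odd (orderOf (g ^ (q + 1))) := by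
            refine (h.odd_q).of_dvd_nat (orderOf_dvd_of_pow_eq_one ?_)
            rw [← pow_mul, show (q + 1) * q = (2 * q) * m by rw [hm]; ring, pow_mul, ← hp, pow_orderOf_eq_one,
              one_pow]
          refine ⟨(⟨g ^ q, hgq⟩, ⟨g ^ (q + 1), hCW _ (pow_mem hg _) hgo'⟩), ?_⟩
          show g ^ q * g ^ (q + 1) = g
          rw [← pow_add, show q + (q + 1) = 2 * q + 1 by ring, pow_succ, ← hp, pow_orderOf_eq_one, one_mul]
      have hle : f.range ≤ centralizer ((S : Subgroup G) : Set G) := by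
        rintro _ ⟨⟨s, w⟩, rfl⟩
        exact mul_mem (h.le_centralizer_self S s.2) (core_le _ w.2)
      have : Group.IsNilpotent f.range := Group.nilpotent_of_surjective f.rangeRestrict f.rangeRestrict_surjective
      rwa [le_antisymm hle hsurj] at this
    have hsub : ∀ {X Y : Subgroup G}, X ≤ Y → Group.IsNilpotent Y → Group.IsNilpotent X := fun hXY hY => by
      haveI := hY
      exact Group.nilpotent_of_mulEquiv (subgroupOfEquivOfLe hXY)
    have hconjnil : ∀ (c z : G), c * z * c⁻¹ ≠ 1 →
        centralizer ({c * z * c⁻¹} : Set G) ≤ centralizer ((S : Subgroup G) : Set G) →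
        Group.IsNilpotent ↥(centralizer ({z} : Set G)) := by
      intro c z hz hle
      have hmap : (centralizer ({z} : Set G)).map (MulAut.conj c).toMonoidHom ≤
          centralizer ((S : Subgroup G) : Set G) := by
        rintro _ ⟨w, hw, rfl⟩
        refine hle (mem_centralizer_singleton_iff.2 ?_)
        rw [MulEquiv.coe_toMonoidHom, MulAut.conj_apply]
        have hw' : w * z = z * w := mem_centralizer_singleton_iff.1 hw
        calc c * w * c⁻¹ * (c * z * c⁻¹) = c * (w * z) * c⁻¹ := by group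
          _ = c * (z * w) * c⁻¹ := by rw [hw']
          _ = _ := by group
      haveI := hsub hmap hnilC
      exact Group.nilpotent_of_mulEquiv (equivMapOfInjective (centralizer ({z} : Set G)) (MulAut.conj c).toMonoidHom
        (MulAut.conj c).injective).symm
    have hprime : ∀ z : G, (orderOf z).Prime → Group.IsNilpotent ↥(centralizer ({z} : Set G)) := by
      intro z hz
      by_cases hz2 : orderOf z = 2
      · obtain ⟨c, hc⟩ := h.exists_conj_mem S hz2
        have hc1 := h.conj_ne_one (g := c) (CfsgLib.Signalizer.involution_ne_one hz2)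
        exact hconjnil c z hc1 (hcent _ hc hc1)
      by_cases heven : 2 ∣ Nat.card (centralizer ({z} : Set G))
      · haveI : Fact (Nat.Prime 2) := ⟨Nat.prime_two⟩
        obtain ⟨⟨t', ht'z⟩, ht'⟩ := exists_prime_orderOf_dvd_card' 2 heven
        rw [Subgroup.orderOf_mk] at ht'
        obtain ⟨c, hc⟩ := h.exists_conj_mem S ht'
        have hzo : Odd (orderOf z) := hz.eq_two_or_odd'.resolve_left hz2
        have hz1 : z ≠ 1 := fun e => by rw [e, orderOf_one] at hz; exact Nat.not_prime_one hz
        have hzW : c * z * c⁻¹ ∈ W := by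
          refine hCW _ (hcent _ hc (h.conj_ne_one (CfsgLib.Signalizer.involution_ne_one ht'))
            (mem_centralizer_singleton_iff.2 ?_)) (by rwa [CfsgLib.Signalizer.orderOf_conj])
          have htz : t' * z = z * t' := mem_centralizer_singleton_iff.1 ht'z
          calc c * z * c⁻¹ * (c * t' * c⁻¹) = c * (z * t') * c⁻¹ := by group
            _ = c * (t' * z) * c⁻¹ := by rw [htz]
            _ = _ := by group
        have hzW1 := h.conj_ne_one (g := c) hz1
        refine hconjnil c z hzW1 fun g hg => ?_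
        have hgM := h.centralizer_le_of_core S hl hzW hzW1 hg
        by_contra hgC
        have hgne : act S ⟨g, hgM⟩ ≠ 1 := fun e => hgC ((hact g hgM).1 e)
        have hgord : orderOf (act S ⟨g, hgM⟩) = r := by
          have h3 : orderOf (act S ⟨g, hgM⟩) ∣ r := by
            rw [← hd.card_A, ← Subgroup.orderOf_mk (act S ⟨g, hgM⟩) (show act S ⟨g, hgM⟩ ∈ (act S).range from ⟨_, rfl⟩)]
            exact orderOf_dvd_natCard _
          exact ((Nat.dvd_prime hd.prime).1 h3).resolve_left fun e => hgne (orderOf_eq_one_iff.1 e)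
        have hgg : orderOf (act S ⟨g, hgM⟩) ∣ orderOf g := by
          rw [← Subgroup.orderOf_mk g hgM]; exact orderOf_map_dvd _ _
        rw [hgord] at hgg
        have ho : orderOf (g ^ (orderOf g / r)) = r := orderOf_pow_orderOf_div (orderOf_pos g).ne' hgg
        have hwq : orderOf (c * z * c⁻¹) = q := orderOf_eq_prime
          (h.pow_q_eq_one (Or.inl ht') (mem_centralizer_singleton_iff.1 ht'z).symm.symm hzo |> fun e => by
            rw [conj_pow, e, mul_one, mul_inv_cancel]) hzW1
        rcases h.eq_q_of_commute_q hwq hd.prime ho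
          ((show Commute (c * z * c⁻¹) g from (mem_centralizer_singleton_iff.1 hg).symm).pow_right _) with e | e
        · omega
        · exact hqr e.symm
      · haveI : Fact (orderOf z).Prime := ⟨hz⟩
        refine (show IsPGroup (orderOf z) ↥(centralizer ({z} : Set G)) from ?_).isNilpotent
        rw [IsPGroup.iff_orderOf]
        intro w
        have hwo : Odd (orderOf w) := (Nat.not_even_iff_odd.1 fun e => heven (even_iff_two_dvd.1 e)).of_dvd_nat
          (orderOf_dvd_natCard w)
        by_cases hw1 : w = 1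
        · exact ⟨0, by rw [hw1, orderOf_one, pow_zero]⟩
        refine ⟨1, ?_⟩
        rw [pow_one, ← orderOf_coe]
        rw [← orderOf_coe] at hwo
        have hwp := h.odd_prime hwo (fun e => hw1 (Subtype.ext e))
        by_contra hne
        have h6 := h.orders_of_commute hz hwp rfl rfl
          (show Commute z (w : G) from (mem_centralizer_singleton_iff.1 w.2).symm) (Ne.symm hne)
        have h7 := (hz.eq_two_or_odd'.resolve_left hz2).mul hwo
        rw [h6] at h7
        exact Nat.not_even_iff_odd.2 h7 (even_two_mul q)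
    have hCN : Cfsg.IsCNGroup G := by
      intro g hg
      obtain ⟨p, hp, hpd⟩ := Nat.exists_prime_and_dvd (fun e => hg (orderOf_eq_one_iff.1 e))
      have hz : orderOf (g ^ (orderOf g / p)) = p := orderOf_pow_orderOf_div (orderOf_pos g).ne' hpd
      refine hsub (fun w hw => mem_centralizer_singleton_iff.2 ?_) (hprime _ (hz ▸ hp))
      exact ((show Commute w g from mem_centralizer_singleton_iff.1 hw).pow_right _).eq
    haveI := h.simple
    obtain ⟨hCIT, -⟩ := CfsgLib.CIT.cn_simple h.hna hCN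
    obtain ⟨k, hk⟩ := hCIT t ht ⟨x₀, mem_centralizer_singleton_iff.2 htx.symm.eq⟩
    have hd1 : orderOf x₀ ∣ 2 ^ k := orderOf_dvd_of_pow_eq_one (congrArg Subtype.val hk)
    rw [hx₀] at hd1
    exact h.two_ne ((Nat.prime_dvd_prime_iff_eq h.prime Nat.prime_two).1 (h.prime.dvd_of_dvd_pow hd1))

end Hyp

end CfsgLib.Known.OneComposite
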