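import Cfsg.Agent.Lib.Known.OneComposite.Two
import Cfsg.Agent.Lib.Known.OneComposite.Regular
import Cfsg.Agent.Lib.Known.OneComposite.Frob2

/-!
Owner: helper26. A simple group whose only composite element order is `2 q` is `PSL(2, F)` with `F` of odd order.
-/

set_option autoImplicit false
set_option linter.all false

namespace CfsgLib.Known.OneComposite

open Subgroup

variable {G : Type*} [Group G] [Finite G]

/-- Simple groups whose only composite element order is `2 q`. -/
theorem Hyp.psl {q : ℕ} (h : Hyp q G) :
    ∃ (F : Type) (_ : Field F) (_ : Fintype F), Odd (Fintype.card F) ∧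
      Nonempty (G ≃* Matrix.ProjectiveSpecialLinearGroup (Fin 2) F) := by
  haveI : Fact (Nat.Prime 2) := ⟨Nat.prime_two⟩
  let S : Sylow 2 G := Classical.arbitrary _
  have h4 := h.four_le S
  obtain ⟨k, hk⟩ := S.2.exists_card_eq
  have hcases : (Nat.card (S : Subgroup G) = 4 ∧ core (centralizer ((S : Subgroup G) : Set G)) = ⊥) ∨
      (core (centralizer ((S : Subgroup G) : Set G)) ≠ ⊥ ∨ 8 ≤ Nat.card (S : Subgroup G)) := by
    by_cases hW : core (centralizer ((S : Subgroup G) : Set G)) = ⊥
    · rcases (show k ≤ 2 ∨ 3 ≤ k by omega) with hle | hle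
      · refine Or.inl ⟨le_antisymm ?_ h4, hW⟩
        rw [hk]
        exact le_trans (Nat.pow_le_pow_right two_pos hle) (le_of_eq (by norm_num))
      · refine Or.inr (Or.inr ?_)
        rw [hk]
        exact le_trans (le_of_eq (by norm_num)) (Nat.pow_le_pow_right two_pos hle)
    · exact Or.inr (Or.inl hW)
  rcases hcases with ⟨h4', hW⟩ | hcase
  · exact h.exists_psl S h4' hW
  · have hl : Loc S := fun a ha ha1 => h.centralizer_le_normalizer' S hcase ha ha1
    obtain ⟨r, hd | ⟨R, b, a, hd⟩⟩ := h.automizer_cases S hl
    · exact (h.regular_false S hl hd).elim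
    · exact (h.frob_false S hl hd).elim

end CfsgLib.Known.OneComposite
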