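import Cfsg.Agent.Lib.Known.OneComposite.Local

/-!
Owner: helper26. Either `S` is a four group and `O(C(S)) = 1`, or every involution of `S` has its
centraliser in `N(S)`.
-/

set_option autoImplicit false
set_option linter.all false

namespace CfsgLib.Known.OneComposite

open Subgroup

variable {G : Type*} [Group G] [Finite G]

theorem map_core_of_conj (X Y : Subgroup G) (g : G) (hXY : ∀ x, x ∈ Y ↔ g⁻¹ * x * g ∈ X) {x : G}
    (hx : x ∈ core X) : g * x * g⁻¹ ∈ core Y := by
  obtain ⟨x', hx', rfl⟩ := hx
  let e : X ≃* Y :=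
    { toFun := fun a => ⟨g * a * g⁻¹, (hXY _).2 (by simpa [mul_assoc] using a.2)⟩
      invFun := fun a => ⟨g⁻¹ * a * g, (hXY _).1 a.2⟩
      left_inv := fun a => Subtype.ext (by simp [mul_assoc])
      right_inv := fun a => Subtype.ext (by simp [mul_assoc])
      map_mul' := fun a b => Subtype.ext (by simp [mul_assoc]) }
  refine ⟨e x', ?_, rfl⟩
  have h1 : (Cfsg.oddCore ↥X).map e.toMonoidHom ≤ Cfsg.oddCore ↥Y := by
    haveI := CfsgLib.Core.normal_pPrimeCore 2 X
    haveI : ((Cfsg.oddCore ↥X).map e.toMonoidHom).Normal :=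
      (inferInstance : (Cfsg.oddCore ↥X).Normal).map e.toMonoidHom e.surjective
    refine CfsgLib.Core.le_pPrimeCore ?_
    haveI : Fact (Nat.Prime 2) := ⟨Nat.prime_two⟩
    rw [card_map_of_injective e.injective]
    exact CfsgLib.Core.coprime_card_pPrimeCore 2 X
  exact h1 ⟨x', hx', rfl⟩

namespace Hyp

variable {q : ℕ} (h : Hyp q G) (S : Sylow 2 G)
include h

/-- `O(C(S))`. -/
theorem core_centralizer_isPGroup : IsPGroup q (core (centralizer ((S : Subgroup G) : Set G))) := by
  obtain ⟨a, ha, ha1⟩ := (Subgroup.bot_or_exists_ne_one (S : Subgroup G)).resolve_left (h.ne_bot S)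
  exact h.isPGroup_of_odd (z := a) (Or.inl (h.orderOf_of_mem S ha ha1))
    ((core_le _).trans (centralizer_le (Set.singleton_subset_iff.2 ha))) (card_core _)

theorem le_normalizer_centralizer {X : Subgroup G}
    (hX : X ≤ centralizer ((S : Subgroup G) : Set G)) : (S : Subgroup G) ≤ centralizer (X : Set G) :=
  fun s hs => mem_centralizer_iff.2 fun x hx => (mem_centralizer_iff.1 (hX hx) s hs).symm

theorem normalizer_core_le (hW : core (centralizer ((S : Subgroup G) : Set G)) ≠ ⊥) :
    normalizer ((core (centralizer ((S : Subgroup G) : Set G)) : Subgroup G) : Set G) ≤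
      normalizer ((S : Subgroup G) : Set G) := by
  set W := core (centralizer ((S : Subgroup G) : Set G)) with hWd
  haveI : Fact q.Prime := ⟨h.prime⟩
  obtain ⟨x, hx, hx1⟩ := W.bot_or_exists_ne_one.resolve_left hW
  have hxq : orderOf x = q := by
    obtain ⟨a, ha, ha1⟩ := (Subgroup.bot_or_exists_ne_one (S : Subgroup G)).resolve_left (h.ne_bot S)
    refine orderOf_eq_prime ?_ hx1
    exact h.pow_q_eq_one (Or.inl (h.orderOf_of_mem S ha ha1))
      (mem_centralizer_iff.1 (core_le _ hx) a ha) ((card_core _).of_dvd_nat (orderOf_dvd_of_mem hx))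
  set X := centralizer (W : Set G) with hXd
  have hXx : X ≤ centralizer ({x} : Set G) := centralizer_le (Set.singleton_subset_iff.2 hx)
  have hSX : (S : Subgroup G) ≤ X := h.le_normalizer_centralizer S (core_le _)
  have hNW : normalizer ((S : Subgroup G) : Set G) ≤ normalizer (W : Set G) :=
    (CfsgLib.Signalizer.normalizer_le_normalizer_centralizer_set _).trans (normalizer_le_normalizer_core _)
  have hP : IsPGroup q (core X) := h.isPGroup_of_odd (Or.inr hxq) ((core_le _).trans hXx) (card_core _)
  have hNP : normalizer ((S : Subgroup G) : Set G) ≤ normalizer (core X : Set G) :=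
    hNW.trans ((CfsgLib.Signalizer.normalizer_le_normalizer_centralizer_set _).trans
      (normalizer_le_normalizer_core _))
  have hPC := h.centralizes_invariant S hP hNP
  have hXN : X ≤ normalizer ((S : Subgroup G) : Set G) := by
    refine (h.le_core_sup S (Or.inr hxq) hXx hSX).trans (sup_le (le_trans ?_ (centralizer_le_normalizer _)) inf_le_right)
    exact fun y hy => mem_centralizer_iff.2 fun s hs => (mem_centralizer_iff.1 (hPC hs) y hy).symm
  intro g hg
  have key : ∀ g ∈ normalizer (W : Set G), ∀ s ∈ (S : Subgroup G), g * s * g⁻¹ ∈ (S : Subgroup G) := by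
    intro g hg s hs
    refine h.mem_of_involution S (hXN ((mem_normalizer_iff.1
      (CfsgLib.Signalizer.normalizer_le_normalizer_centralizer_set _ hg) s).1 (hSX hs))) ?_
    rw [show g * s * g⁻¹ * (g * s * g⁻¹) = g * (s * s) * g⁻¹ by group, h.mul_self_of_mem S hs]
    group
  rw [mem_normalizer_iff]
  intro s
  refine ⟨key g hg s, fun hs => ?_⟩
  have := key g⁻¹ (inv_mem hg) _ hs
  simpa [mul_assoc] using this

theorem balance {a b : G} (ha : a ∈ (S : Subgroup G)) (ha1 : a ≠ 1) (hb : b ∈ (S : Subgroup G)) (hb1 : b ≠ 1) :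
    core (centralizer ({a} : Set G)) ⊓ centralizer ({b} : Set G) ≤ core (centralizer ({b} : Set G)) := by
  refine h.le_core S (Or.inl (h.orderOf_of_mem S hb hb1)) le_rfl (h.le_centralizer_of_mem S hb) inf_le_right
    ((card_core _).of_dvd_nat (card_dvd_of_le inf_le_left)) ?_
  exact CfsgLib.Signalizer.le_normalizer_inf ((h.le_centralizer_of_mem S ha).trans (le_normalizer_core _))
    ((h.le_centralizer_of_mem S hb).trans le_normalizer)

theorem theta_le_centralizer
    (hcase : core (centralizer ((S : Subgroup G) : Set G)) ≠ ⊥ ∨ 8 ≤ Nat.card (S : Subgroup G))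
    {a : G} (ha : a ∈ (S : Subgroup G)) (ha1 : a ≠ 1) :
    core (centralizer ({a} : Set G)) ≤ centralizer ((S : Subgroup G) : Set G) := by
  haveI : Fact q.Prime := ⟨h.prime⟩
  have hSn : ∀ {b : G}, b ∈ (S : Subgroup G) →
      (S : Subgroup G) ≤ normalizer (core (centralizer ({b} : Set G)) : Set G) := fun hb =>
    (h.le_centralizer_of_mem S hb).trans (le_normalizer_core _)
  set W := core (centralizer ((S : Subgroup G) : Set G)) with hWd
  set O := core (centralizer ({a} : Set G)) with hO
  by_cases hW : W = ⊥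
  · have h8 := hcase.resolve_left (absurd hW)
    let θ : G → Subgroup G := fun b => core (centralizer ({b} : Set G))
    obtain ⟨hodd, hfix⟩ := Cfsg.Agent.S0217.result (p := 2) (S : Subgroup G)
      (fun x hx y hy => h.comm_of_mem S hx hy) (h.elem S).2 (by norm_num; omega) θ
      (fun b _ _ => core_le _) (fun b _ _ => (card_core _).not_two_dvd_nat)
      (fun b hb _ c hc x hx => (mem_normalizer_iff.1 (hSn hb hc) x).1 hx)
      (fun b hb hb1 => h.solvable_centralizer (Or.inl (h.orderOf_of_mem S hb hb1)) (core_le _))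
      (fun b hb hb1 c hc hc1 => h.balance S hb hb1 hc hc1)
    set Wc := ⨆ b : {b : G // b ∈ (S : Subgroup G) ∧ b ≠ 1}, θ b with hWc
    have hconj : ∀ g ∈ normalizer ((S : Subgroup G) : Set G), ∀ x ∈ Wc, g * x * g⁻¹ ∈ Wc := by
      intro g hg x hx
      induction hx using Subgroup.iSup_induction' with
      | hp b y hy =>
        have hb' : g * (b : G) * g⁻¹ ∈ (S : Subgroup G) := (mem_normalizer_iff.1 hg _).1 b.2.1
        have hb1' : g * (b : G) * g⁻¹ ≠ 1 := fun e => b.2.2 (by
          have := congrArg (fun z => g⁻¹ * z * g) e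
          simpa [mul_assoc] using this)
        refine mem_iSup_of_mem ⟨_, hb', hb1'⟩ (map_core_of_conj _ _ g (fun z => ?_) hy)
        simp only [mem_centralizer_singleton_iff]
        constructor <;> intro e
        · calc g⁻¹ * z * g * (b : G) = g⁻¹ * (z * (g * b * g⁻¹)) * g := by group
            _ = g⁻¹ * (g * b * g⁻¹ * z) * g := by rw [e]
            _ = _ := by group
        · calc z * (g * (b : G) * g⁻¹) = g * (g⁻¹ * z * g * b) * g⁻¹ := by group
            _ = g * (b * (g⁻¹ * z * g)) * g⁻¹ := by rw [e]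
            _ = _ := by group
      | h1 => simp
      | hmul y z _ _ hy hz =>
        convert mul_mem hy hz using 1
        group
    have hN : normalizer ((S : Subgroup G) : Set G) ≤ normalizer (Wc : Set G) := fun g hg => by
      rw [mem_normalizer_iff]
      refine fun x => ⟨hconj g hg x, fun hx => ?_⟩
      have := hconj g⁻¹ (inv_mem hg) _ hx
      simpa [mul_assoc] using this
    have hWo : Odd (Nat.card Wc) := Nat.not_even_iff_odd.1 fun he => hodd (even_iff_two_dvd.1 he)
    have hC := h.centralizes_invariant S (h.isPGroup_of_normalized S hWo (le_normalizer.trans hN)) hN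
    intro x hx
    refine mem_centralizer_iff.2 fun s hs => (mem_centralizer_iff.1 (hC hs) x ?_).symm
    exact mem_iSup_of_mem ⟨a, ha, ha1⟩ hx
  · have hWO : W ≤ O := h.le_core S (Or.inl (h.orderOf_of_mem S ha ha1)) le_rfl (h.le_centralizer_of_mem S ha)
      ((core_le _).trans (centralizer_le (Set.singleton_subset_iff.2 ha))) (card_core _)
      ((h.le_normalizer_centralizer S (core_le _)).trans (centralizer_le_normalizer _))
    by_contra hne
    have hlt : W < O := lt_of_le_of_ne hWO fun e => hne (e ▸ core_le _)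
    have hOp : IsPGroup q O := h.isPGroup_of_odd (Or.inl (h.orderOf_of_mem S ha ha1)) (core_le _) (card_core _)
    haveI := hOp.isNilpotent
    have hlt' : W.subgroupOf O < ⊤ := lt_top_iff_ne_top.2 fun e => hlt.not_ge (subgroupOf_eq_top.1 e)
    obtain ⟨y, hy, hyW⟩ := SetLike.exists_of_lt (Group.normalizerCondition_of_isNilpotent _ hlt')
    have hyN : (y : G) ∈ normalizer (W : Set G) := by
      rw [mem_normalizer_iff]
      intro x
      constructor <;> intro hx
      · exact (mem_normalizer_iff.1 hy ⟨x, hWO hx⟩).1 hx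
      · have hxO : x ∈ O := by
          have := O.mul_mem (O.mul_mem (O.inv_mem y.2) (hWO hx)) y.2
          simpa [mul_assoc] using this
        exact (mem_normalizer_iff.1 hy ⟨x, hxO⟩).2 hx
    exact hyW (h.mem_core_centralizer S
      (h.mem_centralizer_of_normalizer S (card_core _) (hSn ha) y.2 (h.normalizer_core_le S hW hyN))
      ((card_core _).of_dvd_nat (orderOf_dvd_of_mem y.2)) (h.ne_bot S))

/-- The centralisers of the involutions of `S` normalise `S`. -/
theorem centralizer_le_normalizer'
    (hcase : core (centralizer ((S : Subgroup G) : Set G)) ≠ ⊥ ∨ 8 ≤ Nat.card (S : Subgroup G))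
    {a : G} (ha : a ∈ (S : Subgroup G)) (ha1 : a ≠ 1) :
    centralizer ({a} : Set G) ≤ normalizer ((S : Subgroup G) : Set G) :=
  (h.le_core_sup S (Or.inl (h.orderOf_of_mem S ha ha1)) le_rfl (h.le_centralizer_of_mem S ha)).trans
    (sup_le ((h.theta_le_centralizer S hcase ha ha1).trans (centralizer_le_normalizer _)) inf_le_right)

end Hyp

end CfsgLib.Known.OneComposite
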