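import Cfsg.Agent.Lib.Known.OneComposite.Embedded

/-!
Owner: helper26. The two possible automizers.
-/

set_option autoImplicit false
set_option linter.all false

namespace CfsgLib.Known.OneComposite

open Subgroup

variable {G : Type*} [Group G] [Finite G]

/-- Regular cyclic automizer of order `r`. -/
structure RegularData (S : Sylow 2 G) (r : ℕ) : Prop where
  prime : r.Prime
  card_S : r + 1 = Nat.card (S : Subgroup G)
  card_A : Nat.card (act S).range = r
  fixed : ∀ g : normalizer ((S : Subgroup G) : Set G), ∀ a : (S : Subgroup G), a ≠ 1 → act S g a = a → act S g = 1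

/-- Automizer `r : q`. -/
structure FrobData (q : ℕ) (S : Sylow 2 G) (R : Subgroup (act S).range) (r : ℕ) (b : (act S).range)
    (a : (S : Subgroup G)) : Prop where
  prime : r.Prime
  ne : q ≠ r
  card_S : r + 1 = Nat.card (S : Subgroup G)
  card_A : Nat.card (act S).range = r * q
  normal : R.Normal
  card_R : Nat.card R = r
  regular : ∀ x y : (S : Subgroup G), x ≠ 1 → y ≠ 1 → ∃! g : (act S).range, g ∈ R ∧ (g : MulAut (S : Subgroup G)) x = y
  order_b : orderOf b = q
  sup : R ⊔ zpowers b = ⊤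
  a_ne : a ≠ 1
  fix_a : (b : MulAut (S : Subgroup G)) a = a
  fix_only : ∀ x : (S : Subgroup G), (b : MulAut (S : Subgroup G)) x = x → x = 1 ∨ x = a
  fpf : ∀ i, 0 < i → i < q → ∀ z ∈ R, b ^ i * z = z * b ^ i → z = 1

namespace Hyp

variable {q : ℕ} (h : Hyp q G) (S : Sylow 2 G) (hl : Loc S)
include h hl

theorem automizer_cases : ∃ r : ℕ, RegularData S r ∨ ∃ R b a, FrobData q S R r b a := by
  classical
  letI : CommGroup (S : Subgroup G) :=
    { (inferInstance : Group (S : Subgroup G)) with mul_comm := (h.elem S).1.is_comm.comm }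
  haveI : Finite (MulAut (S : Subgroup G)) := inferInstance
  obtain ⟨u, hu, huM⟩ := h.exists_outside S hl
  have haut : Aut q ((act S).range.subtype) := by
    refine ⟨Subgroup.subtype_injective _, fun x => Subtype.ext (h.mul_self_of_mem S x.2), h.four_le S, ?_, h.prime,
      fun a b ha hb => ?_, ?_, ?_⟩
    · rw [← Nat.not_even_iff_odd, even_iff_two_dvd]
      intro hd
      haveI : Fact (Nat.Prime 2) := ⟨Nat.prime_two⟩
      obtain ⟨⟨_, g, rfl⟩, hg⟩ := exists_prime_orderOf_dvd_card' 2 hd
      rw [← orderOf_coe] at hg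
      change orderOf (act S g) = 2 at hg
      obtain ⟨g', -, ho, -, hord⟩ := h.exists_preimage S g (fun e => by rw [e, orderOf_one] at hg; norm_num at hg)
      rw [← hord, hg] at ho
      exact absurd ho (by decide)
    · obtain ⟨d, hd, -, hda⟩ := h.transitive_inter S hl hu huM a.2 (fun e => ha (Subtype.ext e)) b.2
        (fun e => hb (Subtype.ext e))
      exact ⟨⟨act S ⟨d, hd⟩, ⟨d, hd⟩, rfl⟩, Subtype.ext hda⟩
    · rintro ⟨_, g, rfl⟩ hne
      rw [← orderOf_coe]
      show (orderOf (act S g)).Prime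
      obtain ⟨g', -, -, hp, hord⟩ := h.exists_preimage S g (fun e => hne (Subtype.ext e))
      rwa [hord]
    · rintro ⟨_, g, rfl⟩ hne a ha hfix
      rw [← orderOf_coe]
      exact h.fix_order S g (fun e => hne (Subtype.ext e)) ha hfix
  obtain ⟨R, r, hr, hRcard, hRn, hrS, hreg, hcase⟩ := haut.structure_thm
  refine ⟨r, ?_⟩
  rcases hcase with hall | ⟨b, a, hb, hqr, hbR, hsup, hcard, ha, hba, honly, hfpf⟩
  · refine Or.inl ⟨hr, hrS, ?_, fun g a ha hga => ?_⟩
    · rw [← hRcard, show R = ⊤ from eq_top_iff.2 fun x _ => hall x, card_top]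
    · obtain ⟨k, -, huniq⟩ := hreg a a ha ha
      have h1 := huniq ⟨act S g, g, rfl⟩ ⟨hall _, hga⟩
      have h2 := huniq 1 ⟨one_mem _, rfl⟩
      exact congrArg Subtype.val (h1.trans h2.symm)
  · exact Or.inr ⟨R, b, a, hr, hqr, hrS, hcard, hRn, hRcard, hreg, hb, hsup, ha, hba, honly, hfpf⟩

end Hyp

end CfsgLib.Known.OneComposite
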