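import Cfsg.Agent.Lib.Known.OneComposite.Reduction
import Cfsg.Agent.S0508

/-!
Owner: helper26. A four group `S` with `O(C(S)) = 1`: the Brauer-Suzuki-Wall hypotheses hold.
-/

set_option autoImplicit false
set_option linter.all false

namespace CfsgLib.Known.OneComposite

open Subgroup

variable {G : Type*} [Group G] [Finite G]

namespace Hyp

variable {q : ℕ} (h : Hyp q G) (S : Sylow 2 G)
include h

/-- An odd element moving an involution of a four group permutes the three involutions cyclically. -/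
theorem cycle (hk : Nat.card (S : Subgroup G) = 4) {y c : G}
    (hy : y ∈ normalizer ((S : Subgroup G) : Set G)) (ho : Odd (orderOf y)) (hc : c ∈ (S : Subgroup G))
    (hne : y * c * y⁻¹ ≠ c) :
    (∀ b ∈ (S : Subgroup G), b ≠ 1 → y * b * y⁻¹ ≠ b) ∧
      ∀ a ∈ (S : Subgroup G), a ≠ 1 → ∃ i : ℕ, y ^ i * c * (y ^ i)⁻¹ = a := by
  classical
  have hmem : ∀ i : ℕ, y ^ i * c * (y ^ i)⁻¹ ∈ (S : Subgroup G) := fun i =>
    (mem_normalizer_iff.1 (pow_mem hy i) c).1 hc
  have hc1 : c ≠ 1 := fun e => hne (by simp [e])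
  have hv0 : y ^ 2 * c * (y ^ 2)⁻¹ ≠ c := by
    intro e
    obtain ⟨m, hm⟩ := exists_pow_eq_self_of_coprime (x := y) (n := 2) (Nat.coprime_two_left.2 ho)
    have hall : ∀ n : ℕ, (y ^ 2) ^ n * c * ((y ^ 2) ^ n)⁻¹ = c := fun n => by
      induction n with
      | zero => simp
      | succ n ih =>
        calc _ = y ^ 2 * ((y ^ 2) ^ n * c * ((y ^ 2) ^ n)⁻¹) * (y ^ 2)⁻¹ := by rw [pow_succ']; group
          _ = c := by rw [ih, e]
    exact hne (hm ▸ hall m)
  have hv1 : y ^ 2 * c * (y ^ 2)⁻¹ ≠ y * c * y⁻¹ := by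
    intro e
    refine hne (?_ : y * c * y⁻¹ = c)
    have h2 := congrArg (fun z => y⁻¹ * z * y) e
    simp only [pow_two] at h2
    simpa [mul_assoc] using h2
  have h1 : ∀ i : ℕ, y ^ i * c * (y ^ i)⁻¹ ≠ 1 := fun i e => hc1 (by
    have := congrArg (fun z => (y ^ i)⁻¹ * z * y ^ i) e
    simpa [mul_assoc] using this)
  have : Fintype (S : Subgroup G) := Fintype.ofFinite _
  let T : Finset (S : Subgroup G) := {1, ⟨c, hc⟩, ⟨_, hmem 1⟩, ⟨_, hmem 2⟩}
  have hT : T = Finset.univ := by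
    refine Finset.eq_univ_of_card _ ?_
    rw [← Nat.card_eq_fintype_card, hk]
    refine Finset.card_eq_four.2 ⟨1, ⟨c, hc⟩, ⟨_, hmem 1⟩, ⟨_, hmem 2⟩, ?_, ?_, ?_, ?_, ?_, ?_, rfl⟩
    · exact fun e => hc1 (congrArg Subtype.val e).symm
    · exact fun e => h1 1 (congrArg Subtype.val e).symm
    · exact fun e => h1 2 (congrArg Subtype.val e).symm
    · exact fun e => hne (by simpa [eq_comm] using congrArg Subtype.val e)
    · exact fun e => hv0 (congrArg Subtype.val e).symm
    · exact fun e => hv1 (by simpa [eq_comm] using congrArg Subtype.val e)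
  have horb : ∀ a ∈ (S : Subgroup G), a ≠ 1 → ∃ i : ℕ, y ^ i * c * (y ^ i)⁻¹ = a := by
    intro a ha ha1
    have hm : (⟨a, ha⟩ : (S : Subgroup G)) ∈ T := hT ▸ Finset.mem_univ _
    simp only [T, Finset.mem_insert, Finset.mem_singleton] at hm
    rcases hm with e | e | e | e
    · exact absurd (congrArg Subtype.val e) ha1
    · exact ⟨0, by simpa using (congrArg Subtype.val e).symm⟩
    · exact ⟨1, (congrArg Subtype.val e).symm⟩
    · exact ⟨2, (congrArg Subtype.val e).symm⟩
  refine ⟨fun b hb hb1 e => ?_, horb⟩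
  obtain ⟨i, hi⟩ := horb b hb hb1
  refine hne ?_
  rw [← hi] at e
  have h2 := congrArg (fun z => (y ^ i)⁻¹ * z * y ^ i) e
  calc y * c * y⁻¹ = (y ^ i)⁻¹ * (y * (y ^ i * c * (y ^ i)⁻¹) * y⁻¹) * y ^ i := by group
    _ = (y ^ i)⁻¹ * (y ^ i * c * (y ^ i)⁻¹) * y ^ i := h2
    _ = c := by group

/-- In a four group a moved involution leaves its hyperplane. -/
theorem moved_hyperplane (hk : Nat.card (S : Subgroup G) = 4) {B : Subgroup G} (hB : B ≤ (S : Subgroup G))
    (hBi : B.relIndex (S : Subgroup G) = 2) {y b : G} (hb : b ∈ B) (hb1 : b ≠ 1) (hne : y * b * y⁻¹ ≠ b) :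
    y * b * y⁻¹ ∉ B := by
  intro hh
  have h2 := relIndex_mul_relIndex ⊥ B (S : Subgroup G) bot_le hB
  rw [relIndex_bot_left, relIndex_bot_left, hBi, hk] at h2
  have hle : zpowers b ≤ B := zpowers_le.2 hb
  have he : zpowers b = B := eq_of_le_of_card_ge hle (by
    rw [Nat.card_zpowers, h.orderOf_of_mem S (hB hb) hb1]; omega)
  obtain ⟨k, hk'⟩ := he.ge hh
  rcases Int.even_or_odd' k with ⟨i, rfl | rfl⟩
  · refine hb1 ?_
    have h3 : y * b * y⁻¹ = 1 := by
      rw [← hk']
      simp [zpow_mul, pow_two, h.mul_self_of_mem S (hB hb)]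
    simpa [mul_assoc] using congrArg (fun z => y⁻¹ * z * y) h3
  · refine hne ?_
    rw [← hk']
    simp [zpow_add, zpow_mul, pow_two, h.mul_self_of_mem S (hB hb)]

/-- Any two involutions of the four group are conjugate by an odd element of `N(S)`. -/
theorem exists_rho (hk : Nat.card (S : Subgroup G) = 4) {t a : G} (ht : t ∈ (S : Subgroup G)) (ht1 : t ≠ 1)
    (ha : a ∈ (S : Subgroup G)) (ha1 : a ≠ 1) :
    ∃ y ∈ normalizer ((S : Subgroup G) : Set G), Odd (orderOf y) ∧ y * t * y⁻¹ = a := by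
  have hcard : Nat.card (zpowers t) = 2 := by rw [Nat.card_zpowers, h.orderOf_of_mem S ht ht1]
  obtain ⟨y, hy, ho, b, hb, hyb⟩ := h.exists_move S (B := zpowers t) (zpowers_le.2 ht) (by
    have h2 := relIndex_mul_relIndex ⊥ (zpowers t) (S : Subgroup G) bot_le (zpowers_le.2 ht)
    rw [relIndex_bot_left, relIndex_bot_left, hcard, hk] at h2
    omega)
  have hne : y * t * y⁻¹ ≠ t := by
    intro e
    refine hyb ?_
    obtain ⟨k, rfl⟩ := hb
    rw [← conj_zpow, e]
    exact zpow_mem (mem_zpowers t) k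
  obtain ⟨-, horb⟩ := h.cycle S hk hy ho ht hne
  obtain ⟨i, hi⟩ := horb a ha ha1
  exact ⟨y ^ i, pow_mem hy i, ho.of_dvd_nat (orderOf_pow_dvd i), hi⟩

theorem eq_one_of_centralizing (hW : core (centralizer ((S : Subgroup G) : Set G)) = ⊥) {x : G}
    (hx : x ∈ centralizer ((S : Subgroup G) : Set G)) (ho : Odd (orderOf x)) : x = 1 :=
  mem_bot.1 (hW ▸ h.mem_core_centralizer S hx ho (h.ne_bot S))

/-- The `S`-invariant `q`-subgroups normalising a nontrivial one lie in a common one. -/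
theorem exists_qgroup_normalizer (hk : Nat.card (S : Subgroup G) = 4)
    (hW : core (centralizer ((S : Subgroup G) : Set G)) = ⊥) {D : Subgroup G} (hD : IsPGroup q D)
    (hD1 : D ≠ ⊥) (hSD : (S : Subgroup G) ≤ normalizer (D : Set G)) :
    ∃ K : Subgroup G, IsPGroup q K ∧ (S : Subgroup G) ≤ normalizer (K : Set G) ∧
      ∀ R : Subgroup G, IsPGroup q R → R ≤ normalizer (D : Set G) → R ≤ K := by
  classical
  haveI : Fact (Nat.Prime 2) := ⟨Nat.prime_two⟩
  haveI : Fact q.Prime := ⟨h.prime⟩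
  set X := normalizer (D : Set G) with hX
  let T := S.subtype hSD
  have hTc : normalizer ((T : Subgroup X) : Set X) ≤ centralizer ((T : Subgroup X) : Set X) := by
    intro g hg
    have hgN : (g : G) ∈ normalizer ((S : Subgroup G) : Set G) := by
      rw [mem_normalizer_iff]
      intro s
      constructor
      · intro hs
        exact (mem_normalizer_iff.1 hg ⟨s, hSD hs⟩).1 hs
      · intro hs
        have h3 := (mem_normalizer_iff''.1 hg (⟨(g : G) * s * (g : G)⁻¹, hSD hs⟩ : X)).1 hs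
        have e : ((g⁻¹ * (⟨(g : G) * s * (g : G)⁻¹, hSD hs⟩ : X) * g : X) : G) = s := by simp [mul_assoc]
        rw [← e]
        exact h3
    by_contra hgc
    obtain ⟨g', hg', ho, he⟩ := h.exists_odd_same S hgN
    obtain ⟨c, hc, hne⟩ : ∃ c ∈ (S : Subgroup G), g' * c * g'⁻¹ ≠ c := by
      by_contra hall
      push Not at hall
      refine hgc (mem_centralizer_iff.2 fun s hs => Subtype.ext ?_)
      show (s : G) * g = g * s
      have := (he s hs).trans (hall s hs)
      exact (mul_inv_eq_iff_eq_mul.1 this).symm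
    obtain ⟨hmove, -⟩ := h.cycle S hk hg' ho hc hne
    -- an odd power of `g` acts in the same way and normalises `D`
    obtain ⟨y, hyX, hyS, hyo, hye⟩ : ∃ y : G, y ∈ X ∧ y ∈ normalizer ((S : Subgroup G) : Set G) ∧
        Odd (orderOf y) ∧ ∀ s ∈ (S : Subgroup G), y * s * y⁻¹ = g' * s * g'⁻¹ := by
      by_cases hgo : Odd (orderOf (g : G))
      · exact ⟨g, g.2, hgN, hgo, he⟩
      have hg1 : (g : G) ≠ 1 := fun e => hgo (by rw [e]; simp)
      rcases h.ord _ hg1 with hp | hp
      · have hgS := h.mem_of_involution S hgN (by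
          rw [← pow_two, ← hp.eq_two_or_odd'.resolve_right hgo, pow_orderOf_eq_one])
        exact absurd (mem_centralizer_iff.2 fun s hs => Subtype.ext (h.comm_of_mem S hs hgS)) hgc
      · refine ⟨(g : G) ^ (q + 1), pow_mem g.2 _, pow_mem hgN _, ?_, fun s hs => ?_⟩
        · refine (h.odd_q).of_dvd_nat (orderOf_dvd_of_pow_eq_one ?_)
          obtain ⟨m, hm⟩ : Even (q + 1) := h.odd_q.add_one
          rw [← pow_mul, show (q + 1) * q = (2 * q) * m by rw [hm]; ring, pow_mul, ← hp,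
            pow_orderOf_eq_one, one_pow]
        · have hgq : (g : G) ^ q ∈ (S : Subgroup G) := h.mem_of_involution S (pow_mem hgN _)
            (by rw [← pow_add, ← two_mul, ← hp, pow_orderOf_eq_one])
          rw [← he s hs, pow_succ', mul_inv_rev,
            show (g : G) * (g : G) ^ q * s * (((g : G) ^ q)⁻¹ * (g : G)⁻¹) =
              (g : G) * ((g : G) ^ q * s * ((g : G) ^ q)⁻¹) * (g : G)⁻¹ by group,
            h.comm_of_mem S hgq hs, mul_inv_cancel_right]
    have hC := h.centralizes S hD hSD fun B hB hBi => by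
      obtain ⟨b, hb, hb1⟩ : ∃ b ∈ B, b ≠ 1 := by
        refine B.bot_or_exists_ne_one.resolve_left fun e => ?_
        rw [e, relIndex_bot_left, hk] at hBi
        omega
      refine ⟨y, hyS, hyX, hyo, b, hb, h.moved_hyperplane S hk hB hBi hb hb1 ?_⟩
      rw [hye b (hB hb)]
      exact hmove b (hB hb) hb1
    obtain ⟨d, hd, hd1⟩ := D.bot_or_exists_ne_one.resolve_left hD1
    refine hd1 (h.eq_one_of_centralizing S hW ?_ ?_)
    · exact mem_centralizer_iff.2 fun s hs => (mem_centralizer_iff.1 (hC hs) d hd).symm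
    · obtain ⟨m, hm⟩ := hD.exists_card_eq
      exact (h.odd_q.pow (n := m)).of_dvd_nat (hm ▸ orderOf_dvd_of_mem hd)
  obtain ⟨K₀, hKn, hodd, hKmem⟩ : ∃ K₀ : Subgroup X, K₀.Normal ∧ Odd (Nat.card K₀) ∧
      ∀ x : X, Odd (orderOf x) → x ∈ K₀ := by
    refine ⟨(MonoidHom.transferSylow T hTc).ker, MonoidHom.normal_ker _, Nat.not_even_iff_odd.1 fun he =>
      MonoidHom.not_dvd_card_ker_transferSylow T hTc (even_iff_two_dvd.1 he), fun x hx => ?_⟩
    rw [MonoidHom.mem_ker]
    refine Subtype.ext (CfsgLib.LocalEvenB.eq_one_of_mem_two T.2 (SetLike.coe_mem _) ?_)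
    refine hx.of_dvd_nat ?_
    rw [orderOf_coe]
    exact orderOf_map_dvd _ _
  refine ⟨K₀.map X.subtype, ?_, ?_, ?_⟩
  · refine h.isPGroup_of_normalized S (by rwa [card_map_of_injective X.subtype_injective]) ?_
    rw [le_normalizer_iff]
    intro s hs x hx
    obtain ⟨k, hk', rfl⟩ := hx
    exact ⟨⟨s, hSD hs⟩ * k * ⟨s, hSD hs⟩⁻¹, hKn.conj_mem k hk' _, rfl⟩
  · rw [le_normalizer_iff]
    intro s hs x hx
    obtain ⟨k, hk', rfl⟩ := hx
    exact ⟨⟨s, hSD hs⟩ * k * ⟨s, hSD hs⟩⁻¹, hKn.conj_mem k hk' _, rfl⟩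
  · intro R hR hRX x hx
    refine ⟨⟨x, hRX hx⟩, hKmem _ ?_, rfl⟩
    rw [Subgroup.orderOf_mk]
    obtain ⟨m, hm⟩ := hR.exists_card_eq
    exact (h.odd_q.pow (n := m)).of_dvd_nat (hm ▸ orderOf_dvd_of_mem hx)

/-- `S`-invariant `q`-subgroups. -/
def InvQ (q : ℕ) (S : Sylow 2 G) (R : Subgroup G) : Prop :=
  IsPGroup q R ∧ (S : Subgroup G) ≤ normalizer (R : Set G)

/-- Maximal `S`-invariant `q`-subgroups with nontrivial intersection are equal. -/
theorem eq_of_inter (hk : Nat.card (S : Subgroup G) = 4)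
    (hW : core (centralizer ((S : Subgroup G) : Set G)) = ⊥) {R₁ R₂ : Subgroup G}
    (h1 : Maximal (InvQ q S) R₁) (h2 : Maximal (InvQ q S) R₂) (hne : R₁ ⊓ R₂ ≠ ⊥) : R₁ = R₂ := by
  classical
  haveI : Fact q.Prime := ⟨h.prime⟩
  by_contra hcon
  let P : Subgroup G → Prop := fun D => D ≠ ⊥ ∧ ∃ A B : Subgroup G, Maximal (InvQ q S) A ∧
    Maximal (InvQ q S) B ∧ A ≠ B ∧ A ⊓ B = D
  obtain ⟨D, -, ⟨hD1, A, B, hA, hB, hAB, rfl⟩, hmax⟩ :=
    Finite.exists_le_maximal (p := P) (a := R₁ ⊓ R₂) ⟨hne, R₁, R₂, h1, h2, hcon, rfl⟩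
  obtain ⟨K, hKq, hKS, hK⟩ := h.exists_qgroup_normalizer S hk hW (hA.prop.1.to_le inf_le_left) hD1
    (CfsgLib.Signalizer.le_normalizer_inf hA.prop.2 hB.prop.2)
  obtain ⟨R₃, hKR, h3⟩ := Finite.exists_le_maximal (p := InvQ q S) (a := K) ⟨hKq, hKS⟩
  have key : ∀ A B : Subgroup G, Maximal (InvQ q S) A → Maximal (InvQ q S) B → A ≠ B →
      (∀ E, P E → A ⊓ B ≤ E → E ≤ A ⊓ B) → A ⊓ B ≠ ⊥ →
      (∀ R : Subgroup G, IsPGroup q R → R ≤ normalizer ((A ⊓ B : Subgroup G) : Set G) → R ≤ K) → A = R₃ := by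
    intro A B hA hB hAB hmax hne hK
    by_contra hA3
    have hlt : A ⊓ B < A := lt_of_le_of_ne inf_le_left fun e =>
      hAB (le_antisymm (e ▸ inf_le_right) (hA.le_of_ge hB.prop (e ▸ inf_le_right)))
    haveI := hA.prop.1.isNilpotent
    have hlt' : (A ⊓ B).subgroupOf A < ⊤ := lt_top_iff_ne_top.2 fun e => hlt.not_ge (subgroupOf_eq_top.1 e)
    obtain ⟨y, hy, hyD⟩ := SetLike.exists_of_lt (Group.normalizerCondition_of_isNilpotent _ hlt')
    have hyN : (y : G) ∈ A ⊓ normalizer ((A ⊓ B : Subgroup G) : Set G) := by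
      refine ⟨y.2, mem_normalizer_iff.2 fun x => ?_⟩
      constructor <;> intro hx
      · exact (mem_normalizer_iff.1 hy ⟨x, hx.1⟩).1 hx
      · have hxA : x ∈ A := by
          have := A.mul_mem (A.mul_mem (A.inv_mem y.2) hx.1) y.2
          simpa [mul_assoc] using this
        exact (mem_normalizer_iff.1 hy ⟨x, hxA⟩).2 hx
    have hle : A ⊓ B ≤ A ⊓ R₃ := le_inf inf_le_left
      ((hK _ (hA.prop.1.to_le inf_le_left) le_normalizer).trans hKR)
    refine hyD (hmax (A ⊓ R₃) ⟨fun e => hne (le_bot_iff.1 (e ▸ hle)), A, R₃, hA, h3, hA3, rfl⟩ hle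
      ⟨y.2, hKR (hK _ (hA.prop.1.to_le inf_le_left) inf_le_right hyN)⟩)
  refine hAB ((key A B hA hB hAB (fun E hE hle => hmax hE hle) hD1 hK).trans (key B A hB hA (Ne.symm hAB)
    (fun E hE hle => (inf_comm A B) ▸ hmax hE ((inf_comm A B) ▸ hle)) (by rwa [inf_comm]) (fun R hR hRn => hK R hR (by rwa [inf_comm]))).symm)

/-- A four Sylow 2-subgroup with trivial `O(C(S))` forces `PSL(2, F)`, `|F|` odd. -/
theorem exists_psl (hk : Nat.card (S : Subgroup G) = 4)
    (hW : core (centralizer ((S : Subgroup G) : Set G)) = ⊥) :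
    ∃ (F : Type) (_ : Field F) (_ : Fintype F), Odd (Fintype.card F) ∧
      Nonempty (G ≃* Matrix.ProjectiveSpecialLinearGroup (Fin 2) F) := by
  classical
  haveI : Fact (Nat.Prime 2) := ⟨Nat.prime_two⟩
  haveI : Fact q.Prime := ⟨h.prime⟩
  haveI := h.simple
  obtain ⟨t, ht, ht1⟩ := (Subgroup.bot_or_exists_ne_one (S : Subgroup G)).resolve_left (h.ne_bot S)
  have ht2 := h.orderOf_of_mem S ht ht1
  set C := centralizer ({t} : Set G) with hC
  set O := core C with hO
  have hSC : (S : Subgroup G) ≤ C := h.le_centralizer_of_mem S ht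
  have hSO : (S : Subgroup G) ≤ normalizer (O : Set G) := hSC.trans (le_normalizer_core _)
  have hOq : IsPGroup q O := h.isPGroup_of_odd (Or.inl ht2) (core_le _) (card_core _)
  have hOt : ∀ x ∈ O, t * x = x * t := fun x hx => (mem_centralizer_singleton_iff.1 (core_le _ hx)).symm
  have hodd : ∀ x ∈ O, Odd (orderOf x) := fun x hx => (card_core _).of_dvd_nat (orderOf_dvd_of_mem hx)
  obtain ⟨s, hs, hst⟩ : ∃ s ∈ (S : Subgroup G), s ∉ zpowers t := by
    by_contra hc
    push Not at hc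
    have := card_le_of_le (show (S : Subgroup G) ≤ zpowers t from hc)
    rw [hk, Nat.card_zpowers, ht2] at this
    omega
  have hS4 : ∀ x ∈ (S : Subgroup G), x ∉ zpowers t → zpowers t ⊔ zpowers x = (S : Subgroup G) := by
    intro x hx hxt
    have hle : zpowers t ⊔ zpowers x ≤ (S : Subgroup G) := sup_le (zpowers_le.2 ht) (zpowers_le.2 hx)
    refine eq_of_le_of_card_ge hle ?_
    have h1 : zpowers t < zpowers t ⊔ zpowers x := lt_of_le_of_ne le_sup_left fun e =>
      hxt (e ▸ mem_sup_right (mem_zpowers x))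
    obtain ⟨m, hm⟩ := card_dvd_of_le h1.le
    rw [Nat.card_zpowers, ht2] at hm
    rcases (show m = 0 ∨ m = 1 ∨ 2 ≤ m by omega) with rfl | rfl | hm2
    · exact absurd hm (by simp [Nat.card_pos.ne'])
    · exact absurd (eq_of_le_of_card_ge h1.le (by rw [Nat.card_zpowers, ht2, hm])) h1.ne
    · rw [hk, hm]; omega
  have hfpf : ∀ x ∈ (S : Subgroup G), x ∉ zpowers t → ∀ y ∈ O, x * y = y * x → y = 1 := by
    intro x hx hxt y hy hxy
    refine h.eq_one_of_centralizing S hW ?_ (hodd y hy)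
    have : (S : Subgroup G) ≤ centralizer ({y} : Set G) := by
      rw [← hS4 x hx hxt]
      exact sup_le (zpowers_le.2 (mem_centralizer_singleton_iff.2 (hOt y hy)))
        (zpowers_le.2 (mem_centralizer_singleton_iff.2 hxy))
    exact mem_centralizer_iff.2 fun z hz => mem_centralizer_singleton_iff.1 (this hz)
  have hinv : ∀ x ∈ (S : Subgroup G), x ∉ zpowers t → ∀ y ∈ O, x * y * x⁻¹ = y⁻¹ := by
    intro x hx hxt y hy
    have hxn : ∀ z ∈ O, x * z * x⁻¹ ∈ O := fun z hz => (mem_normalizer_iff.1 (hSO hx) z).1 hz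
    let ψ : O → O := fun z => z⁻¹ * ⟨x * z * x⁻¹, hxn z z.2⟩
    have hψ : Function.Injective ψ := by
      intro a b hab
      have h1 : (a : G)⁻¹ * (x * a * x⁻¹) = (b : G)⁻¹ * (x * b * x⁻¹) := congrArg Subtype.val hab
      have h2 : (a : G) * (b : G)⁻¹ = x * ((a : G) * (b : G)⁻¹) * x⁻¹ := by
        have h3 := congrArg (fun z => (a : G) * z * (x * (b : G) * x⁻¹)⁻¹) h1
        calc (a : G) * (b : G)⁻¹
            = (a : G) * ((b : G)⁻¹ * (x * b * x⁻¹)) * (x * (b : G) * x⁻¹)⁻¹ := by group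
          _ = (a : G) * ((a : G)⁻¹ * (x * a * x⁻¹)) * (x * (b : G) * x⁻¹)⁻¹ := h3.symm
          _ = _ := by group
      refine Subtype.ext (mul_inv_eq_one.1 (hfpf x hx hxt _ (mul_mem a.2 (inv_mem b.2)) ?_))
      exact mul_inv_eq_iff_eq_mul.1 h2.symm
    obtain ⟨z, hz⟩ := Finite.surjective_of_injective hψ ⟨y, hy⟩
    have hz' : (z : G)⁻¹ * (x * z * x⁻¹) = y := congrArg Subtype.val hz
    rw [← hz']
    have hxx : x * x = 1 := h.mul_self_of_mem S hx
    calc x * ((z : G)⁻¹ * (x * z * x⁻¹)) * x⁻¹ = x * (z : G)⁻¹ * x * z * (x * x)⁻¹ := by group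
      _ = x * (z : G)⁻¹ * x * z := by rw [hxx]; group
      _ = x * (z : G)⁻¹ * x⁻¹ * z := by rw [h.inv_of_mem S hx]
      _ = _ := by group
  have hOab : ∀ a ∈ O, ∀ b ∈ O, a * b = b * a := by
    intro a ha b hb
    have h1 := hinv s hs hst (a * b) (mul_mem ha hb)
    rw [show s * (a * b) * s⁻¹ = (s * a * s⁻¹) * (s * b * s⁻¹) by group, hinv s hs hst a ha,
      hinv s hs hst b hb, mul_inv_rev] at h1
    have h2 := congrArg Inv.inv h1
    simp only [mul_inv_rev, inv_inv] at h2
    exact h2.symm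
  have hOne : O ≠ ⊥ := by
    intro e
    obtain ⟨u, x, hu, hx, hcom⟩ := h.exists_pair
    haveI : Fact (Nat.Prime 2) := ⟨Nat.prime_two⟩
    obtain ⟨g, hg⟩ := IsPGroup.exists_le_sylow (G := G) (show IsPGroup 2 (zpowers u) from
      IsPGroup.of_card (n := 1) (by rw [Nat.card_zpowers, hu, pow_one]))
    obtain ⟨c, rfl⟩ := MulAction.exists_smul_eq G S g
    have huS : c⁻¹ * u * c ∈ (S : Subgroup G) := by
      have := hg (mem_zpowers u)
      rw [Sylow.coe_subgroup_smul] at this
      rw [CfsgLib.Core.mem_conj_smul_iff] at this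
      simpa using this
    have hu1 : c⁻¹ * u * c ≠ 1 := fun e1 => by
      have : u = 1 := by
        have := congrArg (fun z => c * z * c⁻¹) e1
        simpa [mul_assoc] using this
      rw [this, orderOf_one] at hu
      omega
    obtain ⟨y, hy, -, hya⟩ := h.exists_rho S hk huS hu1 ht ht1
    let d := y * c⁻¹
    have hdu : d * u * d⁻¹ = t := by
      rw [← hya]
      simp only [d]
      group
    have hxC : d * x * d⁻¹ ∈ C := by
      rw [hC, mem_centralizer_singleton_iff, ← hdu,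
        show d * x * d⁻¹ * (d * u * d⁻¹) = d * (x * u) * d⁻¹ by group, ← hcom.eq]
      group
    have hle := h.le_core_sup S (Or.inl ht2) le_rfl hSC
    rw [← hO, e, bot_sup_eq] at hle
    have hxN := (hle hxC).2
    have hdo : orderOf (d * x * d⁻¹) = q := by rw [CfsgLib.Signalizer.orderOf_conj, hx]
    by_cases hcen : d * x * d⁻¹ * s * (d * x * d⁻¹)⁻¹ = s
    · have : d * x * d⁻¹ = 1 := h.eq_one_of_centralizing S hW (by
        have hle' : (S : Subgroup G) ≤ centralizer ({d * x * d⁻¹} : Set G) := by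
          rw [← hS4 s hs hst]
          exact sup_le (zpowers_le.2 (mem_centralizer_singleton_iff.2
            (mem_centralizer_singleton_iff.1 hxC).symm))
            (zpowers_le.2 (mem_centralizer_singleton_iff.2 (mul_inv_eq_iff_eq_mul.1 hcen).symm))
        exact mem_centralizer_iff.2 fun z hz => mem_centralizer_singleton_iff.1 (hle' hz))
        (by rw [hdo]; exact h.odd_q)
      rw [this, orderOf_one] at hdo
      exact h.prime.one_lt.ne hdo
    · exact (h.cycle S hk hxN (by rw [hdo]; exact h.odd_q) hs hcen).1 t ht ht1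
        (mul_inv_eq_iff_eq_mul.2 (mem_centralizer_singleton_iff.1 hxC))
  -- the maximal `S`-invariant `q`-subgroup containing `O` is `O`
  obtain ⟨R, hOR, hR⟩ := Finite.exists_le_maximal (p := InvQ q S) (a := O) ⟨hOq, hSO⟩
  have hRO : R ≤ O := by
    have hRo : Odd (Nat.card R) := by
      obtain ⟨m, hm⟩ := hR.prop.1.exists_card_eq
      rw [hm]; exact h.odd_q.pow
    haveI := (h.elem S).1
    refine CfsgLib.LocalEven.le_of_centralizers_le (p := 2) (A := (S : Subgroup G))
      (h.elem S).2 (h.four_le S) hR.prop.2 hRo.not_two_dvd_nat fun a ha ha1 => ?_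
    set V := R ⊓ centralizer ({a} : Set G) with hV
    have hSV : (S : Subgroup G) ≤ normalizer (V : Set G) :=
      CfsgLib.Signalizer.le_normalizer_inf hR.prop.2 ((h.le_centralizer_of_mem S ha).trans le_normalizer)
    have hVa : V ≤ core (centralizer ({a} : Set G)) := h.le_core S (Or.inl (h.orderOf_of_mem S ha ha1)) le_rfl
      (h.le_centralizer_of_mem S ha) inf_le_right (hRo.of_dvd_nat (card_dvd_of_le inf_le_left)) hSV
    by_cases hat : a = t
    · subst hat; exact hVa
    by_contra hVO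
    obtain ⟨y, hy, hyo, hya⟩ := h.exists_rho S hk ht ht1 ha ha1
    -- conjugation by `y` fixes `R`
    let f := (MulAut.conj y).toMonoidHom
    have hyS : ∀ {K : Subgroup G}, (S : Subgroup G) ≤ normalizer (K : Set G) →
        ∀ z : G, z ∈ normalizer ((S : Subgroup G) : Set G) →
        (S : Subgroup G) ≤ normalizer ((K.map (MulAut.conj z).toMonoidHom : Subgroup G) : Set G) := by
      intro K hK z hz σ hσ
      rw [mem_normalizer_iff]
      have hσ' : z⁻¹ * σ * z ∈ (S : Subgroup G) := (mem_normalizer_iff''.1 hz σ).1 hσ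
      intro w
      constructor
      · rintro ⟨k, hk', rfl⟩
        refine ⟨(z⁻¹ * σ * z) * k * (z⁻¹ * σ * z)⁻¹, (mem_normalizer_iff.1 (hK hσ') k).1 hk', ?_⟩
        simp only [MulEquiv.coe_toMonoidHom, MulAut.conj_apply]
        group
      · rintro ⟨k, hk', hkw⟩
        refine ⟨(z⁻¹ * σ * z)⁻¹ * k * (z⁻¹ * σ * z), (mem_normalizer_iff''.1 (hK hσ') k).1 hk', ?_⟩
        simp only [MulEquiv.coe_toMonoidHom, MulAut.conj_apply] at hkw ⊢
        have hw : w = σ⁻¹ * (σ * w * σ⁻¹) * σ := by group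
        rw [hw, ← hkw]
        group
    have hR' : Maximal (InvQ q S) (R.map f) := by
      refine ⟨⟨hR.prop.1.map f, hyS hR.prop.2 y hy⟩, fun K hK hle => ?_⟩
      have hmm : ∀ H : Subgroup G, H ≤ (H.map (MulAut.conj y⁻¹).toMonoidHom).map f := by
        intro H z hz
        exact ⟨y⁻¹ * z * y, ⟨z, hz, by simp⟩, by simp [f, mul_assoc]⟩
      refine (hmm K).trans (map_mono (hR.le_of_ge ⟨hK.1.map _, hyS hK.2 _ (inv_mem hy)⟩ ?_))
      intro r hr
      exact ⟨f r, hle ⟨r, hr, rfl⟩, by simp [f, mul_assoc]⟩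
    have hca : core (centralizer ({a} : Set G)) ≤ R.map f := by
      intro z hz
      have hz' : y⁻¹ * z * y⁻¹⁻¹ ∈ O := by
        refine map_core_of_conj _ _ y⁻¹ (fun w => ?_) hz
        rw [hC, mem_centralizer_singleton_iff, mem_centralizer_singleton_iff, ← hya, inv_inv]
        constructor <;> intro e
        · calc y * w * y⁻¹ * (y * t * y⁻¹) = y * (w * t) * y⁻¹ := by group
            _ = _ := by rw [e]; group
        · calc w * t = y⁻¹ * (y * w * y⁻¹ * (y * t * y⁻¹)) * y := by group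
            _ = _ := by rw [e]; group
      exact ⟨_, hOR hz', by simp [f, mul_assoc]⟩
    have hne : R ⊓ R.map f ≠ ⊥ := fun e => hVO (le_trans (le_inf inf_le_left (hVa.trans hca)) (e.le.trans bot_le))
    have heq := h.eq_of_inter S hk hW hR hR' hne
    have hyR : y ∈ normalizer (R : Set G) := by
      rw [CfsgLib.Core.mem_normalizer_iff_conj_smul_eq, CfsgLib.Core.conj_smul_eq_map]
      exact heq.symm
    have hyt : y * t * y⁻¹ ≠ t := by rw [hya]; exact hat
    obtain ⟨hmove, -⟩ := h.cycle S hk hy hyo ht hyt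
    have hC' := h.centralizes S hR.prop.1 hR.prop.2 fun B hB hBi => by
      obtain ⟨b, hb, hb1⟩ : ∃ b ∈ B, b ≠ 1 := by
        refine B.bot_or_exists_ne_one.resolve_left fun e => ?_
        rw [e, relIndex_bot_left, hk] at hBi
        omega
      exact ⟨y, hy, hyR, hyo, b, hb, h.moved_hyperplane S hk hB hBi hb hb1 (hmove b (hB hb) hb1)⟩
    obtain ⟨z, hz, hz1⟩ := O.bot_or_exists_ne_one.resolve_left hOne
    exact hz1 (h.eq_one_of_centralizing S hW
      (mem_centralizer_iff.2 fun σ hσ => (mem_centralizer_iff.1 (hC' hσ) z (hOR hz)).symm) (hodd z hz))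
  -- the Brauer-Suzuki-Wall hypotheses
  have hcard : ∀ x : (S : Subgroup G), x ∈ (⊤ : Subgroup (S : Subgroup G)) → x * x = 1 := fun x _ =>
    Subtype.ext (h.mul_self_of_mem S x.2)
  haveI hK : IsKleinFour (S : Subgroup G) :=
    { card_four := hk
      exponent_two := by
        haveI : Nontrivial (S : Subgroup G) := Finite.one_lt_card_iff_nontrivial.1 (by rw [hk]; norm_num)
        refine Monoid.exponent_eq_prime_iff Nat.prime_two |>.2 fun g hg => ?_
        exact orderOf_eq_prime (by rw [pow_two]; exact hcard g (mem_top _)) hg }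
  have hO' : O = (Cfsg.oddCore ↥C).map C.subtype := rfl
  refine Cfsg.Agent.S0508.result S 2 le_rfl (IsKleinFour.nonempty_mulEquiv) t ht2 ht
    (fun x hx => h.comm_of_mem S hx ht) O hO' (fun _ => ?_) (fun x hx hxO y hy => ?_) (fun Y hYO hY1 => ?_)
  · have he : (S : Subgroup G) ⊓ centralizer (O : Set G) = zpowers t := by
      refine le_antisymm ?_ (le_inf (zpowers_le.2 ht) (zpowers_le.2 (mem_centralizer_iff.2 fun y hy => (hOt y hy).symm)))
      rintro x ⟨hx, hxO⟩
      by_contra hxt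
      obtain ⟨y, hy, hy1⟩ := O.bot_or_exists_ne_one.resolve_left hOne
      exact hy1 (hfpf x hx hxt y hy (mem_centralizer_iff.1 hxO y hy).symm)
    rw [he]
    refine ⟨inferInstance, ?_⟩
    have h2 := relIndex_mul_relIndex ⊥ (zpowers t) (S : Subgroup G) bot_le (zpowers_le.2 ht)
    rw [relIndex_bot_left, relIndex_bot_left, Nat.card_zpowers, ht2, hk] at h2
    omega
  · refine hinv x hx (fun hxt => hxO ?_) y hy
    exact (zpowers_le.2 (mem_centralizer_iff.2 fun y hy => (hOt y hy).symm)) hxt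
  · obtain ⟨y, hy, hy1⟩ := Y.bot_or_exists_ne_one.resolve_left hY1
    have hyO := hYO hy
    have hyq : orderOf y = q :=
      orderOf_eq_prime (h.pow_q_eq_one (Or.inl ht2) (hOt y hyO) (hodd y hyO)) hy1
    set Cy := centralizer ({y} : Set G) with hCy
    have htCy : t ∈ Cy := mem_centralizer_singleton_iff.2 (hOt y hyO)
    haveI := Fact.mk h.prime
    -- the Sylow 2-subgroup of `C(y)` is `⟨t⟩`
    have htwo : ∀ P : Subgroup G, IsPGroup 2 P → t ∈ P → P ≤ Cy → P ≤ zpowers t := by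
      intro P hP htP hPC x hxP
      have hPt : P ≤ C := fun z hz => mem_centralizer_singleton_iff.2
        (CfsgLib.Signalizer.elementary_comm (h.two_group hP) hz htP)
      let T := S.subtype hSC
      obtain ⟨Q, hQ⟩ := IsPGroup.exists_le_sylow (G := C) (hP.comap_of_injective C.subtype C.subtype_injective)
      obtain ⟨c, hc⟩ := MulAction.exists_smul_eq C Q T
      obtain ⟨k, hkO, n, hnS, hkn⟩ : ∃ k ∈ O, ∃ n ∈ C ⊓ normalizer ((S : Subgroup G) : Set G), (c : G) = n * k := by
        have hle := h.le_core_sup S (Or.inl ht2) le_rfl hSC c.2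
        rw [← hC, ← hO, sup_comm] at hle
        obtain ⟨n, hn, k, hk', e⟩ := (CfsgLib.Core.mem_sup_iff_mul
          (inf_le_left.trans (le_normalizer_core C))).1 hle
        exact ⟨k, hk', n, hn, e⟩
      have hxs : k * x * k⁻¹ ∈ (S : Subgroup G) := by
        have h1 : c * ⟨x, hPt hxP⟩ * c⁻¹ ∈ (T : Subgroup C) := by
          rw [← hc, Sylow.coe_subgroup_smul]
          exact ⟨⟨x, hPt hxP⟩, hQ hxP, rfl⟩
        have h2 : (n * k) * x * (n * k)⁻¹ ∈ (S : Subgroup G) := hkn ▸ h1
        refine (mem_normalizer_iff.1 hnS.2 _).2 ?_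
        convert h2 using 1
        group
      by_contra hxt
      have hkt : k * x * k⁻¹ ∉ zpowers t := by
        rintro ⟨i, hi⟩
        refine hxt ⟨i, ?_⟩
        show t ^ i = x
        have : t ^ i * k = k * t ^ i := ((show Commute t k from hOt k hkO).zpow_left i).eq
        calc t ^ i = k⁻¹ * (k * t ^ i) := by group
          _ = k⁻¹ * (t ^ i * k) := by rw [this]
          _ = k⁻¹ * (k * x * k⁻¹ * k) := by rw [← hi]
          _ = x := by group
      refine hy1 (hfpf _ hxs hkt y hyO ?_)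
      have hxy : x * y = y * x := mem_centralizer_singleton_iff.1 (hPC hxP)
      calc k * x * k⁻¹ * y = k * x * (k⁻¹ * y) := by group
        _ = k * x * (y * k⁻¹) := by rw [hOab k⁻¹ (inv_mem hkO) y hyO]
        _ = k * (x * y) * k⁻¹ := by group
        _ = k * (y * x) * k⁻¹ := by rw [hxy]
        _ = (k * y) * x * k⁻¹ := by group
        _ = (y * k) * x * k⁻¹ := by rw [hOab k hkO y hyO]
        _ = y * (k * x * k⁻¹) := by group
    -- `C(y)` is `O × ⟨t⟩`
    obtain ⟨P₀, hP₀⟩ := IsPGroup.exists_le_sylow (G := Cy)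
      (IsPGroup.of_card (p := 2) (n := 1) (G := zpowers (⟨t, htCy⟩ : Cy))
        (by rw [Nat.card_zpowers, Subgroup.orderOf_mk, ht2, pow_one]))
    have hP₀' : (P₀ : Subgroup Cy).map Cy.subtype ≤ zpowers t :=
      htwo _ (P₀.2.map _) ⟨⟨t, htCy⟩, hP₀ (mem_zpowers _), rfl⟩ (map_subtype_le _)
    have hsyl2 : Nat.card (P₀ : Subgroup Cy) = 2 := by
      refine le_antisymm ?_ ?_
      · have h4 := card_le_of_le hP₀'
        rwa [card_map_of_injective Cy.subtype_injective, Nat.card_zpowers, ht2] at h4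
      · have h4 := card_le_of_le hP₀
        rwa [Nat.card_zpowers, Subgroup.orderOf_mk, ht2] at h4
    have hsolv : Group.IsSolvable Cy := h.solvable_centralizer (Or.inr hyq) le_rfl
    haveI hcP : IsMulCommutative (P₀ : Subgroup Cy) := ⟨⟨fun a b => Subtype.ext (Subtype.ext (CfsgLib.Signalizer.elementary_comm (h.two_group (P₀.2.map Cy.subtype)) ⟨_, a.2, rfl⟩ ⟨_, b.2, rfl⟩))⟩⟩
    have hsup := CfsgLib.Techniques.PPrimeAbelian.oddCore_sup_normalizer hsolv P₀ hcP
    have hNC : ∀ z ∈ Cy, z * t * z⁻¹ = t → z ∈ C := fun z _ hz =>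
      mem_centralizer_singleton_iff.2 (mul_inv_eq_iff_eq_mul.1 hz)
    set P := core Cy with hP
    have hCyz : Cy = centralizer ((zpowers y : Subgroup G) : Set G) := by
      rw [hCy, zpowers_eq_closure, centralizer_closure]
    have hSP : (S : Subgroup G) ≤ normalizer (P : Set G) := by
      refine le_trans ?_ (normalizer_le_normalizer_core _)
      rw [hCyz]
      refine le_trans ?_ (CfsgLib.Signalizer.normalizer_le_normalizer_centralizer_set _)
      rw [le_normalizer_iff]
      intro σ hσ z hz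
      obtain ⟨i, rfl⟩ := hz
      rw [← conj_zpow]
      by_cases hσt : σ ∈ zpowers t
      · obtain ⟨j, rfl⟩ := hσt
        rw [mul_inv_eq_iff_eq_mul.2 ((show Commute t y from hOt y hyO).zpow_left j).eq]
        exact zpow_mem (mem_zpowers y) i
      · rw [hinv σ hσ hσt y hyO]
        exact zpow_mem (inv_mem (mem_zpowers y)) i
    have hPq : IsPGroup q P := h.isPGroup_of_odd (Or.inr hyq) (core_le _) (card_core _)
    have hyP : y ∈ P := by
      have hyC : y ∈ Cy := mem_centralizer_singleton_iff.2 rfl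
      haveI : (zpowers (⟨y, hyC⟩ : Cy)).Normal := ⟨fun z hz g => by
        obtain ⟨i, rfl⟩ := hz
        have hg : g * (⟨y, hyC⟩ : Cy) = ⟨y, hyC⟩ * g := Subtype.ext (mem_centralizer_singleton_iff.1 g.2)
        show g * (⟨y, hyC⟩ : Cy) ^ i * g⁻¹ ∈ _
        rw [← conj_zpow, mul_inv_eq_iff_eq_mul.2 hg]
        exact zpow_mem (mem_zpowers _) i⟩
      refine ⟨⟨y, hyC⟩, CfsgLib.Core.le_pPrimeCore (p := 2) ?_ (mem_zpowers _), rfl⟩
      rw [Nat.card_zpowers, Subgroup.orderOf_mk, hyq]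
      exact Nat.coprime_two_right.2 h.odd_q
    obtain ⟨R', hPR', hR'⟩ := Finite.exists_le_maximal (p := InvQ q S) (a := P) ⟨hPq, hSP⟩
    have hRR : R' = R := h.eq_of_inter S hk hW hR' hR fun e =>
      hy1 (mem_bot.1 (e.le ⟨hPR' hyP, hOR hyO⟩))
    have hPC : P ≤ C := fun z hz => core_le C (hRO (hRR ▸ hPR' hz))
    have hCyC : Cy ≤ C := by
      intro z hz
      have hm : (⟨z, hz⟩ : Cy) ∈ Cfsg.oddCore ↥Cy ⊔ normalizer ((P₀ : Subgroup Cy) : Set Cy) :=
        hsup.symm ▸ mem_top _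
      obtain ⟨n, hn, k, hk', e⟩ := (CfsgLib.Core.mem_sup_iff_mul'
        (H := normalizer ((P₀ : Subgroup Cy) : Set Cy)) (N := Cfsg.oddCore ↥Cy) (by
          haveI := CfsgLib.Core.normal_pPrimeCore 2 Cy
          exact le_top.trans (normalizer_eq_top (Cfsg.oddCore ↥Cy)).ge)).1 (sup_comm (Cfsg.oddCore ↥Cy) _ ▸ hm)
      have hnC : (n : G) ∈ C := hPC ⟨n, hn, rfl⟩
      have hkC : (k : G) ∈ C := by
        have hkt := (mem_normalizer_iff.1 hk' ⟨t, htCy⟩).1 (hP₀ (mem_zpowers _))
        obtain ⟨i, hi⟩ := hP₀' ⟨_, hkt, rfl⟩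
        refine mem_centralizer_singleton_iff.2 (mul_inv_eq_iff_eq_mul.1 ?_)
        rcases Int.even_or_odd' i with ⟨j, rfl | rfl⟩
        · have h3 : (k : G) * t * (k : G)⁻¹ = 1 := by
            rw [show (k : G) * t * (k : G)⁻¹ = _ from hi.symm]
            simp [zpow_mul, pow_two, h.mul_self_of_mem S ht]
          exact absurd (by simpa [mul_assoc] using congrArg (fun z => (k : G)⁻¹ * z * k) h3) ht1
        · rw [show (k : G) * t * (k : G)⁻¹ = _ from hi.symm]
          simp [zpow_add, zpow_mul, pow_two, h.mul_self_of_mem S ht]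
      rw [show z = (n : G) * k from congrArg Subtype.val e]
      exact mul_mem hnC hkC
    intro g hg
    rw [mem_centralizer_singleton_iff]
    set t' := g * t * g⁻¹ with ht'
    have ht'2 : t' * t' = 1 := by
      rw [ht', show g * t * g⁻¹ * (g * t * g⁻¹) = g * (t * t) * g⁻¹ by group, h.mul_self_of_mem S ht]
      group
    have ht'y : t' ∈ Cy := by
      rw [hCy, mem_centralizer_singleton_iff]
      have hgy : g⁻¹ * y * g ∈ Y := (mem_normalizer_iff''.1 hg y).1 hy
      have hcm := hOt _ (hYO hgy)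
      calc t' * y = g * (t * (g⁻¹ * y * g)) * g⁻¹ := by rw [ht']; group
        _ = g * ((g⁻¹ * y * g) * t) * g⁻¹ := by rw [hcm]
        _ = y * t' := by rw [ht']; group
    have htt' : t' * t = t * t' := mem_centralizer_singleton_iff.1 (hCyC ht'y)
    have hpair : IsPGroup 2 ↥(zpowers t ⊔ zpowers t') := by
      refine IsPGroup.to_sup_of_normal_right' (IsPGroup.of_card (n := 1) (by rw [Nat.card_zpowers, ht2, pow_one]))
        (IsPGroup.of_card (n := 1) (by
          rw [Nat.card_zpowers, pow_one]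
          refine orderOf_eq_prime (by rw [pow_two]; exact ht'2) ?_
          intro e
          exact ht1 (by simpa [ht', mul_assoc] using congrArg (fun z => g⁻¹ * z * g) e))) ?_
      refine (zpowers_le.2 ?_)
      refine centralizer_le_normalizer _ (mem_centralizer_iff.2 ?_)
      rintro _ ⟨i, rfl⟩
      exact ((show Commute t' t from htt').zpow_left i).eq
    obtain ⟨i, hi⟩ := htwo _ hpair (mem_sup_left (mem_zpowers t))
      (sup_le (zpowers_le.2 htCy) (zpowers_le.2 ht'y)) (mem_sup_right (mem_zpowers t'))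
    have ht'1 : t' = t := by
      rcases Int.even_or_odd' i with ⟨j, rfl | rfl⟩
      · have h3 : t' = 1 := by
          rw [← hi]
          simp [zpow_mul, pow_two, h.mul_self_of_mem S ht]
        exact absurd (by simpa [ht', mul_assoc] using congrArg (fun z => g⁻¹ * z * g) h3) ht1
      · rw [← hi]
        simp [zpow_add, zpow_mul, pow_two, h.mul_self_of_mem S ht]
    exact mul_inv_eq_iff_eq_mul.1 ht'1

end Hyp

end CfsgLib.Known.OneComposite
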